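import Cfsg.Agent.Lib.MaxClassLin.Defs

/-!
# The flag and the layers of a uniserial system

Uniseriality of the module and of the maximal subgroup, the orders of their layers, and the
description of the Sylow subgroup as the group acting trivially on the factors of the flag.
-/

set_option autoImplicit false
set_option linter.unusedSectionVars false
set_option linter.style.haveILetI false

namespace Cfsg.Agent.MaxClassLin

open scoped commutatorElement

variable {p : ℕ} [hp : Fact p.Prime] {X : Type*} [Group X] {V : Type*} [AddCommGroup V]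
  [DistribMulAction X V]

namespace Sys

variable (S : Sys p X V)

omit hp in
theorem W_succ_le (l : ℕ) : S.W (l + 1) ≤ S.W l := S.W_anti (Nat.le_succ l)

omit hp in
theorem smul_mem_W {t : X} (ht : t ∈ S.T) {l : ℕ} {v : V} (hv : v ∈ S.W l) : t • v ∈ S.W l := by
  have := (S.W l).add_mem (S.W_succ_le l (S.stab t ht l v hv)) hv
  rwa [sub_add_cancel] at this

omit hp in
theorem lev_le_T (k : ℕ) : S.lev k ≤ S.T := (S.lev_anti (Nat.zero_le k)).trans S.lev_le

theorem card_W {l : ℕ} (hl : l ≤ S.d) : Nat.card (S.W l) = p ^ (S.d - l) := by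
  obtain ⟨n, hn⟩ := Nat.exists_eq_add_of_le hl
  rw [hn, Nat.add_sub_cancel_left]
  induction n generalizing l with
  | zero =>
    rw [S.W_bot l (by omega)]
    simp
  | succ n ih =>
    have h := ih (l := l + 1) (by omega) (by omega)
    have h2 := AddSubgroup.relIndex_mul_relIndex ⊥ (S.W (l + 1)) (S.W l) bot_le (S.W_succ_le l)
    rw [AddSubgroup.relIndex_bot_left, AddSubgroup.relIndex_bot_left, h, S.W_index l (by omega)] at h2
    rw [← h2, pow_succ]

include S hp in
theorem finite_V : Finite V := by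
  have h : Nat.card V = p ^ S.d := by
    rw [← AddSubgroup.card_top (G := V), ← S.W_zero, S.card_W (Nat.zero_le _), Nat.sub_zero]
  exact Nat.finite_of_card_ne_zero (by rw [h]; exact pow_ne_zero _ hp.out.ne_zero)

theorem exists_exact {l : ℕ} (hl : l < S.d) : ∃ e ∈ S.W l, e ∉ S.W (l + 1) := by
  by_contra h
  push Not at h
  have := S.W_index l hl
  rw [AddSubgroup.relIndex_eq_one.2 h] at this
  exact hp.out.one_lt.ne this

/-- Modulo the next layer a layer is generated by any element outside it. -/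
theorem exists_nsmul {l : ℕ} {e v : V} (he : e ∈ S.W l) (he1 : e ∉ S.W (l + 1)) (hv : v ∈ S.W l) :
    ∃ c : ℕ, v - c • e ∈ S.W (l + 1) := by
  have hl : l < S.d := by
    by_contra hc
    rw [S.W_bot l (not_lt.1 hc), AddSubgroup.mem_bot] at he
    exact he1 (he ▸ zero_mem _)
  set U := S.W (l + 1) ⊔ AddSubgroup.zmultiples e with hU
  have hUle : U ≤ S.W l := sup_le (S.W_succ_le l) (AddSubgroup.zmultiples_le.2 he)
  have h2 := AddSubgroup.relIndex_mul_relIndex (S.W (l + 1)) U (S.W l) le_sup_left hUle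
  rw [S.W_index l hl] at h2
  have hU1 : U.relIndex (S.W l) = 1 := by
    rcases hp.out.eq_one_or_self_of_dvd _ (Dvd.intro _ h2) with h | h
    · refine absurd (AddSubgroup.relIndex_eq_one.1 h ?_) he1
      exact AddSubgroup.mem_sup_right (AddSubgroup.mem_zmultiples e)
    · rw [h] at h2
      exact mul_left_cancel₀ hp.out.ne_zero (h2.trans (mul_one p).symm)
  obtain ⟨w, hw, y, hy, rfl⟩ := AddSubgroup.mem_sup.1 (AddSubgroup.relIndex_eq_one.1 hU1 hv)
  obtain ⟨z, rfl⟩ := AddSubgroup.mem_zmultiples_iff.1 hy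
  refine ⟨(z % (p : ℤ)).toNat, ?_⟩
  have hz : (((z % (p : ℤ)).toNat : ℕ) : ℤ) = z % (p : ℤ) :=
    Int.toNat_of_nonneg (Int.emod_nonneg _ (by exact_mod_cast hp.out.ne_zero))
  have he0 : ((p : ℤ) * (z / (p : ℤ))) • e = 0 := by
    rw [mul_comm, mul_smul, natCast_zsmul, S.tors, smul_zero]
  have hze : ((z % (p : ℤ)).toNat) • e = z • e := by
    calc ((z % (p : ℤ)).toNat) • e = (z % (p : ℤ)) • e := by rw [← natCast_zsmul, hz]
      _ = (z % (p : ℤ)) • e + ((p : ℤ) * (z / (p : ℤ))) • e := by rw [he0, add_zero]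
      _ = z • e := by rw [← add_smul, Int.emod_add_mul_ediv]
  rw [hze, add_sub_cancel_right]
  exact hw

theorem x_moves {l : ℕ} {v : V} (hl : l + 2 ≤ S.d) (hv : v ∈ S.W l) (hv1 : v ∉ S.W (l + 1)) :
    S.x • v - v ∈ S.W (l + 1) ∧ S.x • v - v ∉ S.W (l + 2) :=
  ⟨S.stab S.x S.x_mem l v hv, fun h => hv1 (S.x_exact l hl v hv h)⟩

/-- The layer `l + 1` consists of the differences of `x` on the layer `l`. -/
theorem exists_dif : ∀ (n l : ℕ), S.d ≤ l + n → ∀ u ∈ S.W (l + 1), ∃ v ∈ S.W l, S.x • v - v = u := by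
  intro n
  induction n with
  | zero =>
    intro l hl u hu
    rw [S.W_bot (l + 1) (by omega), AddSubgroup.mem_bot] at hu
    exact ⟨0, zero_mem _, by rw [hu, smul_zero, sub_zero]⟩
  | succ n ih =>
    intro l hl u hu
    rcases lt_or_ge (l + 1) S.d with hl1 | hl1
    · obtain ⟨e, he, he1⟩ := S.exists_exact (l := l) (by omega)
      obtain ⟨h1, h2⟩ := S.x_moves (by omega) he he1
      obtain ⟨c, hc⟩ := S.exists_nsmul h1 h2 hu
      obtain ⟨w, hw, hwu⟩ := ih (l + 1) (by omega) _ hc
      refine ⟨c • e + w, add_mem (nsmul_mem he c) (S.W_succ_le l hw), ?_⟩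
      rw [smul_add, smul_comm S.x c e]
      calc c • (S.x • e) + S.x • w - (c • e + w) = c • (S.x • e - e) + (S.x • w - w) := by
            rw [smul_sub]; abel
        _ = u := by rw [hwu]; abel
    · rw [S.W_bot (l + 1) hl1, AddSubgroup.mem_bot] at hu
      exact ⟨0, zero_mem _, by rw [hu, smul_zero, sub_zero]⟩

theorem exists_dif' {l : ℕ} {u : V} (hu : u ∈ S.W (l + 1)) : ∃ v ∈ S.W l, S.x • v - v = u :=
  S.exists_dif S.d l (by omega) u hu

/-- A subgroup invariant under `x` containing an element exactly in a layer contains the layer. -/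
theorem W_le_of_mem {U : AddSubgroup V} (hU : ∀ v ∈ U, S.x • v ∈ U) :
    ∀ (n l : ℕ), S.d ≤ l + n → ∀ u ∈ U, u ∈ S.W l → u ∉ S.W (l + 1) → S.W l ≤ U := by
  intro n
  induction n with
  | zero =>
    intro l hl u hu h1 h2
    rw [S.W_bot l (by omega)]
    exact bot_le
  | succ n ih =>
    intro l hl u hu h1 h2 v hv
    obtain ⟨c, hc⟩ := S.exists_nsmul h1 h2 hv
    have hnext : S.W (l + 1) ≤ U := by
      rcases lt_or_ge (l + 1) S.d with hl1 | hl1
      · obtain ⟨h3, h4⟩ := S.x_moves (by omega) h1 h2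
        exact ih (l + 1) (by omega) _ (sub_mem (hU u hu) hu) h3 h4
      · rw [S.W_bot (l + 1) hl1]
        exact bot_le
    have := add_mem (hnext hc) (nsmul_mem hu c)
    rwa [sub_add_cancel] at this

/-- The module is uniserial. -/
theorem eq_W {U : AddSubgroup V} (hU : ∀ v ∈ U, S.x • v ∈ U) : ∃ l ≤ S.d, U = S.W l := by
  classical
  rcases eq_or_ne U ⊥ with h | h
  · exact ⟨S.d, le_rfl, by rw [h, S.W_bot S.d le_rfl]⟩
  have hex : ∃ l, ¬ U ≤ S.W (l + 1) := ⟨S.d, by rw [S.W_bot (S.d + 1) (by omega), le_bot_iff]; exact h⟩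
  set l := Nat.find hex with hl
  have h1 : U ≤ S.W l := by
    rcases Nat.eq_zero_or_pos l with h0 | h0
    · rw [h0, S.W_zero]; exact le_top
    · obtain ⟨m, hm⟩ := Nat.exists_eq_succ_of_ne_zero h0.ne'
      have := Nat.find_min hex (m := m) (by omega)
      rw [not_not] at this
      rw [hm]
      exact this
  obtain ⟨u, hu, hu1⟩ := Set.not_subset.1 (Nat.find_spec hex)
  have hld : l ≤ S.d := Nat.find_min' hex (by
    rw [S.W_bot (S.d + 1) (by omega), le_bot_iff]; exact h)
  exact ⟨l, hld, le_antisymm h1 (S.W_le_of_mem hU S.d l (by omega) u hu (h1 hu) hu1)⟩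

theorem mem_of_dif_mem {H : Subgroup X} {U : AddSubgroup V} {h : X} (_hh : h ∈ H)
    (hd : ∀ v ∈ U, h • v - v ∈ U) {v : V} (hv : v ∈ U) : h • v ∈ U := by
  have := add_mem (hd v hv) hv
  rwa [sub_add_cancel] at this

/-! ### The layers of the maximal subgroup -/

/-- A subgroup containing the commutators of a layer with `x` contains the next layer. -/
theorem lev_succ_le : ∀ (n k : ℕ), S.i ≤ k + n + 1 → ∀ H : Subgroup X,
    (∀ a ∈ S.lev k, ⁅a, S.x⁆ ∈ H) → S.lev (k + 1) ≤ H := by
  intro n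
  induction n with
  | zero => intro k hk H _; rw [S.lev_bot (k + 1) (by omega)]; exact bot_le
  | succ n ih =>
    intro k hk H hH
    rcases lt_or_ge (k + 2) S.i with hk2 | hk2
    · have hnext : S.lev (k + 2) ≤ H :=
        ih (k + 1) (by omega) H fun a ha => hH a (S.lev_anti (Nat.le_succ k) ha)
      obtain ⟨a, ha, ha1⟩ : ∃ a ∈ S.lev k, a ∉ S.lev (k + 1) := by
        by_contra hc
        push Not at hc
        have := S.lev_index k (by omega)
        rw [Subgroup.relIndex_eq_one.2 hc] at this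
        exact hp.out.one_lt.ne this
      have hc2 : ⁅a, S.x⁆ ∉ S.lev (k + 2) := fun hc => ha1 (S.x_comm_exact k hk2 a ha hc)
      have hle : H ⊓ S.lev (k + 1) ≤ S.lev (k + 1) := inf_le_right
      have h2 := Subgroup.relIndex_mul_relIndex (S.lev (k + 2)) (H ⊓ S.lev (k + 1)) (S.lev (k + 1))
        (le_inf hnext (S.lev_anti (Nat.le_succ _))) hle
      rw [show k + 2 = k + 1 + 1 from rfl, S.lev_index (k + 1) (by omega)] at h2
      rcases hp.out.eq_one_or_self_of_dvd _ (Dvd.intro _ h2) with h | h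
      · exact absurd (Subgroup.relIndex_eq_one.1 h
          ⟨hH a ha, S.x_comm k a ha⟩) hc2
      · rw [h] at h2
        have h1 := mul_left_cancel₀ hp.out.ne_zero (h2.trans (mul_one p).symm)
        exact (Subgroup.relIndex_eq_one.1 h1).trans inf_le_left
    · intro u hu
      rcases lt_or_ge (k + 1) S.i with hk1 | hk1
      · have : S.lev (k + 1) = ⊥ := S.lev_bot _ (by omega)
        rw [this, Subgroup.mem_bot] at hu
        exact hu ▸ one_mem H
      · rw [S.lev_bot (k + 1) (by omega), Subgroup.mem_bot] at hu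
        exact hu ▸ one_mem H

theorem lev_succ_le' {k : ℕ} {H : Subgroup X} (hH : ∀ a ∈ S.lev k, ⁅a, S.x⁆ ∈ H) :
    S.lev (k + 1) ≤ H :=
  S.lev_succ_le S.i k (by omega) H hH

theorem exists_lev_exact {k : ℕ} (hk : k + 2 ≤ S.i) : ∃ a ∈ S.lev k, a ∉ S.lev (k + 1) := by
  by_contra hc
  push Not at hc
  have := S.lev_index k (by omega)
  rw [Subgroup.relIndex_eq_one.2 hc] at this
  exact hp.out.one_lt.ne this

/-- An element exactly in a layer generates it modulo the next one. -/
theorem lev_le_of_mem {k : ℕ} {a : X} (ha : a ∈ S.lev k) (ha1 : a ∉ S.lev (k + 1)) {H : Subgroup X}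
    (haH : a ∈ H) (hnext : S.lev (k + 1) ≤ H) : S.lev k ≤ H := by
  have hk : k + 1 < S.i := by
    by_contra hc
    rw [S.lev_bot k (by omega), Subgroup.mem_bot] at ha
    exact ha1 (ha ▸ one_mem _)
  have h2 := Subgroup.relIndex_mul_relIndex (S.lev (k + 1)) (H ⊓ S.lev k) (S.lev k)
    (le_inf hnext (S.lev_anti (Nat.le_succ _))) inf_le_right
  rw [S.lev_index k hk] at h2
  rcases hp.out.eq_one_or_self_of_dvd _ (Dvd.intro _ h2) with h | h
  · exact absurd (Subgroup.relIndex_eq_one.1 h ⟨haH, ha⟩) ha1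
  · rw [h] at h2
    have h1 := mul_left_cancel₀ hp.out.ne_zero (h2.trans (mul_one p).symm)
    exact (Subgroup.relIndex_eq_one.1 h1).trans inf_le_left

/-- The subgroups of `lev 0` invariant under `x` are the layers. -/
theorem eq_lev {Q : Subgroup X} (hQ : Q ≤ S.lev 0) (hx : ∀ a ∈ Q, ⁅a, S.x⁆ ∈ Q) :
    ∃ k, k + 1 ≤ S.i ∧ Q = S.lev k := by
  classical
  have key : ∀ (n k : ℕ), S.i ≤ k + n + 1 → ∀ a ∈ Q, a ∈ S.lev k → a ∉ S.lev (k + 1) →
      S.lev k ≤ Q := by
    intro n
    induction n with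
    | zero => intro k hk a _ _ _; rw [S.lev_bot k (by omega)]; exact bot_le
    | succ n ih =>
      intro k hk a ha h1 h2
      refine S.lev_le_of_mem h1 h2 ha ?_
      rcases lt_or_ge (k + 2) S.i with hk2 | hk2
      · exact ih (k + 1) (by omega) _ (hx a ha) (S.x_comm k a h1)
          fun hc => h2 (S.x_comm_exact k hk2 a h1 hc)
      · rw [S.lev_bot (k + 1) (by omega)]; exact bot_le
  rcases eq_or_ne Q ⊥ with h | h
  · exact ⟨S.i - 1, by have := S.two_le; omega, by rw [h, S.lev_bot _ (by omega)]⟩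
  have hlast : ¬ Q ≤ S.lev (S.i - 2 + 1) := by
    rw [S.lev_bot _ (by omega), le_bot_iff]; exact h
  have hex : ∃ k, ¬ Q ≤ S.lev (k + 1) := ⟨_, hlast⟩
  set k := Nat.find hex with hk
  have hki : k ≤ S.i - 2 := Nat.find_min' hex hlast
  have h1 : Q ≤ S.lev k := by
    rcases Nat.eq_zero_or_pos k with h0 | h0
    · rw [h0]; exact hQ
    · obtain ⟨m, hm⟩ := Nat.exists_eq_succ_of_ne_zero h0.ne'
      have := Nat.find_min hex (m := m) (by omega)
      rw [not_not] at this
      rw [hm]
      exact this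
  obtain ⟨a, ha, ha1⟩ := Set.not_subset.1 (Nat.find_spec hex)
  exact ⟨k, by have := S.two_le; omega, le_antisymm h1 (key S.i k (by omega) a ha (h1 ha) ha1)⟩

theorem card_lev {k : ℕ} (hk : k + 1 ≤ S.i) : Nat.card (S.lev k) = p ^ (S.i - 1 - k) := by
  obtain ⟨n, hn⟩ := Nat.exists_eq_add_of_le hk
  rw [show S.i - 1 - k = n by omega]
  induction n generalizing k with
  | zero => rw [S.lev_bot k (by omega)]; simp
  | succ n ih =>
    have h := ih (k := k + 1) (by omega) (by omega)
    have h2 := Subgroup.relIndex_mul_relIndex ⊥ (S.lev (k + 1)) (S.lev k) bot_le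
      (S.lev_anti (Nat.le_succ _))
    rw [Subgroup.relIndex_bot_left, Subgroup.relIndex_bot_left, h, S.lev_index k (by omega)] at h2
    rw [← h2, pow_succ]

theorem card_T : Nat.card S.T = p ^ S.i := by
  have h2 := Subgroup.relIndex_mul_relIndex ⊥ (S.lev 0) S.T bot_le S.lev_le
  rw [Subgroup.relIndex_bot_left, Subgroup.relIndex_bot_left,
    S.card_lev (by have := S.two_le; omega), S.lev_index_zero, Nat.sub_zero] at h2
  rw [← h2, ← pow_succ, Nat.sub_add_cancel (by have := S.two_le; omega)]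

theorem isPGroup_T : IsPGroup p S.T := IsPGroup.of_card S.card_T

/-! ### The Sylow subgroup as the stabilizer of the factors -/

/-- The elements acting trivially on all factors of the flag. -/
def unip : Subgroup X where
  carrier := {g | ∀ l, ∀ v ∈ S.W l, g • v - v ∈ S.W (l + 1)}
  one_mem' := fun l v _ => by simp
  mul_mem' := fun {g h} hg hh l v hv => by
    have hhv : h • v ∈ S.W l := by
      have := add_mem (S.W_succ_le l (hh l v hv)) hv
      rwa [sub_add_cancel] at this
    have := add_mem (hg l _ hhv) (hh l v hv)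
    rw [mul_smul]
    rwa [sub_add_sub_cancel] at this
  inv_mem' := by
    intro g hg l v hv
    have hinv : ∀ (n m : ℕ), S.d ≤ m + n → ∀ u ∈ S.W m, g⁻¹ • u - u ∈ S.W (m + 1) := by
      intro n
      induction n with
      | zero =>
        intro m hm u hu
        rw [S.W_bot m (by omega), AddSubgroup.mem_bot] at hu
        subst hu; simp
      | succ n ih =>
        intro m hm u hu
        have h1 := hg m u hu
        have h2 := ih (m + 1) (by omega) _ h1
        have h3 := sub_mem (neg_mem h1) (S.W_succ_le (m + 1) h2)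
        rwa [show -(g • u - u) - (g⁻¹ • (g • u - u) - (g • u - u)) = g⁻¹ • u - u by
          rw [smul_sub, inv_smul_smul]; abel] at h3
    exact hinv S.d l (by omega) v hv

theorem pow_p_eq_one {g : X} (hg : g ∈ S.unip) : g ^ p = 1 := by
  refine S.faithful _ fun v => ?_
  rcases subsingleton_or_nontrivial V with hV | hV
  · exact Subsingleton.elim _ _
  let a : AddMonoid.End V := DistribSMul.toAddMonoidHom V g
  have hp0 : (p : AddMonoid.End V) = 0 := by
    refine AddMonoidHom.ext fun z => ?_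
    exact (AddMonoid.End.natCast_apply p z).trans (S.tors z)
  haveI : Nontrivial (AddMonoid.End V) := by
    obtain ⟨u, hu⟩ := exists_ne (0 : V)
    exact ⟨1, 0, fun h => hu (congrArg (fun f : AddMonoid.End V => f u) h)⟩
  haveI : CharP (AddMonoid.End V) p := (CharP.charP_iff_prime_eq_zero hp.out).2 hp0
  have hpow : ∀ (k : ℕ) (u : V), (a ^ k : AddMonoid.End V) u = g ^ k • u := by
    intro k
    induction k with
    | zero => intro u; simp
    | succ k ih =>
      intro u
      rw [pow_succ', pow_succ', mul_smul]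
      show g • ((a ^ k : AddMonoid.End V) u) = _
      rw [ih u]
  have hdec : ∀ (k : ℕ) (u : V), ((a - 1) ^ k : AddMonoid.End V) u ∈ S.W k := by
    intro k
    induction k with
    | zero => intro u; rw [S.W_zero]; exact AddSubgroup.mem_top _
    | succ k ih =>
      intro u
      rw [pow_succ']
      exact hg k _ (ih u)
  have h0 : ((a - 1) ^ p : AddMonoid.End V) v = 0 := by
    have := hdec p v
    rwa [S.W_bot p S.d_lt.le, AddSubgroup.mem_bot] at this
  rw [sub_pow_char_of_commute p (Commute.one_right a), one_pow] at h0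
  have h1 : (a ^ p : AddMonoid.End V) v - v = 0 := h0
  rw [hpow] at h1
  exact sub_eq_zero.1 h1

theorem unip_eq : S.unip = S.T := by
  obtain ⟨P, hP⟩ := S.sylow
  have hle : S.T ≤ S.unip := fun t ht l v hv => S.stab t ht l v hv
  have hpg : IsPGroup p S.unip := fun g => ⟨1, Subtype.ext (by simpa using S.pow_p_eq_one g.2)⟩
  rw [← hP]
  exact P.is_maximal' hpg (hP ▸ hle)

theorem mem_T_of_triv {g : X} (hg : ∀ l, ∀ v ∈ S.W l, g • v - v ∈ S.W (l + 1)) : g ∈ S.T :=
  S.unip_eq ▸ hg

/-- Elements fixing every layer normalize the Sylow subgroup. -/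
theorem mem_normalizer_of_flag {g : X} (hg : ∀ l, ∀ v ∈ S.W l, g • v ∈ S.W l)
    (hg' : ∀ l, ∀ v ∈ S.W l, g⁻¹ • v ∈ S.W l) : g ∈ Subgroup.normalizer (S.T : Set X) := by
  rw [← S.unip_eq]
  refine Subgroup.mem_normalizer_iff.2 fun u => ⟨fun hu l v hv => ?_, fun hu l v hv => ?_⟩
  · have := hg (l + 1) _ (hu l _ (hg' l v hv))
    rwa [smul_sub, smul_inv_smul, ← mul_smul, ← mul_smul] at this
  · have := hg' (l + 1) _ (hu l _ (hg l v hv))
    rwa [smul_sub, inv_smul_smul, mul_smul, mul_smul, inv_smul_smul, inv_smul_smul] at this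

theorem three_le_d : 3 ≤ S.d := by
  by_contra hd
  obtain ⟨a, ha, ha1⟩ := S.exists_lev_exact (k := 0) (by have := S.two_le; omega)
  refine ha1 ?_
  have : a = 1 := S.faithful a fun v => by
    have := S.shift 0 a ha 0 v (by rw [S.W_zero]; exact AddSubgroup.mem_top v)
    rw [S.W_bot _ (by omega), AddSubgroup.mem_bot] at this
    exact sub_eq_zero.1 this
  rw [this]
  exact one_mem _

end Sys

end Cfsg.Agent.MaxClassLin
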