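import Cfsg.Agent.LocalFlavell.MaxClass.Exceptional
import Cfsg.Agent.Lib.Fusion.EssentialShape

/-!
# Normal essential subgroups of index `p` in a group of maximal class

Such a subgroup is one of the two special two-step centralizers unless the group has order `p ^ 4`:
otherwise it contains a good element and then its lower central series, refined at the top, is an
invariant series with steps of order `p`.
-/

set_option autoImplicit false
set_option linter.unusedSectionVars false
set_option linter.style.haveILetI false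

namespace Cfsg.Agent.MaxClassLin.Bridge

open Cfsg
open Subgroup
open Cfsg.Agent.LocalFlavell.MaxClass
open Cfsg.Agent.PGroups.MaximalClass
open scoped commutatorElement

universe u

variable {X : Type u} [Group X] [Finite X] {p n : ℕ} [hp : Fact p.Prime]

/-- A normal subgroup of index `p` contains `gam 2`. -/
theorem gam_two_le_of_index (E : Subgroup X) [E.Normal] (hidx : E.index = p) :
    gam X 2 ≤ E := by
  haveI : IsCyclic (X ⧸ E) := isCyclic_of_prime_card (p := p) (by rw [← index_eq_card, hidx])
  rw [gam_eq le_rfl, show (2 : ℕ) - 1 = 1 from rfl, lcs_one, _root_.commutator_def, commutator_le]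
  intro a _ b _
  rw [← QuotientGroup.eq_one_iff]
  show QuotientGroup.mk' E ⁅a, b⁆ = 1
  rw [map_commutatorElement, commutatorElement_eq_one_iff_mul_comm]
  exact (IsCyclic.commGroup (α := X ⧸ E)).mul_comm _ _

/-- A subgroup of index `p` other than the two centralizers contains a good element. -/
theorem exists_good_mem (hS : IsMC X p n) (E : Subgroup X) (hidx : E.index = p)
    (h1 : E ≠ gam X 1) (h2 : E ≠ cen X (n - 2)) : ∃ s ∈ E, Good n s := by
  have hn := hS.hn
  have key : ∀ A : Subgroup X, A.index = p → E ≠ A → A.subgroupOf E ≠ ⊤ := fun A hA hne h => by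
    refine hne (eq_of_le_of_card_ge (subgroupOf_eq_top.1 h) ?_)
    refine Nat.le_of_mul_le_mul_right ?_ hp.out.pos
    have e1 := E.card_mul_index
    have e2 := A.card_mul_index
    rw [hidx] at e1
    rw [hA] at e2
    rw [e1, e2]
  obtain ⟨⟨s, hsE⟩, hs1, hs2⟩ := exists_notMem_two
    (key _ (by rw [index_gam hS (i := 1) (by omega), pow_one]) h1)
    (key _ (index_cen hS (i := n - 2) (by omega) (by omega)) h2)
  rw [mem_subgroupOf] at hs1 hs2
  refine ⟨s, hsE, fun i hi hin => ?_⟩
  rcases (show i + 3 ≤ n ∨ i = n - 2 by omega) with h | rfl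
  · rw [upTo_three n X hS i hi h]; exact hs1
  · exact hs2

section Layers

variable (hS : IsMC X p n) {E : Subgroup X} {s : X} (hs : Good n s) (hsE : s ∈ E) (h2E : gam X 2 ≤ E)
  (hidx : E.index = p)
include hS hs hsE h2E hidx

theorem relIndex_gam_two : (gam X 2).relIndex E = p := by
  have h := relIndex_mul_index h2E
  rw [hidx, index_gam hS (i := 2) (by have := hS.hn; omega), pow_two] at h
  exact Nat.eq_of_mul_eq_mul_right hp.out.pos h

theorem inf_cen_three (h5 : 5 ≤ n) : E ⊓ cen X 3 = gam X 2 := by
  have hle : gam X 2 ≤ E ⊓ cen X 3 := le_inf h2E (gam_two_le_cen hS (by omega))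
  have h := relIndex_mul_relIndex (gam X 2) (E ⊓ cen X 3) E hle inf_le_left
  rw [relIndex_gam_two hS hs hsE h2E hidx] at h
  rcases (Nat.dvd_prime hp.out).1 (Dvd.intro _ h) with h1 | h1
  · exact le_antisymm (relIndex_eq_one.1 h1) hle
  · rw [h1] at h
    have h2 := (relIndex_eq_one.1 ((mul_eq_left₀ hp.out.ne_zero).1 h)) hsE
    exact absurd h2.2 (hs 3 (by omega) (by omega))

theorem comm_layer {k : ℕ} (hk : 2 ≤ k) : ⁅gam X k, E⁆ = gam X (k + 1) := by
  refine le_antisymm ((commutator_mono le_rfl le_top).trans (comm_top_le (by omega))) ?_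
  obtain ⟨d, hd⟩ : ∃ d, d = n - (k + 1) := ⟨_, rfl⟩
  induction d generalizing k with
  | zero => rw [gam_bot hS (i := k + 1) (by omega)]; exact bot_le
  | succ d ih =>
    obtain ⟨a, ha⟩ := exists_exact hS (i := k) (by omega)
    rw [gam_eq_sup hS (exact_comm hS (i := k) (by omega) (by omega) ha (hs.notMem hS (by omega)))]
    exact sup_le ((ih (k := k + 1) (by omega) (by omega)).trans (commutator_mono (gam_succ_le k) le_rfl))
      (zpowers_le.2 (commutator_mem_commutator ha.1 hsE))

theorem comm_self : ⁅E, E⁆ = gam X 3 := by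
  refine le_antisymm ?_ ((comm_layer hS hs hsE h2E hidx (k := 2) le_rfl).ge.trans
    (commutator_mono h2E le_rfl))
  have hE : E = gam X 2 ⊔ zpowers s := by
    have hle : gam X 2 ⊔ zpowers s ≤ E := sup_le h2E (zpowers_le.2 hsE)
    have h := relIndex_mul_relIndex (gam X 2) (gam X 2 ⊔ zpowers s) E le_sup_left hle
    rw [relIndex_gam_two hS hs hsE h2E hidx] at h
    rcases (Nat.dvd_prime hp.out).1 (Dvd.intro _ h) with h1 | h1
    · have h2 := relIndex_eq_one.1 h1 (mem_sup_right (mem_zpowers s))
      exact absurd (gam_two_le_cen hS (i := 2) le_rfl h2) (hs 2 le_rfl (by have := hS.hn; omega))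
    · rw [h1] at h
      exact le_antisymm (relIndex_eq_one.1 ((mul_eq_left₀ hp.out.ne_zero).1 h)) hle
  rw [commutator_le]
  intro x hx y hy
  obtain ⟨z, hz, w, hw, rfl⟩ := mem_sup_of_normal_left.1 (hE.le hx)
  obtain ⟨z', hz', w', hw', rfl⟩ := mem_sup_of_normal_left.1 (hE.le hy)
  obtain ⟨k, rfl⟩ := hw
  obtain ⟨k', rfl⟩ := hw'
  rw [← QuotientGroup.eq_one_iff]
  show QuotientGroup.mk' (gam X 3) _ = 1
  have hc : ∀ z ∈ gam X 2, ∀ y, Commute (QuotientGroup.mk' (gam X 3) z) (QuotientGroup.mk' (gam X 3) y) :=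
    fun z hz y => by
      rw [← commutatorElement_eq_one_iff_commute, ← map_commutatorElement]
      exact (QuotientGroup.eq_one_iff _).2 (comm_mem (by omega) hz y)
  rw [map_commutatorElement, commutatorElement_eq_one_iff_commute, map_mul, map_zpow]
  refine (hc z hz _).mul_left ?_
  rw [map_mul, map_zpow]
  exact ((hc z' hz' s).symm.zpow_left k).mul_right ((Commute.refl _).zpow_zpow k k')

theorem gam_inv (h5 : 5 ≤ n) : ∀ {k : ℕ}, 2 ≤ k → ∀ α : MulAut E, ∀ x ∈ (gam X k).subgroupOf E,
    α x ∈ (gam X k).subgroupOf E := by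
  have hle : ∀ k, 2 ≤ k → gam X k ≤ E := fun k hk => (gam_anti hk).trans h2E
  have heq : ∀ m, 3 ≤ m → ∀ α : MulAut E,
      ((gam X m).subgroupOf E).map α.toMonoidHom = (gam X m).subgroupOf E := by
    intro m hm
    induction m, hm using Nat.le_induction with
    | base =>
      intro α
      have h : (gam X 3).subgroupOf E = ⁅(⊤ : Subgroup E), ⊤⁆ := by
        refine map_injective E.subtype_injective ?_
        rw [map_commutator, map_subgroupOf_eq_of_le (hle 3 (by omega)), ← MonoidHom.range_eq_map,
          range_subtype, comm_self hS hs hsE h2E hidx]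
      rw [h, map_commutator, map_top_of_surjective _ α.surjective]
    | succ m hm ih =>
      intro α
      have h : (gam X (m + 1)).subgroupOf E = ⁅(gam X m).subgroupOf E, ⊤⁆ := by
        refine map_injective E.subtype_injective ?_
        rw [map_commutator, map_subgroupOf_eq_of_le (hle (m + 1) (by omega)),
          map_subgroupOf_eq_of_le (hle m (by omega)), ← MonoidHom.range_eq_map, range_subtype,
          comm_layer hS hs hsE h2E hidx (k := m) (by omega)]
      rw [h, map_commutator, ih, map_top_of_surjective _ α.surjective]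
  intro k hk α x hx
  rcases hk.eq_or_lt with rfl | hk3
  · rw [mem_subgroupOf, ← inf_cen_three hS hs hsE h2E hidx h5] at hx ⊢
    refine ⟨(α x).2, mem_cen.2 fun a ha => ?_⟩
    show ⁅a, ((α x : E) : X)⁆ ∈ gam X 5
    have ha3 : a ∈ gam X 3 := ha
    obtain ⟨b, hb, hbe⟩ := (heq 3 le_rfl α).ge
      (show (⟨a, hle 3 (by omega) ha3⟩ : E) ∈ (gam X 3).subgroupOf E from ha3)
    have h1 : ⁅b, x⁆ ∈ (gam X 5).subgroupOf E := mem_cen.1 hx.2 b hb
    have h2 := (heq 5 (by omega) α).le ⟨_, h1, rfl⟩
    rw [map_commutatorElement, hbe] at h2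
    exact h2
  · exact (heq k hk3 α).le ⟨x, hx, rfl⟩

end Layers

/-- The index `p` case. -/
theorem index_p_case {F : FusionSystem (⊤ : Subgroup X)} {E : Subgroup X} [E.Normal] (hS : IsMC X p n)
    (hE : F.IsEssential p E) (hidx : E.index = p) :
    E = gam X 1 ∨ E = cen X (n - 2) ∨
      (n = 4 ∧ Nat.card E = p ^ 3 ∧ ¬ ∀ a b : E, a * b = b * a) := by
  refine or_iff_not_imp_left.2 fun h1 => or_iff_not_imp_left.2 fun h2 => ?_
  have hn := hS.hn
  obtain ⟨s, hsE, hs⟩ := exists_good_mem hS E hidx h1 h2
  have h2E := gam_two_le_of_index E hidx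
  rcases (show n = 4 ∨ 5 ≤ n by omega) with rfl | h5
  · refine ⟨rfl, ?_, fun hab => ?_⟩
    · have h := E.card_mul_index
      rw [hidx, hS.card, pow_succ] at h
      exact Nat.eq_of_mul_eq_mul_right hp.out.pos h
    · obtain ⟨a, ha⟩ := exists_exact hS (i := 2) (by omega)
      refine (exact_comm hS (i := 2) (by omega) (by omega) ha (hs.notMem hS (by omega))).2 ?_
      have h := congrArg Subtype.val (hab ⟨a, h2E ha.1⟩ ⟨s, hsE⟩)
      rw [commutatorElement_eq_one_iff_mul_comm.2 h]
      exact one_mem _
  · exfalso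
    refine Fusion.EssentialShape.no_series hE ((isPGroup hS).to_subgroup ⊤)
      (fun i => if n - 1 ≤ i then ⊤ else (gam X (n - i)).subgroupOf E) (n - 1) ?_ ?_ ?_ ?_ ?_
    · rw [if_neg (by omega), gam_bot hS (by omega), bot_subgroupOf]
    · rw [if_pos le_rfl]
    · intro i hi
      rw [if_neg (by omega)]
      by_cases h : n - 1 ≤ i + 1
      · rw [if_pos h]; exact le_top
      · rw [if_neg h]
        exact fun x hx => gam_anti (by omega : n - (i + 1) ≤ n - i) hx
    · intro i _ α x hx
      by_cases h : n - 1 ≤ i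
      · rw [if_pos h]; exact mem_top _
      · rw [if_neg h] at hx ⊢
        exact gam_inv hS hs hsE h2E hidx h5 (k := n - i) (by omega) α x hx
    · intro i hi
      rw [if_neg (by omega)]
      by_cases h : n - 1 ≤ i + 1
      · rw [if_pos h, show n - i = 2 by omega, relIndex_top_right]
        exact (relIndex_gam_two hS hs hsE h2E hidx).le
      · rw [if_neg h, relIndex_subgroupOf ((gam_anti (by omega : 2 ≤ n - (i + 1))).trans h2E),
          show n - i = n - (i + 1) + 1 by omega]
        exact (relIndex_gam hS (i := n - (i + 1)) (by omega)).le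

/-- The second centre. -/
theorem upperCentralSeries_two (hS : IsMC X p n) :
    Subgroup.upperCentralSeries X 2 = gam X (n - 2) := by
  have hn := hS.hn
  obtain ⟨hZ, -⟩ := center_eq (p := p) (by omega) hS.card hS.cls
  have hZg : center X = gam X (n - 1) := by rw [hZ, gam_eq (by omega), show n - 1 - 1 = n - 2 by omega]
  have hmem : ∀ x : X, x ∈ Subgroup.upperCentralSeries X 2 ↔ ∀ y : X, ⁅x, y⁆ ∈ gam X (n - 1) := by
    intro x
    rw [show (2 : ℕ) = 1 + 1 from rfl, Subgroup.mem_upperCentralSeries_succ_iff, Subgroup.upperCentralSeries_one, hZg]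
  refine le_antisymm (fun x hx => ?_) fun x hx => (hmem x).2 fun y => ?_
  · rw [hmem] at hx
    by_contra hne
    obtain ⟨j, -, hj⟩ := exists_exact_of_ne hS (i := 0) (mem_top x) fun h => hne (h ▸ one_mem _)
    have hjn : j + 3 ≤ n := by
      by_contra h
      exact hne (gam_anti (by omega : n - 2 ≤ j) hj.1)
    rcases Nat.eq_zero_or_pos j with rfl | hj1
    · obtain ⟨c, hc⟩ := exists_exact hS (i := 1) (by omega)
      have h := exact_comm hS le_rfl (by omega) hc (x := x) (fun h => hj.2 h)
      refine h.2 (gam_anti (by omega : 1 + 1 + 1 ≤ n - 1) ?_)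
      rw [← commutatorElement_inv]
      exact inv_mem (hx c)
    · obtain ⟨s, hs⟩ := exists_good hS (upTo_three n X hS)
      have h := exact_comm hS hj1 (by omega) hj (hs.notMem hS (j := j) (by omega))
      exact h.2 (gam_anti (by omega : j + 1 + 1 ≤ n - 1) (hx s))
  · have h := comm_mem (show 1 ≤ n - 2 by omega) hx y
    rwa [show n - 2 + 1 = n - 1 by omega] at h

/-- The last two-step centralizer is the centralizer of the second centre. -/
theorem cen_last (hS : IsMC X p n) :
    cen X (n - 2) = centralizer ((Subgroup.upperCentralSeries X 2 : Subgroup X) : Set X) := by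
  have hn := hS.hn
  ext x
  rw [upperCentralSeries_two hS, mem_cen, mem_centralizer_iff, gam_eq (by omega : 2 ≤ n - 2),
    show n - 2 + 1 = n - 1 by omega]
  refine forall₂_congr fun a _ => ?_
  rw [lcs_eq_bot (p := p) (by omega) hS.card, mem_bot, commutatorElement_eq_one_iff_mul_comm]

end Cfsg.Agent.MaxClassLin.Bridge
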