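import Cfsg.Agent.LocalFlavell.MaxClass.Exceptional
import Cfsg.Agent.Lib.Fusion.Embedded

/-!
# Facts on the layers of a group of maximal class used by the bridge
-/

set_option autoImplicit false
set_option linter.unusedSectionVars false
set_option linter.style.haveILetI false

namespace Cfsg.Agent.MaxClassLin.Bridge

open Subgroup
open Cfsg.Agent.LocalFlavell.MaxClass
open Cfsg.Agent.PGroups.MaximalClass
open scoped commutatorElement

universe u

variable {X : Type u} [Group X] [Finite X] {p n : ℕ} [hp : Fact p.Prime]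

/-- A normal subgroup of index at least `p ^ 2` is a layer. -/
theorem eq_gam (hS : IsMC X p n) (N : Subgroup X) [N.Normal] {r : ℕ} (hr : 2 ≤ r)
    (hN : N.index = p ^ r) : N = gam X r := by
  rw [gam_eq hr]
  exact normal_eq_lcs (by have := hS.hn; omega) hS.card hS.cls N hr hN

theorem map_lcs (φ : MulAut X) : ∀ k, (lcs X k).map φ.toMonoidHom = lcs X k := by
  intro k
  induction k with
  | zero => rw [lcs_zero, map_top_of_surjective _ φ.surjective]
  | succ k ih => rw [lcs_succ, map_commutator, ih, map_top_of_surjective _ φ.surjective]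

theorem lcs_apply (φ : MulAut X) {k : ℕ} {a : X} (ha : a ∈ lcs X k) : φ a ∈ lcs X k :=
  (map_lcs φ k).le ⟨a, ha, rfl⟩

/-- Automorphisms preserve the layers. -/
theorem gam_apply (φ : MulAut X) : ∀ {k : ℕ} {a : X}, a ∈ gam X k → φ a ∈ gam X k
  | 0, _, _ => mem_top _
  | 1, a, ha => by
    rw [gam_one, mem_cen] at ha ⊢
    intro b hb
    have h := lcs_apply φ (ha (φ⁻¹ b) (lcs_apply φ⁻¹ hb))
    rwa [map_commutatorElement, MulAut.apply_inv_self] at h
  | _ + 2, _, ha => lcs_apply φ ha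

/-- Modulo `gam (j + 2)` the commutator pairing is multiplicative in both slots. -/
theorem comm_pow {j : ℕ} (hj : 1 ≤ j) {a : X} (ha : a ∈ gam X j) (y : X) (m k : ℕ) :
    QuotientGroup.mk' (gam X (j + 2)) ⁅a ^ m, y ^ k⁆ =
      QuotientGroup.mk' (gam X (j + 2)) (⁅a, y⁆ ^ (m * k)) := by
  set π := QuotientGroup.mk' (gam X (j + 2))
  have hc : ∀ w : X, Commute (π ⁅a, y⁆) (π w) := fun w => by
    rw [← commutatorElement_eq_one_iff_commute, ← map_commutatorElement]
    exact (QuotientGroup.eq_one_iff _).2 (comm_mem (by omega) (comm_mem hj ha y) w)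
  rw [map_commutatorElement, map_pow, map_pow, map_pow, map_commutatorElement]
  rw [map_commutatorElement] at hc
  have h1 : π a * π y * (π a)⁻¹ = ⁅π a, π y⁆ * π y := by rw [commutatorElement_def]; group
  -- the first slot
  have hA : ∀ m : ℕ, π a ^ m * π y * (π a ^ m)⁻¹ = ⁅π a, π y⁆ ^ m * π y := by
    intro m
    induction m with
    | zero => simp
    | succ m ih =>
      rw [pow_succ (π a) m, show π a ^ m * π a * π y * (π a ^ m * π a)⁻¹ =
          π a ^ m * (π a * π y * (π a)⁻¹) * (π a ^ m)⁻¹ by group, h1]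
      calc π a ^ m * (⁅π a, π y⁆ * π y) * (π a ^ m)⁻¹
          = ⁅π a, π y⁆ * (π a ^ m * π y * (π a ^ m)⁻¹) := by
            rw [← mul_assoc (π a ^ m), ← ((hc a).pow_right m).eq]; group
        _ = ⁅π a, π y⁆ * (⁅π a, π y⁆ ^ m * π y) := by rw [ih]
        _ = ⁅π a, π y⁆ ^ (m + 1) * π y := by rw [pow_succ' ⁅π a, π y⁆, mul_assoc]
  have hB : ⁅π a ^ m, π y ^ k⁆ = (⁅π a, π y⁆ ^ m) ^ k := by
    rw [commutatorElement_def, ← conj_pow, hA, ((hc y).pow_left m).mul_pow, mul_inv_cancel_right]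
  rw [hB, ← pow_mul]

/-- Modulo `gam (j + 2)` the pairing depends on `a` modulo `gam (j + 1)` and on `y` modulo `gam 1`. -/
theorem comm_congr {j : ℕ} (hj : 1 ≤ j) (hd : ⁅gam X j, gam X 1⁆ ≤ gam X (j + 2)) {a z y w : X}
    (ha : a ∈ gam X j) (hz : z ∈ gam X (j + 1)) (hw : w ∈ gam X 1) :
    QuotientGroup.mk' (gam X (j + 2)) ⁅z * a, w * y⁆ =
      QuotientGroup.mk' (gam X (j + 2)) ⁅a, y⁆ := by
  set π := QuotientGroup.mk' (gam X (j + 2))
  have hz1 : ∀ v : X, Commute (π z) (π v) := fun v => by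
    rw [← commutatorElement_eq_one_iff_commute, ← map_commutatorElement]
    exact (QuotientGroup.eq_one_iff _).2 (comm_mem (by omega) hz v)
  have haw : Commute (π a) (π w) := by
    rw [← commutatorElement_eq_one_iff_commute, ← map_commutatorElement]
    exact (QuotientGroup.eq_one_iff _).2 (hd (commutator_mem_commutator ha hw))
  have hc : Commute (π ⁅a, y⁆) (π w) := by
    rw [← commutatorElement_eq_one_iff_commute, ← map_commutatorElement]
    exact (QuotientGroup.eq_one_iff _).2 (comm_mem (by omega) (comm_mem hj ha y) w)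
  rw [map_commutatorElement] at hc ⊢
  rw [map_commutatorElement, map_mul, map_mul]
  have h1 : ⁅π z * π a, π w * π y⁆ = ⁅π a, π w * π y⁆ := by
    have h2 := hz1 (a * (w * y) * a⁻¹)
    rw [map_mul, map_mul, map_mul, map_inv] at h2
    rw [commutatorElement_def, commutatorElement_def, mul_inv_rev (π z),
      show π z * π a * (π w * π y) * ((π a)⁻¹ * (π z)⁻¹) =
        π z * (π a * (π w * π y) * (π a)⁻¹) * (π z)⁻¹ by group, h2.eq, mul_inv_cancel_right]
  rw [h1]
  have h3 : ⁅π a, π w * π y⁆ = π w * ⁅π a, π y⁆ * (π w)⁻¹ := by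
    rw [commutatorElement_def, commutatorElement_def, mul_inv_rev,
      show π a * (π w * π y) * (π a)⁻¹ * ((π y)⁻¹ * (π w)⁻¹) =
        π a * π w * π y * (π a)⁻¹ * (π y)⁻¹ * (π w)⁻¹ by group, haw.eq]
    group
  rw [h3, ← hc.eq, mul_inv_cancel_right]

/-- Commutators of layers with the extra step, away from the exceptional last layer. -/
theorem comm_step (hS : IsMC X p n) {a b : ℕ} (ha : 1 ≤ a) (hb : 1 ≤ b)
    (h : a + b + 2 ≤ n ∨ (cen X (n - 2) = gam X 1 ∧ a + b + 1 ≤ n)) {u v : X} (hu : u ∈ gam X a)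
    (hv : v ∈ gam X b) : ⁅u, v⁆ ∈ gam X (a + b + 1) := by
  have hn := hS.hn
  have hU := upTo_three n X hS
  rcases h with h | ⟨h1, h2⟩
  · exact comm_deg hS hU a b ha hb (by omega) (commutator_mem_commutator hu hv)
  · have hU2 : UpTo X n 2 := fun i hi hin => by
      rcases (show i + 3 ≤ n ∨ i = n - 2 by omega) with h3 | rfl
      · exact hU i hi h3
      · exact h1
    exact comm_deg hS hU2 a b ha hb (by omega) (commutator_mem_commutator hu hv)

/-- An abelian layer in the exceptional case lies in the lower half. -/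
theorem le_two_mul_of_abelian (hS : IsMC X p n) (hex : cen X (n - 2) ≠ gam X 1) {i : ℕ} (hi : 1 ≤ i)
    (hin : i + 2 ≤ n) (hab : ∀ a ∈ gam X i, ∀ b ∈ gam X i, a * b = b * a) : n ≤ 2 * i := by
  by_contra hlt
  obtain ⟨s, hs⟩ := exists_good hS (upTo_three n X hS)
  obtain ⟨c, hc⟩ := exists_exact hS (i := 1) (by omega)
  refine pair_ne hS (upTo_three n X hS) hex hs hc hi hin (commutatorElement_eq_one_iff_mul_comm.2 ?_)
  exact hab _ (chain_mem hc.1 hi) _ (gam_anti (show i ≤ n - 1 - i by omega) (chain_mem hc.1 (by omega)))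

/-- In that case `gam (i - 2)` moves `gam i` into the last layer. -/
theorem comm_into_last (hS : IsMC X p n) {i : ℕ} (hi : 3 ≤ i) (hin : i + 2 ≤ n) (h2 : n ≤ 2 * i)
    {u v : X} (hu : u ∈ gam X (i - 2)) (hv : v ∈ gam X i) : ⁅u, v⁆ ∈ gam X (n - 1) := by
  rcases (show i - 2 + i + 2 = n ∨ n ≤ i - 2 + i + 1 by omega) with h | h
  · have := comm_step hS (by omega) (by omega) (Or.inl h.le) hu hv
    rwa [show i - 2 + i + 1 = n - 1 by omega] at this
  · exact gam_anti (by omega) (comm_sum (by omega) (by omega) hu hv)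

/-- A group of transvections with a common centre, too large for a strongly `p`-embedded
subgroup. -/
theorem no_transvection_group {G : Type*} [Group G] [Finite G] {V : Type*} [AddCommGroup V]
    [DistribMulAction G V] (hfaith : ∀ g : G, (∀ v : V, g • v = v) → g = 1) {Y : Subgroup G}
    {P : Sylow p G} (hY : ∀ A : Subgroup G, A ≤ P → A ≠ ⊥ → normalizer (A : Set G) ≤ Y)
    (hYtop : Y ≠ ⊤) {B : Subgroup G} (hBP : B ≤ P) (c : V) (hpc : p • c = 0)
    (hfix : ∀ b ∈ B, b • c = c) (hmv : ∀ b ∈ B, ∀ v : V, b • v - v ∈ AddSubgroup.zmultiples c)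
    (hB : p < Nat.card B) : False := by
  have hpp := hp.out
  have hfin : IsOfFinAddOrder c := isOfFinAddOrder_iff_nsmul_eq_zero.2 ⟨p, hpp.pos, hpc⟩
  haveI : Finite (AddSubgroup.zmultiples c) := finite_zmultiples.2 hfin |>.to_subtype
  have hcard : Nat.card (AddSubgroup.zmultiples c) ≤ p := by
    rw [Nat.card_zmultiples]
    exact Nat.le_of_dvd hpp.pos (addOrderOf_dvd_of_nsmul_eq_zero hpc)
  have hex : ∀ c' : V, ∃ b ∈ B, b ≠ 1 ∧ b • c' = c' := by
    intro c'
    have hni : ¬ Function.Injective (fun b : B =>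
        (⟨(b : G) • c' - c', hmv b b.2 c'⟩ : AddSubgroup.zmultiples c)) := fun hi => by
      have := Nat.card_le_card_of_injective _ hi
      omega
    simp only [Function.Injective, not_forall] at hni
    obtain ⟨a, b, hab, hne⟩ := hni
    have he : (a : G) • c' = (b : G) • c' := sub_left_inj.1 (congrArg Subtype.val hab)
    refine ⟨(b : G)⁻¹ * a, B.mul_mem (B.inv_mem b.2) a.2, fun h1 => hne ?_, ?_⟩
    · exact Subtype.ext (inv_mul_eq_one.1 h1).symm
    · rw [mul_smul, he, inv_smul_smul]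
  have hPne : (P : Subgroup G) ≠ ⊥ := fun h0 => by
    have := Subgroup.card_le_of_le (h0 ▸ hBP)
    rw [Subgroup.card_bot] at this
    have := hpp.two_le
    omega
  have hPY : (P : Subgroup G) ≤ Y := le_normalizer.trans (hY _ le_rfl hPne)
  refine hYtop (eq_top_iff.2 fun g _ => ?_)
  obtain ⟨u, huB, hu1, huc⟩ := hex (g • c)
  obtain ⟨v, hvB, hv1, hvc⟩ := hex (g⁻¹ • c)
  obtain ⟨w, hw⟩ : ∃ w, w = g * v * g⁻¹ := ⟨_, rfl⟩
  have hwc : w • c = c := by rw [hw, mul_smul, mul_smul, hvc, smul_inv_smul]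
  have hwmv : ∀ z : V, w • z - z ∈ AddSubgroup.zmultiples (g • c) := fun z => by
    obtain ⟨k, hk⟩ := AddSubgroup.mem_zmultiples_iff.1 (hmv v hvB (g⁻¹ • z))
    refine AddSubgroup.mem_zmultiples_iff.2 ⟨k, ?_⟩
    have hk' := congrArg (g • ·) hk
    simp only [smul_sub, smul_inv_smul] at hk'
    rw [smul_comm k g c, hk', hw, mul_smul, mul_smul]
  have hcomm : Commute w u := by
    refine eq_of_inv_mul_eq_one (hfaith _ fun z => ?_)
    obtain ⟨i, hi⟩ := AddSubgroup.mem_zmultiples_iff.1 (hmv u huB z)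
    obtain ⟨j, hj⟩ := AddSubgroup.mem_zmultiples_iff.1 (hwmv z)
    have huz : u • z = i • c + z := by rw [hi]; abel
    have hwz : w • z = j • (g • c) + z := by rw [hj]; abel
    rw [mul_smul, inv_smul_eq_iff, mul_smul, mul_smul, huz, hwz, smul_add, smul_add, smul_comm w i c,
      smul_comm u j (g • c), hwc, huc, huz, hwz]
    abel
  have hwY : w ∈ Y := by
    refine hY (zpowers u) (zpowers_le.2 (hBP huB)) (zpowers_ne_bot.2 hu1) ?_
    refine centralizer_le_normalizer _ ?_
    rw [mem_centralizer_iff]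
    rintro _ ⟨k, rfl⟩
    exact (hcomm.zpow_right k).symm.eq
  have hvP : v ∈ (P : Subgroup G) := hBP hvB
  have hpw : IsPGroup p (zpowers (⟨w, hwY⟩ : Y)) := by
    obtain ⟨k, hk⟩ := P.2 ⟨v, hvP⟩
    obtain ⟨r, -, hr⟩ := (Nat.dvd_prime_pow hpp).1 (orderOf_dvd_of_pow_eq_one hk)
    refine IsPGroup.of_card (n := r) ?_
    rw [Nat.card_zpowers, ← Subgroup.orderOf_coe]
    show orderOf w = p ^ r
    rw [hw]
    rw [← MulAut.conj_apply, MulEquiv.orderOf_eq, ← hr, ← Subgroup.orderOf_coe]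
  obtain ⟨y, hy⟩ := Fusion.Saturation.exists_conj_le_sylow (P.subtype hPY) hpw
  have h1 := hy _ (mem_zpowers _)
  have h2 : (y : G) * (g * v * g⁻¹) * (y : G)⁻¹ ∈ (P : Subgroup G) := by
    rw [Sylow.coe_subtype, mem_subgroupOf] at h1
    rw [← hw]
    exact h1
  have h3 := Fusion.Embedded.mem_of_conj (a := (y : G) * g) hY hvP hv1 (by
    rw [show (y : G) * g * v * ((y : G) * g)⁻¹ = (y : G) * (g * v * g⁻¹) * (y : G)⁻¹ by group]
    exact h2)
  exact (Y.mul_mem_cancel_left y.2).1 h3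

end Cfsg.Agent.MaxClassLin.Bridge
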