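import Cfsg.Agent.Lib.MaxClassLin.BridgeSys
import Cfsg.Agent.Lib.MaxClassLin.BridgeCase
import Cfsg.Agent.LocalFlavell.MaxClass.Push
import Cfsg.Agent.LocalFlavell.MaxClass.Shapes

/-!
# Normal essential subgroups in groups of maximal class, given the linear theorem
-/

set_option autoImplicit false
set_option linter.unusedSectionVars false
set_option linter.style.haveILetI false

namespace Cfsg.Agent.MaxClassLin.Bridge

open Cfsg
open Subgroup
open Cfsg.Agent.LocalFlavell.MaxClass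
open Cfsg.Agent.PGroups.MaximalClass
open scoped commutatorElement

universe u

variable {Ω : Type u} [Group Ω] {S : Subgroup Ω} [Finite S]

theorem lcs_subtype (k : ℕ) :
    (lcs ↥S k).map S.subtype = Subgroup.lowerCentralSeries S k :=
  Subgroup.top_subtype_lowerCentralSeries S k

/-- The two special two-step centralizers as subgroups of the ambient group. -/
theorem map_gam_one {Γ₁ : Subgroup Ω}
    (hΓ₁ : ∀ x : Ω, x ∈ Γ₁ ↔ x ∈ S ∧ ∀ y ∈ Subgroup.lowerCentralSeries S 1,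
      x * y * x⁻¹ * y⁻¹ ∈ Subgroup.lowerCentralSeries S 3) :
    (gam ↥S 1).map S.subtype = Γ₁ := by
  ext x
  rw [hΓ₁, gam_one]
  constructor
  · rintro ⟨a, ha, rfl⟩
    refine ⟨a.2, fun y hy => ?_⟩
    rw [← lcs_subtype] at hy ⊢
    obtain ⟨b, hb, rfl⟩ := hy
    refine ⟨⁅a, b⁆, ?_, rfl⟩
    rw [← commutatorElement_inv]
    exact inv_mem (mem_cen.1 ha b hb)
  · rintro ⟨hx, h⟩
    refine ⟨⟨x, hx⟩, mem_cen.2 fun b hb => ?_, rfl⟩
    have h1 := h b (lcs_subtype (S := S) 1 ▸ ⟨b, hb, rfl⟩)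
    rw [← lcs_subtype] at h1
    obtain ⟨c, hc, hce⟩ := h1
    rw [← commutatorElement_inv]
    refine inv_mem ?_
    have : c = ⁅(⟨x, hx⟩ : ↥S), b⁆ := Subtype.ext hce
    exact this ▸ hc

theorem map_centralizer_subtype (A : Subgroup ↥S) :
    (centralizer (A : Set ↥S)).map S.subtype =
      S ⊓ centralizer ((A.map S.subtype : Subgroup Ω) : Set Ω) := by
  ext x
  constructor
  · rintro ⟨a, ha, rfl⟩
    refine ⟨a.2, mem_centralizer_iff.2 ?_⟩
    rintro _ ⟨b, hb, rfl⟩
    exact congrArg Subtype.val (mem_centralizer_iff.1 ha b hb)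
  · rintro ⟨hx, h⟩
    refine ⟨⟨x, hx⟩, mem_centralizer_iff.2 fun b hb => Subtype.ext ?_, rfl⟩
    exact mem_centralizer_iff.1 h b ⟨b, hb, rfl⟩

/-- The statement of S5269, given the linear theorem. -/
theorem normal_essential (hCore : CoreTheorem.{u}) (p : ℕ) [hp : Fact p.Prime]
    (hS : IsPGroup p ↥S) (n : ℕ) (hn : Nat.card S = p ^ n) (h4 : 4 ≤ n)
    (hmax : Subgroup.lowerCentralSeries S (n - 2) ≠ ⊥) (F : Cfsg.FusionSystem S)
    (hF : F.IsSaturated p) (hp5 : 5 ≤ p) (Γ₁ : Subgroup Ω)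
    (hΓ₁ : ∀ x : Ω, x ∈ Γ₁ ↔ x ∈ S ∧ ∀ y ∈ Subgroup.lowerCentralSeries S 1,
      x * y * x⁻¹ * y⁻¹ ∈ Subgroup.lowerCentralSeries S 3)
    (E : Subgroup Ω) (hE : F.IsEssential p E) (hEn : (E.subgroupOf S).Normal) :
    (E.subgroupOf S).index = p ∧ (E = Γ₁ ∨
      E = (S ⊓ Subgroup.centralizer (((Subgroup.upperCentralSeries ↥S 2).map S.subtype) : Set Ω)) ∨
      (n = 4 ∧ Nat.card ↥E = p ^ 3 ∧ Cfsg.IsExtraspecial p ↥E ∧ Monoid.exponent ↥E = p)) := by
  haveI := hEn
  have hcl : Group.nilpotencyClass ↥S = n - 1 := by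
    rw [class_eq_iff (p := p) (by omega) hn]
    intro e
    refine hmax ?_
    rw [← Subgroup.top_subtype_lowerCentralSeries]
    exact (Subgroup.map_eq_bot_iff_of_injective _ S.subtype_injective).mpr e
  have hMC : IsMC ↥S p n := ⟨h4, hn, hcl⟩
  obtain ⟨hS', hsat, hess⟩ := Push.essential hS hF hE
  have hES : E ≤ S := hE.1.1
  obtain ⟨i, hi⟩ := hS.index (E.subgroupOf S)
  have hi1 := index_le hCore hMC hp5 hsat hess hi
  have hi0 : i ≠ 0 := by
    rintro rfl
    rw [pow_zero, index_eq_one, subgroupOf_eq_top] at hi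
    exact (Fusion.Alperin.essential_lt hS hF hE).not_ge hi
  obtain rfl : i = 1 := by omega
  rw [pow_one] at hi
  refine ⟨hi, ?_⟩
  have hEm : (E.subgroupOf S).map S.subtype = E := map_subgroupOf_eq_of_le hES
  rcases index_p_case hMC hess hi with h | h | ⟨h4', h3, hna⟩
  · left
    rw [← hEm, h, map_gam_one hΓ₁]
  · refine Or.inr (Or.inl ?_)
    rw [← hEm, h, cen_last hMC, map_centralizer_subtype]
  · refine Or.inr (Or.inr ⟨h4', ?_, ?_⟩)
    · rw [← Nat.card_congr (subgroupOfEquivOfLe hES).toEquiv]; exact h3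
    · refine Shapes.extraspecial hS (by omega) hE
        (by rw [← Nat.card_congr (subgroupOfEquivOfLe hES).toEquiv]; exact h3) fun hab => hna ?_
      intro a b
      apply (subgroupOfEquivOfLe hES).injective
      rw [map_mul, map_mul]
      exact hab _ _

end Cfsg.Agent.MaxClassLin.Bridge
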