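import Cfsg.Agent.Lib.Fusion.EssentialShape
import Cfsg.Agent.Lib.Fusion.MetacyclicTop
import Cfsg.Agent.Lib.CharP.Basic
import Cfsg.Agent.Lib.Coprime.PGroup

/-!
# The largest elementary abelian quotient and the action of automorphisms

`Vec p H` is the quotient of `H` by commutators and `p`-th powers, written additively, with the
action of the automorphism group of `H` through `Rep p H`.
-/

set_option autoImplicit false
set_option linter.style.haveILetI false

namespace Cfsg.Agent.MaxClassLin.Bridge

open Subgroup
open scoped commutatorElement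

variable (p : ℕ) (H : Type*) [Group H]

/-- Commutators and `p`-th powers. -/
def phi : Subgroup H := commutator H ⊔ closure (Set.range fun h : H => h ^ p)

theorem comm_mem_phi (a b : H) : ⁅a, b⁆ ∈ phi p H :=
  mem_sup_left (commutator_mem_commutator (mem_top a) (mem_top b))

theorem pow_mem_phi (a : H) : a ^ p ∈ phi p H := mem_sup_right (subset_closure ⟨a, rfl⟩)

instance phi_normal : (phi p H).Normal := ⟨fun n hn g => by
  rw [show g * n * g⁻¹ = ⁅g, n⁆ * n by rw [commutatorElement_def]; group]
  exact mul_mem (comm_mem_phi p H g n) hn⟩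

theorem phi_map (α : MulAut H) {a : H} (ha : a ∈ phi p H) : α a ∈ phi p H := by
  have hle : (phi p H).map α.toMonoidHom ≤ phi p H := by
    rw [phi, Subgroup.map_sup, MonoidHom.map_closure]
    refine sup_le ?_ (le_sup_of_le_right ((closure_le _).2 ?_))
    · rw [_root_.commutator_def, map_commutator]
      exact le_sup_of_le_left (commutator_mono le_top le_top)
    · rintro _ ⟨_, ⟨h, rfl⟩, rfl⟩
      exact subset_closure ⟨α h, (map_pow α h p).symm⟩
  exact hle ⟨a, ha, rfl⟩

instance quot_comm : CommGroup (H ⧸ phi p H) :=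
  { (inferInstance : Group (H ⧸ phi p H)) with
    mul_comm := fun a b => by
      induction a using QuotientGroup.induction_on
      induction b using QuotientGroup.induction_on
      rename_i a b
      rw [← QuotientGroup.mk_mul, ← QuotientGroup.mk_mul, QuotientGroup.eq,
        show (a * b)⁻¹ * (b * a) = ⁅b⁻¹, a⁻¹⁆ by rw [commutatorElement_def]; group]
      exact comm_mem_phi p H _ _ }

/-- The quotient, written additively. -/
abbrev Vec := Additive (H ⧸ phi p H)

instance vecAction : DistribMulAction (MulAut (H ⧸ phi p H)) (Vec p H) where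
  smul g v := Additive.ofMul (g (Additive.toMul v))
  one_smul _ := rfl
  mul_smul _ _ _ := rfl
  smul_zero g := congrArg Additive.ofMul (map_one g)
  smul_add g v w := congrArg Additive.ofMul (map_mul g _ _)

theorem vecAction_apply (g : MulAut (H ⧸ phi p H)) (q : H ⧸ phi p H) :
    g • (Additive.ofMul q : Vec p H) = Additive.ofMul (g q) := rfl

/-- The action of the automorphisms of `H`. -/
def act : MulAut H →* MulAut (H ⧸ phi p H) where
  toFun α := QuotientGroup.congr (phi p H) (phi p H) α (le_antisymm
    (by rintro _ ⟨a, ha, rfl⟩; exact phi_map p H α ha)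
    fun a ha => ⟨α⁻¹ a, phi_map p H α⁻¹ ha, MulEquiv.apply_symm_apply α a⟩)
  map_one' := MulEquiv.ext fun q => by
    induction q using QuotientGroup.induction_on
    rfl
  map_mul' _ _ := MulEquiv.ext fun q => by
    induction q using QuotientGroup.induction_on
    rfl

theorem act_mk (α : MulAut H) (a : H) :
    act p H α (QuotientGroup.mk a) = QuotientGroup.mk (α a) := rfl

theorem tors (v : Vec p H) : p • v = 0 := by
  obtain ⟨a, ha⟩ := QuotientGroup.mk_surjective (Additive.toMul v)
  show Additive.ofMul (Additive.toMul v ^ p) = 0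
  rw [← ha, ← QuotientGroup.mk_pow, (QuotientGroup.eq_one_iff _).2 (pow_mem_phi p H a)]
  rfl

theorem phi_eq_frattini [Finite H] [hp : Fact p.Prime] (hH : IsPGroup p H) :
    phi p H = frattini H := by
  haveI := hH.isNilpotent
  refine le_antisymm (sup_le (Coprime.commutator_le_frattini H) ((closure_le _).2 ?_)) ?_
  · rintro _ ⟨h, rfl⟩
    exact GroupStructure3.FrattiniAut.pow_mem_frattini hH h
  · have h := Agent.CharP.frattini_le_ker (p := p) (QuotientGroup.mk' (phi p H))
      (fun a b => Commute.all _ _) fun a => by
        rw [← map_pow]; exact (QuotientGroup.eq_one_iff _).2 (pow_mem_phi p H a)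
    rwa [QuotientGroup.ker_mk'] at h

/-- The automorphisms acting trivially form a `p`-group. -/
theorem isPGroup_ker [Finite H] [hp : Fact p.Prime] (hH : IsPGroup p H) :
    IsPGroup p (act p H).ker := by
  obtain ⟨n, hn⟩ := IsPGroup.iff_card.1 hH
  obtain ⟨r, -, hr⟩ := (Nat.dvd_prime_pow hp.out).1
    (hn ▸ (frattini H).index_dvd_card : (frattini H).index ∣ p ^ n)
  have hd := GroupStructure3.FrattiniAut.card_stab_dvd hn hr (act p H).ker fun β hβ x => by
    rw [← phi_eq_frattini p H hH, ← QuotientGroup.eq_one_iff]
    have h1 : (QuotientGroup.mk (β x) : H ⧸ phi p H) = QuotientGroup.mk x := by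
      rw [← act_mk p H β x, MonoidHom.mem_ker.1 hβ]; rfl
    rw [QuotientGroup.mk_mul, h1, QuotientGroup.mk_inv, mul_inv_cancel]
  obtain ⟨k, -, hk⟩ := (Nat.dvd_prime_pow hp.out).1 hd
  exact IsPGroup.of_card hk

end Cfsg.Agent.MaxClassLin.Bridge
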