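import Cfsg.Agent.Lib.MaxClassLin.Defs
import Cfsg.Agent.Lib.MaxClassLin.BridgeVec
import Cfsg.Agent.Lib.MaxClassLin.BridgeLayers
import Cfsg.Agent.Lib.Fusion.Alperin

/-!
# From a normal essential subgroup of index at least `p ^ 2` to the linear situation

The essential subgroup is a layer `gam i`; the outer automorphisms act on the largest
elementary abelian quotient as a `Sys`, unless the last layer is exceptional, and then they
contain a group of transvections too large for a strongly `p`-embedded subgroup.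
-/

set_option autoImplicit false
set_option linter.unusedSectionVars false
set_option linter.style.haveILetI false
set_option linter.style.setOption false

namespace Cfsg.Agent.MaxClassLin.Bridge

open Cfsg Cfsg.FusionSystem
open Cfsg.Agent.Fusion Cfsg.Agent.Fusion.Basic Cfsg.Agent.Fusion.Saturation
open Cfsg.Agent.LocalFlavell.MaxClass
open Subgroup (zpowers normalizer)
open scoped commutatorElement

universe u

/-- The linear theorem: there is a nontrivial normal `p`-subgroup. -/
def CoreTheorem : Prop :=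
  ∀ (p : ℕ) [Fact p.Prime] (X : Type u) [Group X] [Finite X] (V : Type u) [AddCommGroup V]
    [Finite V] [DistribMulAction X V] (_S : Sys p X V),
      ∃ N : Subgroup X, N.Normal ∧ IsPGroup p N ∧ N ≠ ⊥

variable {X : Type u} [Group X] [Finite X] {p n : ℕ} [hp : Fact p.Prime]

/-- Every element of a layer is a natural power of an exact element modulo the next layer. -/
theorem exists_pow (hS : IsMC X p n) {j : ℕ} {a b : X} (ha : Exact j a) (hb : b ∈ gam X j) :
    ∃ z ∈ gam X (j + 1), ∃ k : ℕ, b = z * a ^ k := by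
  obtain ⟨z, hz, w, hw, rfl⟩ := Subgroup.mem_sup_of_normal_left.1 ((gam_eq_sup hS ha).le hb)
  rw [← mem_powers_iff_mem_zpowers] at hw
  obtain ⟨k, rfl⟩ := hw
  exact ⟨z, hz, k, rfl⟩

/-- An endomorphism scaling an exact element scales its layer. -/
theorem scal_of_gen (hS : IsMC X p n) {j N : ℕ} (φ : MulAut X) {e : X}
    (he : Exact j e) (h : φ e * (e ^ N)⁻¹ ∈ gam X (j + 1)) {b : X} (hb : b ∈ gam X j) :
    φ b * (b ^ N)⁻¹ ∈ gam X (j + 1) := by
  obtain ⟨z, hz, k, rfl⟩ := exists_pow hS he hb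
  set π := QuotientGroup.mk' (gam X (j + 1))
  have hkill : ∀ w ∈ gam X (j + 1), π w = 1 := fun w hw => (QuotientGroup.eq_one_iff _).2 hw
  refine (QuotientGroup.eq_one_iff _).1 ?_
  show π _ = 1
  have hφe : π (φ e) = π e ^ N := by
    have := hkill _ h
    rwa [map_mul, map_inv, map_pow, mul_inv_eq_one] at this
  rw [map_mul, map_inv, map_mul φ, map_mul π, map_pow φ, map_pow π, hφe,
    hkill _ (gam_apply φ hz), one_mul, map_pow, map_mul, hkill z hz, one_mul, map_pow, ← pow_mul,
    ← pow_mul, mul_comm N k, mul_inv_cancel]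

variable {F : FusionSystem (⊤ : Subgroup X)} {E : Subgroup X} [hEn : E.Normal]

/-- Conjugation on the normal subgroup. -/
noncomputable def conjE (F : FusionSystem (⊤ : Subgroup X)) (E : Subgroup X) [E.Normal] :
    X →* F.autGroup E where
  toFun g := ⟨conjAut (⊤ : Subgroup X) E ⟨g, Subgroup.mem_top g, by
      rw [Subgroup.normalizer_eq_top]; exact Subgroup.mem_top g⟩,
    autInducedBy_le le_top ((conjAut_range (⊤ : Subgroup X) E).le ⟨_, rfl⟩)⟩
  map_one' := Subtype.ext ((conjAut (⊤ : Subgroup X) E).map_one)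
  map_mul' g h := Subtype.ext ((conjAut (⊤ : Subgroup X) E).map_mul
    ⟨g, Subgroup.mem_top g, by rw [Subgroup.normalizer_eq_top]; exact Subgroup.mem_top g⟩
    ⟨h, Subgroup.mem_top h, by rw [Subgroup.normalizer_eq_top]; exact Subgroup.mem_top h⟩)

theorem conjE_apply (g : X) (a : E) : (((conjE F E g : MulAut E) a : E) : X) = g * a * g⁻¹ := rfl

/-- The action on the elementary abelian quotient. -/
noncomputable def rep (p : ℕ) (F : FusionSystem (⊤ : Subgroup X)) (E : Subgroup X) :
    F.autGroup E →* MulAut (E ⧸ phi p E) :=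
  (act p E).comp (F.autGroup E).subtype

/-- Conjugation seen in the image of the action. -/
noncomputable def tau (p : ℕ) (F : FusionSystem (⊤ : Subgroup X)) (E : Subgroup X) [E.Normal] :
    X →* (rep p F E).range :=
  (rep p F E).rangeRestrict.comp (conjE F E)

theorem tau_smul (g : X) (a : E) :
    tau p F E g • (Additive.ofMul (QuotientGroup.mk a) : Vec p E) =
      Additive.ofMul (QuotientGroup.mk ((conjE F E g : MulAut E) a)) := rfl

theorem rep_smul (a : F.autGroup E) (b : E) :
    (rep p F E).rangeRestrict a • (Additive.ofMul (QuotientGroup.mk b) : Vec p E) =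
      Additive.ofMul (QuotientGroup.mk ((a : MulAut E) b)) := rfl

/-- The flag on the quotient. -/
def flagW (p : ℕ) (E : Subgroup X) (i : ℕ) (l : ℕ) : AddSubgroup (Vec p E) :=
  Subgroup.toAddSubgroup (((gam X (i + l)).subgroupOf E).map (QuotientGroup.mk' (phi p E)))

theorem mem_flagW {i l : ℕ} {a : E} :
    (Additive.ofMul (QuotientGroup.mk a) : Vec p E) ∈ flagW p E i l ↔
      a ∈ (gam X (i + l)).subgroupOf E ⊔ phi p E := by
  show (QuotientGroup.mk a : E ⧸ phi p E) ∈ ((gam X (i + l)).subgroupOf E).map (QuotientGroup.mk' (phi p E)) ↔ _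
  conv_rhs => rw [← QuotientGroup.ker_mk' (phi p E), ← Subgroup.comap_map_eq, Subgroup.mem_comap]
  rfl

/-- The data fixed during the argument. -/
structure Ctx (F : FusionSystem (⊤ : Subgroup X)) (p n i d : ℕ) (E : Subgroup X) (s : X) : Prop where
  mc : IsMC X p n
  five : 5 ≤ p
  sat : F.IsSaturated p
  ess : F.IsEssential p E
  two : 2 ≤ i
  hin : i + d ≤ n
  hi2 : i + 2 ≤ n
  eqE : E = gam X i
  eqPhi : (phi p E).map E.subtype = gam X (i + d)
  dlt : d < p
  good : Good n s

namespace Ctx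

variable {i d : ℕ} {s : X} (c : Ctx F p n i d E s)
include c

theorem top : IsPGroup p (⊤ : Subgroup X) := (isPGroup c.mc).to_subgroup ⊤

theorem ker_rep_le {a : F.autGroup E} (ha : a ∈ (rep p F E).ker) : (a : MulAut E) ∈ Inn E := by
  refine EssentialShape.mem_inn_of_mem_pCore c.ess c.top ?_
  have hE : IsPGroup p E := (isPGroup c.mc).to_subgroup E
  have hk : IsPGroup p (rep p F E).ker :=
    (isPGroup_ker p E hE).comap_of_injective (F.autGroup E).subtype Subtype.val_injective
  exact le_sSup (show (rep p F E).ker ∈ {N : Subgroup (F.autGroup E) | N.Normal ∧ IsPGroup p N}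
    from ⟨inferInstance, hk⟩) ha

theorem mem_ker_rep {a : F.autGroup E} (ha : (a : MulAut E) ∈ Inn E) : a ∈ (rep p F E).ker := by
  obtain ⟨g, hg, hge⟩ := mem_inn_iff.1 ha
  rw [MonoidHom.mem_ker]
  refine MulEquiv.ext fun q => ?_
  induction q using QuotientGroup.induction_on with
  | H b =>
    show QuotientGroup.mk ((a : MulAut E) b) = QuotientGroup.mk b
    have h1 : (a : MulAut E) b = ⟨g, hg⟩ * b * ⟨g, hg⟩⁻¹ := Subtype.ext (by
      rw [← autFun_apply, hge b b.2]; rfl)
    rw [h1, QuotientGroup.mk_mul, QuotientGroup.mk_mul, QuotientGroup.mk_inv, mul_comm (QuotientGroup.mk _ : E ⧸ phi p E),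
      mul_inv_cancel_right]

theorem ker_tau : (tau p F E).ker = E := by
  ext g
  rw [MonoidHom.mem_ker, tau, MonoidHom.comp_apply, ← MonoidHom.mem_ker, MonoidHom.ker_rangeRestrict]
  constructor
  · intro hg
    obtain ⟨t, ht, hte⟩ := mem_inn_iff.1 (c.ker_rep_le hg)
    have hcE : t⁻¹ * g ∈ E := by
      refine centric_centralizerIn_le c.ess.1 ⟨Subgroup.mem_top _, fun x hx => ?_⟩
      have h1 := hte x hx
      rw [autFun_of_mem _ hx, conjE_apply, cj_apply] at h1
      calc x * (t⁻¹ * g) = t⁻¹ * (t * x * t⁻¹) * g := by group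
        _ = t⁻¹ * (g * x * g⁻¹) * g := by rw [← h1]
        _ = t⁻¹ * g * x := by group
    simpa using E.mul_mem ht hcE
  · exact fun hg => c.mem_ker_rep (mem_inn_iff.2 ⟨g, hg, fun x hx => by
      rw [autFun_of_mem _ hx, conjE_apply]; rfl⟩)

theorem comap_lev {k : ℕ} (hk : k + 1 ≤ i) :
    ((gam X (k + 1)).map (tau p F E)).comap (tau p F E) = gam X (k + 1) := by
  rw [Subgroup.comap_map_eq, c.ker_tau, c.eqE, sup_eq_left]
  exact gam_anti hk

theorem lev_eq_bot {k : ℕ} (hk : i ≤ k + 1) : (gam X (k + 1)).map (tau p F E) = ⊥ := by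
  rw [Subgroup.map_eq_bot_iff, c.ker_tau, c.eqE]
  exact gam_anti hk

theorem coe_mem {k : ℕ} (hk : i ≤ k) {a : X} (ha : a ∈ gam X k) : a ∈ E :=
  c.eqE ▸ gam_anti hk ha

theorem mem_flag {l : ℕ} {a : E} :
    (Additive.ofMul (QuotientGroup.mk a) : Vec p E) ∈ flagW p E i l ↔
      (a : X) ∈ gam X (i + min l d) := by
  rw [mem_flagW, ← Subgroup.mem_map_iff_mem E.subtype_injective, Subgroup.map_sup, c.eqPhi,
    Subgroup.map_subgroupOf_eq_of_le (c.eqE ▸ gam_anti (Nat.le_add_right i l))]
  rcases le_total l d with hl | hl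
  · rw [min_eq_left hl, sup_eq_left.2 (gam_anti (by omega))]; rfl
  · rw [min_eq_right hl, sup_eq_right.2 (gam_anti (by omega))]; rfl

theorem smul_sub (g : X) (a : E) :
    ∃ w : E, (w : X) = ⁅g, (a : X)⁆ ∧ tau p F E g • (Additive.ofMul (QuotientGroup.mk a) : Vec p E) -
      Additive.ofMul (QuotientGroup.mk a) = Additive.ofMul (QuotientGroup.mk w) := by
  refine ⟨(conjE F E g : MulAut E) a / a, ?_, ?_⟩
  · rw [Subgroup.coe_div, conjE_apply, div_eq_mul_inv, commutatorElement_def]
  · rw [tau_smul, ← ofMul_div, QuotientGroup.mk_div]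

theorem exists_rep (v : Vec p E) : ∃ a : E, v = Additive.ofMul (QuotientGroup.mk a) := by
  obtain ⟨a, ha⟩ := QuotientGroup.mk_surjective (Additive.toMul v)
  exact ⟨a, by rw [ha]; rfl⟩

theorem shift (hreg : cen X (n - 2) = gam X 1 ∨ i + d + 1 ≤ n) {k : ℕ} {u : X}
    (hu : u ∈ gam X (k + 1)) {l : ℕ} {v : Vec p E} (hv : v ∈ flagW p E i l) :
    tau p F E u • v - v ∈ flagW p E i (l + k + 2) := by
  obtain ⟨a, rfl⟩ := c.exists_rep v
  rw [c.mem_flag] at hv
  obtain ⟨w, hw, hwe⟩ := c.smul_sub (p := p) u a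
  rw [hwe, c.mem_flag, hw]
  have := c.two
  by_cases h1 : d ≤ min l d + k + 1
  · exact gam_anti (by omega) (comm_sum (by omega) (by omega) hu hv)
  · have h2 : k + 1 + (i + min l d) + 2 ≤ n ∨
        (cen X (n - 2) = gam X 1 ∧ k + 1 + (i + min l d) + 1 ≤ n) := by
      have := c.hin
      rcases hreg with h | h
      · exact Or.inr ⟨h, by omega⟩
      · exact Or.inl (by omega)
    exact gam_anti (by omega) (comm_step c.mc (by omega) (by omega) h2 hu hv)

theorem exists_ext {h : (rep p F E).range}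
    (hh : h ∈ normalizer ((tau p F E).range : Set (rep p F E).range)) :
    ∃ φ : MulAut X, (∀ g : X, tau p F E (φ g) = h * tau p F E g * h⁻¹) ∧
      ∀ b : E, ∀ hb : φ (b : X) ∈ E,
        h • (Additive.ofMul (QuotientGroup.mk b) : Vec p E) =
          Additive.ofMul (QuotientGroup.mk ⟨φ (b : X), hb⟩) := by
  obtain ⟨a, rfl⟩ := (rep p F E).rangeRestrict_surjective h
  have hEtop : E ≤ (⊤ : Subgroup X) := le_top
  have hf : IsMap F E (autFun (a : MulAut E)) := isMap_of_mem_autGroup hEtop a.2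
  have hconj : ∀ g : X, ∃ k : X, a * conjE F E g * a⁻¹ = conjE F E k := by
    intro g
    obtain ⟨g', hg'⟩ := (Subgroup.mem_normalizer_iff.1 hh _).1 ⟨g, rfl⟩
    have hker : a * conjE F E g * a⁻¹ * (conjE F E g')⁻¹ ∈ (rep p F E).ker := by
      rw [← MonoidHom.ker_rangeRestrict, MonoidHom.mem_ker, map_mul, map_mul, map_mul, map_inv,
        map_inv, mul_inv_eq_one]
      exact hg'.symm
    obtain ⟨t, ht, hte⟩ := mem_inn_iff.1 (c.ker_rep_le hker)
    refine ⟨t * g', ?_⟩
    rw [map_mul, ← mul_inv_eq_iff_eq_mul]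
    refine Subtype.ext (autFun_ext fun x hx => ?_)
    rw [hte x hx, autFun_of_mem _ hx, conjE_apply]
    rfl
  have hN : (⊤ : Subgroup X) ≤ nSub (⊤ : Subgroup X) E (autFun (a : MulAut E)) := by
    intro g _
    obtain ⟨k, hk⟩ := hconj g
    refine mem_nSub.2 ⟨Subgroup.mem_top g, by rw [Subgroup.normalizer_eq_top]; exact Subgroup.mem_top g,
      k, Subgroup.mem_top k, fun x hx => ?_⟩
    have hy := autFun_mem (a : MulAut E) hx
    have h1 : autFun ((conjE F E k : F.autGroup E) : MulAut E) (autFun (a : MulAut E) x) =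
        k * autFun (a : MulAut E) x * k⁻¹ := by
      rw [autFun_of_mem _ hy, conjE_apply]
    rw [← h1, ← hk, Subgroup.coe_mul, Subgroup.coe_mul, Subgroup.coe_inv, autFun_mul, autFun_mul,
      autFun_inv_apply]
    congr 1
    rw [autFun_of_mem _ hx, conjE_apply]
  obtain ⟨θ, hθ, hθe⟩ := exists_extension c.top c.sat hf
    (by rw [autFun_img]; exact centric_fullyCentralized c.ess.1)
  have hθt : IsMap F (⊤ : Subgroup X) θ := hθ.restrict hN
  let f : X →* X := MonoidHom.mk' θ fun x y => hθt.map_mul (Subgroup.mem_top x) (Subgroup.mem_top y)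
  have hfi : Function.Injective f := fun x y hxy =>
    hθt.inj (Subgroup.mem_top x) (Subgroup.mem_top y) hxy
  let φ : MulAut X := MulEquiv.ofBijective f (Finite.injective_iff_bijective.1 hfi)
  have hφ : ∀ x : X, φ x = θ x := fun x => rfl
  have hφE : ∀ b : E, φ (b : X) = (((a : MulAut E) b : E) : X) := fun b => by
    rw [hφ, hθe _ b.2, autFun_apply]
  refine ⟨φ, fun g => ?_, fun b hb => ?_⟩
  · rw [tau, MonoidHom.comp_apply, MonoidHom.comp_apply, ← map_inv, ← map_mul, ← map_mul]
    congr 1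
    refine Subtype.ext (MulEquiv.ext fun x => Subtype.ext ?_)
    obtain ⟨y, rfl⟩ : ∃ y, (a : MulAut E) y = x := (a : MulAut E).surjective x
    rw [conjE_apply, Subgroup.coe_mul, Subgroup.coe_mul, Subgroup.coe_inv, MulAut.mul_apply,
      MulAut.mul_apply, MulAut.inv_apply_self, ← hφE y, ← hφE ((conjE F E g : MulAut E) y),
      conjE_apply, map_mul, map_mul, map_inv]
  · rw [rep_smul]
    exact congrArg (fun z : E => (Additive.ofMul (QuotientGroup.mk z) : Vec p E))
      (Subtype.ext (hφE b).symm)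

theorem weights {h : (rep p F E).range}
    (hh : h ∈ normalizer ((tau p F E).range : Set (rep p F E).range)) :
    ∃ α β : ℕ, h * tau p F E s * h⁻¹ * (tau p F E s ^ α)⁻¹ ∈ (gam X (0 + 1)).map (tau p F E) ∧
      (∀ k, ∀ a ∈ (gam X (k + 1)).map (tau p F E),
        h * a * h⁻¹ * (a ^ (β * α ^ k))⁻¹ ∈ (gam X (k + 1 + 1)).map (tau p F E)) ∧
      ∀ v : Vec p E, h • v - (β * α ^ (i - 1)) • v ∈ flagW p E i 1 := by
  obtain ⟨φ, hφ, hφV⟩ := c.exists_ext hh
  have hn := c.hi2
  have htwo := c.two
  have hS := c.mc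
  have hs1 : s ∉ gam X 1 := by
    rw [gam_one]
    have := c.good.notMem hS (j := 0) (by omega)
    rwa [max_eq_right (Nat.zero_le 2)] at this
  obtain ⟨w, hw, α, hα⟩ := exists_pow hS (j := 0) (a := s) ⟨Subgroup.mem_top s, hs1⟩
    (b := φ s) (Subgroup.mem_top _)
  obtain ⟨c₁, hc₁⟩ := exists_exact hS (i := 1) (by omega)
  obtain ⟨z, hz, β, hβ⟩ := exists_pow hS hc₁ (b := φ c₁) (gam_apply φ hc₁.1)
  have key : ∀ j, j + 1 ≤ i → ∀ b ∈ gam X (j + 1),
      φ b * (b ^ (β * α ^ j))⁻¹ ∈ gam X (j + 1 + 1) := by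
    intro j
    induction j with
    | zero =>
      intro _ b hb
      refine scal_of_gen hS φ hc₁ ?_ hb
      rw [pow_zero, mul_one, hβ, mul_inv_cancel_right]
      exact hz
    | succ j ih =>
      intro hj b hb
      obtain ⟨a, ha⟩ := exists_exact hS (i := j + 1) (by omega)
      have he := exact_comm hS (i := j + 1) (by omega) (by omega) ha
        (x := s) (c.good.notMem hS (by omega))
      refine scal_of_gen hS φ he ?_ hb
      obtain ⟨za, hza, hzae⟩ : ∃ za ∈ gam X (j + 1 + 1), φ a = za * a ^ (β * α ^ j) :=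
        ⟨_, ih (by omega) a ha.1, (inv_mul_cancel_right _ _).symm⟩
      have hd : ⁅gam X (j + 1), gam X 1⁆ ≤ gam X (j + 1 + 2) := by
        rw [Subgroup.commutator_le]
        intro x hx y hy
        have := comm_step hS (a := j + 1) (b := 1) (by omega) le_rfl (Or.inl (by omega)) hx hy
        exact gam_anti (by omega) this
      refine (QuotientGroup.eq_one_iff _).1 ?_
      show QuotientGroup.mk' (gam X (j + 1 + 2)) _ = 1
      rw [map_mul, map_inv, map_commutatorElement φ, hzae, hα,
        comm_congr (by omega) hd (Subgroup.pow_mem _ ha.1 _) hza hw, comm_pow (by omega) ha.1,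
        show β * α ^ j * α = β * α ^ (j + 1) by ring, mul_inv_cancel]
  refine ⟨α, β, ?_, ?_, ?_⟩
  · rw [← hφ, ← map_pow, ← map_inv, ← map_mul]
    refine Subgroup.mem_map_of_mem _ ?_
    rw [hα, mul_inv_cancel_right]
    exact hw
  · rintro k _ ⟨a, ha, rfl⟩
    rw [← hφ, ← map_pow, ← map_inv, ← map_mul]
    by_cases hk : k + 1 ≤ i
    · exact Subgroup.mem_map_of_mem _ (key k hk a ha)
    · have h1 : φ a * (a ^ (β * α ^ k))⁻¹ ∈ (tau p F E).ker := by
        rw [c.ker_tau]
        exact E.mul_mem (c.coe_mem (by omega) (gam_apply φ ha))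
          (E.inv_mem (E.pow_mem (c.coe_mem (by omega) ha) _))
      rw [MonoidHom.mem_ker.1 h1]
      exact one_mem _
  · intro v
    obtain ⟨b, rfl⟩ := c.exists_rep v
    have hb : φ (b : X) ∈ E := c.eqE.ge (gam_apply φ (c.eqE.le b.2))
    rw [hφV b hb, ← ofMul_pow, ← ofMul_div, ← QuotientGroup.mk_pow, ← QuotientGroup.mk_div, c.mem_flag,
      Subgroup.coe_div, Subgroup.coe_pow, div_eq_mul_inv]
    refine gam_anti (show i + min 1 d ≤ i + 1 by omega) ?_
    have := key (i - 1) (by omega) b (by rw [show i - 1 + 1 = i by omega]; exact c.eqE ▸ b.2)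
    rwa [show i - 1 + 1 + 1 = i + 1 by omega] at this

/-- The linear situation. -/
noncomputable def sys (hreg : cen X (n - 2) = gam X 1 ∨ i + d + 1 ≤ n) :
    Sys p (rep p F E).range (Vec p E) where
  d := d
  i := i
  W := flagW p E i
  T := (tau p F E).range
  lev k := (gam X (k + 1)).map (tau p F E)
  x := tau p F E s
  five_le := c.five
  d_lt := c.dlt
  two_le := c.two
  tors := tors p E
  faithful g hg := by
    refine Subtype.ext (MulEquiv.ext fun q => ?_)
    exact congrArg Additive.toMul (hg (Additive.ofMul q))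
  W_zero := eq_top_iff.2 fun v _ => by
    obtain ⟨a, rfl⟩ := c.exists_rep v
    rw [c.mem_flag, Nat.zero_min, Nat.add_zero, ← c.eqE]
    exact a.2
  W_bot l hl := eq_bot_iff.2 fun v hv => by
    obtain ⟨a, rfl⟩ := c.exists_rep v
    rw [c.mem_flag, min_eq_right hl, ← c.eqPhi] at hv
    rw [AddSubgroup.mem_bot, ofMul_eq_zero, QuotientGroup.eq_one_iff]
    exact (Subgroup.mem_map_iff_mem E.subtype_injective).1 hv
  W_anti l m hlm v hv := by
    obtain ⟨a, rfl⟩ := c.exists_rep v
    rw [c.mem_flag] at hv ⊢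
    exact gam_anti (by omega) hv
  W_index l hl := by
    have hle : ∀ m, m ≤ d → (gam X (i + m)).subgroupOf E ⊔ phi p E = (gam X (i + m)).subgroupOf E := by
      intro m hm
      refine sup_eq_left.2 fun a ha => ?_
      rw [Subgroup.mem_subgroupOf]
      exact gam_anti (by omega : i + m ≤ i + d) (c.eqPhi ▸ ⟨a, ha, rfl⟩)
    show (((gam X (i + (l + 1))).subgroupOf E).map (QuotientGroup.mk' (phi p E))).relIndex
      (((gam X (i + l)).subgroupOf E).map (QuotientGroup.mk' (phi p E))) = p
    rw [← Subgroup.relIndex_comap, Subgroup.comap_map_eq, QuotientGroup.ker_mk', hle _ (by omega),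
      Subgroup.relIndex_subgroupOf (c.eqE ▸ gam_anti (Nat.le_add_right i l))]
    exact relIndex_gam c.mc (i := i + l) (by have := c.hin; omega)
  sylow := by
    have hE : F.IsFullyNormalized E := c.ess.2.1
    obtain ⟨R, hR⟩ := (fullyNormalized_fullyAutomized c.top c.sat hE).2
    refine ⟨R.mapSurjective (rep p F E).rangeRestrict_surjective, ?_⟩
    rw [Sylow.coe_mapSurjective, hR, tau, ← MonoidHom.map_range]
    congr 1
    ext a
    rw [Subgroup.mem_subgroupOf, mem_autInducedBy_iff']
    constructor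
    · rintro ⟨g, -, hge⟩
      refine ⟨g, Subtype.ext (autFun_ext fun x hx => ?_)⟩
      rw [hge x hx, autFun_of_mem _ hx, conjE_apply]
      rfl
    · rintro ⟨g, rfl⟩
      exact ⟨g, ⟨Subgroup.mem_top g, by rw [Subgroup.normalizer_eq_top]; exact Subgroup.mem_top g⟩,
        fun x hx => by rw [autFun_of_mem _ hx, conjE_apply]; rfl⟩
  stab := by
    rintro _ ⟨g, rfl⟩ l v hv
    obtain ⟨a, rfl⟩ := c.exists_rep v
    rw [c.mem_flag] at hv
    obtain ⟨w, hw, hwe⟩ := c.smul_sub (p := p) g a
    rw [hwe, c.mem_flag, hw]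
    exact gam_anti (by omega) (comm_mem' (by have := c.two; omega) hv g)
  lev_le := Subgroup.map_le_range _ _
  lev_anti k m hkm := Subgroup.map_mono (gam_anti (by omega))
  lev_bot k hk := c.lev_eq_bot hk
  lev_index_zero := by
    rw [show (tau p F E).range = (⊤ : Subgroup X).map (tau p F E) from MonoidHom.range_eq_map _,
      ← Subgroup.relIndex_comap, c.comap_lev (by have := c.two; omega),
      Subgroup.relIndex_top_right, index_gam c.mc (i := 0 + 1) (by have := c.hi2; omega), pow_one]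
  lev_index k hk := by
    rw [← Subgroup.relIndex_comap, c.comap_lev (k := k + 1) (by omega)]
    exact relIndex_gam c.mc (i := k + 1) (by have := c.hi2; omega)
  lev_normal k := by
    rintro _ ⟨g, rfl⟩
    refine Subgroup.le_normalizer_map _ ⟨g, ?_, rfl⟩
    rw [Subgroup.normalizer_eq_top]
    exact Subgroup.mem_top g
  x_mem := ⟨s, rfl⟩
  x_notMem h := by
    have h1 : s ∈ gam X (0 + 1) := c.comap_lev (k := 0) (by have := c.two; omega) ▸ h
    have h2 := c.good.notMem c.mc (j := 0) (by have := c.hi2; omega)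
    rw [max_eq_right (Nat.zero_le 2)] at h2
    exact h2 h1
  x_exact l hl v hv hx := by
    obtain ⟨a, rfl⟩ := c.exists_rep v
    obtain ⟨w, hw, hwe⟩ := c.smul_sub (p := p) s a
    rw [c.mem_flag] at hv
    rw [hwe, c.mem_flag, hw, min_eq_left hl] at hx
    rw [c.mem_flag, min_eq_left (by omega : l + 1 ≤ d)]
    rw [min_eq_left (by omega : l ≤ d)] at hv
    by_contra hne
    have h1 := exact_comm c.mc (by have := c.two; omega) (by have := c.hin; omega)
      (show Exact (i + l) (a : X) from ⟨hv, hne⟩) (c.good.notMem c.mc (by have := c.hin; omega))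
    refine h1.2 ?_
    rw [← commutatorElement_inv]
    exact inv_mem hx
  x_comm := by
    rintro k _ ⟨a, ha, rfl⟩
    rw [← map_commutatorElement]
    exact Subgroup.mem_map_of_mem _ (comm_mem (by omega) ha s)
  x_comm_exact := by
    rintro k hk _ ⟨a, ha, rfl⟩ h
    rw [← map_commutatorElement, ← Subgroup.mem_comap, c.comap_lev (k := k + 2) (by omega)] at h
    refine Subgroup.mem_map_of_mem _ ?_
    by_contra hne
    have h1 := exact_comm c.mc (by omega) (by have := c.hi2; omega)
      (show Exact (k + 1) a from ⟨ha, hne⟩) (c.good.notMem c.mc (by have := c.hi2; omega))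
    exact h1.2 h
  shift := by
    rintro k _ ⟨u, hu, rfl⟩ l v hv
    exact c.shift hreg hu hv
  comm := by
    rintro j k _ ⟨a, ha, rfl⟩ _ ⟨b, hb, rfl⟩
    rw [← map_commutatorElement]
    by_cases h : i ≤ j + k + 2
    · have h1 : ⁅a, b⁆ ∈ (tau p F E).ker := by
        rw [c.ker_tau]
        exact c.coe_mem (k := j + 1 + (k + 1)) (by omega) (comm_sum (by omega) (by omega) ha hb)
      rw [MonoidHom.mem_ker.1 h1]
      exact one_mem _
    · refine Subgroup.mem_map_of_mem _ ?_
      exact gam_anti (by omega) (comm_step c.mc (a := j + 1) (b := k + 1) (by omega) (by omega)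
        (Or.inl (by have := c.hi2; omega)) ha hb)
  weights h hh := c.weights hh

/-- The regular case. -/
theorem regular (hCore : CoreTheorem.{u}) (hreg : cen X (n - 2) = gam X 1 ∨ i + d + 1 ≤ n) : False := by
  haveI : Finite (Vec p E) := inferInstanceAs (Finite (E ⧸ phi p E))
  obtain ⟨N, hN, hNp, hNne⟩ := hCore p _ _ (c.sys hreg)
  haveI := hN
  set K := N.comap (rep p F E).rangeRestrict with hK
  haveI : K.Normal := Subgroup.Normal.comap inferInstance _
  have hKp : IsPGroup p K := by
    refine IsPGroup.comap_of_ker_isPGroup hNp _ ?_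
    rw [MonoidHom.ker_rangeRestrict]
    exact (isPGroup_ker p E ((isPGroup c.mc).to_subgroup E)).comap_of_injective
      (F.autGroup E).subtype Subtype.val_injective
  refine hNne (eq_bot_iff.2 fun q hq => ?_)
  obtain ⟨a, rfl⟩ := (rep p F E).rangeRestrict_surjective q
  have h2 : a ∈ pCore p (F.autGroup E) :=
    le_sSup (show K ∈ {K : Subgroup (F.autGroup E) | K.Normal ∧ IsPGroup p K} from
      ⟨inferInstance, hKp⟩) (Subgroup.mem_comap.2 hq)
  rw [Subgroup.mem_bot, ← MonoidHom.mem_ker, MonoidHom.ker_rangeRestrict]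
  exact c.mem_ker_rep (EssentialShape.mem_inn_of_mem_pCore c.ess c.top h2)

/-- The exceptional case with elementary abelian subgroup. -/
theorem exceptional (hex : cen X (n - 2) ≠ gam X 1) (hd : i + d = n) : False := by
  have hn := c.hi2
  have htwo := c.two
  have hS := c.mc
  have hPhi : (phi p E).map E.subtype = ⊥ := by rw [c.eqPhi, hd, gam_bot hS le_rfl]
  have hphi : phi p E = ⊥ := (Subgroup.map_eq_bot_iff_of_injective _ E.subtype_injective).1 hPhi
  have hab : ∀ a ∈ gam X i, ∀ b ∈ gam X i, a * b = b * a := by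
    intro a ha b hb
    rw [← c.eqE] at ha hb
    have h1 : ⁅(⟨a, ha⟩ : E), ⟨b, hb⟩⁆ ∈ phi p E := comm_mem_phi p E _ _
    rw [hphi, Subgroup.mem_bot, commutatorElement_eq_one_iff_mul_comm] at h1
    exact congrArg Subtype.val h1
  have h2i := le_two_mul_of_abelian hS hex (by omega) hn hab
  have hi3 : 3 ≤ i := by
    by_contra hlt
    have := hS.hn
    obtain rfl : n = 4 := by omega
    exact hex rfl
  have hlt : E < (⊤ : Subgroup X) := Alperin.essential_lt c.top c.sat c.ess
  have hne := (Alperin.essential_iff c.top c.sat hlt c.ess.2.1).1 c.ess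
  obtain ⟨-, hse⟩ := Alperin.map_extGroup_stronglyPEmbedded c.top c.sat hlt c.ess.2.1 hne
  have hker : (Inn E).subgroupOf (F.autGroup E) = (rep p F E).ker := by
    ext a
    exact ⟨fun ha => c.mem_ker_rep (Subgroup.mem_subgroupOf.1 ha),
      fun ha => Subgroup.mem_subgroupOf.2 (c.ker_rep_le ha)⟩
  haveI := Alperin.inn_normal F E
  let e : F.autGroup E ⧸ (Inn E).subgroupOf (F.autGroup E) ≃* (rep p F E).range :=
    (QuotientGroup.quotientMulEquivOfEq hker).trans (QuotientGroup.quotientKerEquivRange _)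
  have he : ∀ a : F.autGroup E, e (QuotientGroup.mk' _ a) = (rep p F E).rangeRestrict a := fun a => rfl
  set Y₀ := ((Alperin.extGroup F E).subgroupOf (F.autGroup E)).map
    (QuotientGroup.mk' ((Inn E).subgroupOf (F.autGroup E))) with hY₀
  obtain ⟨R, hR⟩ := Alperin.outS_sylow c.top c.sat c.ess.2.1
  have hsurj : Function.Surjective e.toMonoidHom := e.surjective
  set P : Sylow p (rep p F E).range := R.mapSurjective hsurj with hP
  have hPT : (P : Subgroup (rep p F E).range) = (tau p F E).range := by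
    rw [hP, Sylow.coe_mapSurjective, hR]
    ext y
    constructor
    · rintro ⟨q, hq, rfl⟩
      obtain ⟨a, rfl⟩ := QuotientGroup.mk'_surjective _ q
      obtain ⟨g, -, hge⟩ := mem_autInducedBy_iff'.1 ((Alperin.mk_mem_outS_iff c.ess.2.1.1).1 hq)
      refine ⟨g, ?_⟩
      show tau p F E g = e (QuotientGroup.mk' _ a)
      rw [he, tau, MonoidHom.comp_apply]
      congr 1
      refine Subtype.ext (autFun_ext fun x hx => ?_)
      rw [hge x hx, autFun_of_mem _ hx, conjE_apply]
      rfl
    · rintro ⟨g, rfl⟩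
      refine ⟨QuotientGroup.mk' _ (conjE F E g), (Alperin.mk_mem_outS_iff c.ess.2.1.1).2 ?_, he _⟩
      exact mem_autInducedBy_iff'.2 ⟨g, ⟨Subgroup.mem_top g, by
        rw [Subgroup.normalizer_eq_top]; exact Subgroup.mem_top g⟩,
        fun x hx => by rw [autFun_of_mem _ hx, conjE_apply]; rfl⟩
  have hY : ∀ A : Subgroup (rep p F E).range, A ≤ P → A ≠ ⊥ →
      normalizer (A : Set (rep p F E).range) ≤ Y₀.map e.toMonoidHom := by
    intro A hA hA1 q hq
    refine ⟨e.symm q, Alperin.normalizer_le_map_extGroup c.top c.sat c.ess.2.1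
      (A := A.comap e.toMonoidHom) ?_ ?_ ?_, e.apply_symm_apply q⟩
    · intro x hx
      rw [← hR]
      obtain ⟨r, hr, hre⟩ := hA (Subgroup.mem_comap.1 hx)
      rwa [← e.injective hre]
    · intro h0
      refine hA1 (eq_bot_iff.2 fun y hy => Subgroup.mem_bot.2 ?_)
      have h1 : e.symm y ∈ A.comap e.toMonoidHom := Subgroup.mem_comap.2 (by
        show e (e.symm y) ∈ A; rwa [e.apply_symm_apply])
      rw [h0, Subgroup.mem_bot, map_eq_one_iff e.symm e.symm.injective] at h1
      exact h1
    · rw [Subgroup.mem_normalizer_iff] at hq ⊢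
      intro x
      rw [Subgroup.mem_comap, Subgroup.mem_comap]
      refine (hq (e x)).trans ?_
      show q * e x * q⁻¹ ∈ A ↔ e (e.symm q * x * (e.symm q)⁻¹) ∈ A
      rw [map_mul, map_mul, map_inv, e.apply_symm_apply]
  have hYtop : Y₀.map e.toMonoidHom ≠ ⊤ := fun h => hse.2.1 (eq_top_iff.2 fun q _ => by
    obtain ⟨r, hr, hre⟩ := h.ge (Subgroup.mem_top (e q))
    rwa [← e.injective hre])
  obtain ⟨z, hz⟩ := exists_exact hS (i := n - 1) (by omega)
  have hzE : z ∈ E := c.coe_mem (by omega) hz.1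
  have hfaith : ∀ g : (rep p F E).range, (∀ v : Vec p E, g • v = v) → g = 1 := fun g hg =>
    Subtype.ext (MulEquiv.ext fun q => congrArg Additive.toMul (hg (Additive.ofMul q)))
  refine no_transvection_group (p := p) hfaith hY hYtop (B := (gam X (i - 2)).map (tau p F E)) ?_
    (Additive.ofMul (QuotientGroup.mk ⟨z, hzE⟩) : Vec p E) (tors p E _) ?_ ?_ ?_
  · rw [hPT]
    exact Subgroup.map_le_range _ _
  · rintro _ ⟨u, hu, rfl⟩
    rw [tau_smul]
    congr 2
    exact Subtype.ext (by rw [conjE_apply, ← (central hS hz.1 u).eq, mul_inv_cancel_right])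
  · rintro _ ⟨u, hu, rfl⟩ v
    obtain ⟨a, rfl⟩ := c.exists_rep v
    obtain ⟨w, hw, hwe⟩ := c.smul_sub (p := p) u a
    rw [hwe]
    have h1 : (w : X) ∈ gam X (n - 1) := hw ▸ comm_into_last hS hi3 hn h2i hu (c.eqE ▸ a.2)
    obtain ⟨y, hy, k, hk⟩ := exists_pow hS hz h1
    rw [gam_bot hS (by omega), Subgroup.mem_bot] at hy
    rw [hy, one_mul] at hk
    refine AddSubgroup.mem_zmultiples_iff.2 ⟨k, ?_⟩
    rw [natCast_zsmul, ← ofMul_pow, ← QuotientGroup.mk_pow]
    congr 2
    exact Subtype.ext hk.symm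
  · rw [← Subgroup.relIndex_bot_left, ← Subgroup.relIndex_comap, MonoidHom.comap_bot, c.ker_tau,
      c.eqE]
    have h1 := Subgroup.relIndex_mul_relIndex (gam X i) (gam X (i - 1)) (gam X (i - 2))
      (gam_anti (by omega)) (gam_anti (by omega))
    have h2 := relIndex_gam hS (i := i - 1) (by omega)
    have h3 := relIndex_gam hS (i := i - 2) (by omega)
    rw [show i - 1 + 1 = i by omega] at h2
    rw [show i - 2 + 1 = i - 1 by omega] at h3
    rw [← h1, h2, h3]
    exact lt_mul_of_one_lt_left hp.out.pos hp.out.one_lt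

end Ctx

/-- A normal essential subgroup has index at most `p`. -/
theorem index_le (hCore : CoreTheorem.{u}) (hS : IsMC X p n) (hp5 : 5 ≤ p) (hF : F.IsSaturated p)
    (hE : F.IsEssential p E) {i : ℕ} (hidx : E.index = p ^ i) : i ≤ 1 := by
  by_contra hi
  have hEg : E = gam X i := eq_gam hS E (by omega) hidx
  have hin : i ≤ n := (Nat.pow_dvd_pow_iff_le_right hp.out.one_lt).1 (by
    rw [← hidx, ← hS.card]; exact E.index_dvd_card)
  obtain ⟨s, hs⟩ := exists_good hS (upTo_three n X hS)
  have hn4 := hS.hn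
  have hcen : centralizerIn (⊤ : Subgroup X) E ≤ E := centric_centralizerIn_le hE.1
  have hi2 : i + 2 ≤ n := by
    by_contra hlt
    have h1 : ∀ x : X, x ∈ E := fun x => hcen ⟨Subgroup.mem_top x, fun y hy =>
      (central hS (gam_anti (by omega : n - 1 ≤ i) (hEg ▸ hy)) x).eq⟩
    have h2 : E = ⊤ := eq_top_iff.2 fun x _ => h1 x
    rw [h2, Subgroup.index_top] at hidx
    exact absurd hidx.symm (Nat.one_lt_pow (by omega) hp.out.one_lt).ne'
  set Φ := (phi p E).map E.subtype with hΦ
  haveI : Φ.Normal := by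
    refine ⟨?_⟩
    rintro _ ⟨a, ha, rfl⟩ g
    exact ⟨(conjE F E g : MulAut E) a, phi_map p E _ ha, rfl⟩
  obtain ⟨r, hr⟩ := (isPGroup hS).index Φ
  have hir : i ≤ r := (Nat.pow_dvd_pow_iff_le_right hp.out.one_lt).1 (by
    rw [← hidx, ← hr]; exact Subgroup.index_dvd_of_le (Subgroup.map_subtype_le _))
  have hrn : r ≤ n := (Nat.pow_dvd_pow_iff_le_right hp.out.one_lt).1 (by
    rw [← hr, ← hS.card]; exact Φ.index_dvd_card)
  have hΦg : Φ = gam X r := eq_gam hS Φ (by omega) hr
  have hdlt : r - i < p := by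
    by_contra hge
    obtain ⟨a, ha⟩ := exists_exact hS (i := i) (by omega)
    have haE : a ∈ E := hEg ▸ ha.1
    have h1 := pow_exact hS hs (by omega) (by omega) ha
    refine h1.2 (gam_anti (show i + p - 1 + 1 ≤ r by omega) ?_)
    rw [← hΦg]
    exact ⟨_, pow_mem_phi p E ⟨a, haE⟩, rfl⟩
  have c : Ctx F p n i (r - i) E s :=
    ⟨hS, hp5, hF, hE, by omega, by omega, hi2, hEg, by
      rw [Nat.add_sub_cancel' hir]; exact hΦg, hdlt, hs⟩
  by_cases hreg : cen X (n - 2) = gam X 1 ∨ i + (r - i) + 1 ≤ n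
  · exact c.regular hCore hreg
  · push Not at hreg
    exact c.exceptional hreg.1 (by omega)

end Cfsg.Agent.MaxClassLin.Bridge
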