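import Cfsg.Agent.Lib.MaxClassLin.Shifts

/-!
# Leading coefficients and fixed points

The leading coefficient of an element of `lev k` is a polynomial in the level of degree at most
the rise of the shifts up to the next jump.  So elements above a jump have few fixed points, and
the last layer is rigid when it is quadratic.
-/

set_option autoImplicit false
set_option linter.unusedSectionVars false
set_option linter.style.haveILetI false

namespace Cfsg.Agent.MaxClassLin

open scoped commutatorElement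

section Bin

variable {p : ℕ} [hp : Fact p.Prime]

/-- `f` is a combination of `choose l j`, `j ≤ n`, below `N`. -/
def Bin (n : ℕ) (f : ℕ → ZMod p) (N : ℕ) : Prop :=
  ∃ c : ℕ → ZMod p, ∀ l < N, f l = ∑ j ∈ Finset.range (n + 1), c j * (l.choose j : ZMod p)

theorem Bin.const {f : ℕ → ZMod p} {N : ℕ} (h : ∀ l, l + 1 < N → f (l + 1) = f l) : Bin 0 f N := by
  refine ⟨fun _ => f 0, fun l hl => ?_⟩
  induction l with
  | zero => simp
  | succ l ih => rw [h l hl, ih (by omega)]; simp

theorem Bin.mono {n m : ℕ} (hnm : n ≤ m) {f : ℕ → ZMod p} {N : ℕ} (h : Bin n f N) : Bin m f N := by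
  classical
  obtain ⟨c, hc⟩ := h
  refine ⟨fun j => if j ≤ n then c j else 0, fun l hl => ?_⟩
  rw [hc l hl, ← Finset.sum_subset (Finset.range_mono (show n + 1 ≤ m + 1 by omega))]
  · exact Finset.sum_congr rfl fun j hj => by
      dsimp only
      rw [if_pos (Nat.lt_succ_iff.1 (Finset.mem_range.1 hj))]
  · intro j _ hj
    dsimp only
    rw [if_neg (by simpa [Nat.lt_succ_iff] using hj), zero_mul]

theorem Bin.step {n : ℕ} {f g : ℕ → ZMod p} {N : ℕ} (h : ∀ l, l + 1 < N → f (l + 1) = f l + g l)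
    (hg : Bin n g (N - 1)) : Bin (n + 1) f N := by
  obtain ⟨c, hc⟩ := hg
  refine ⟨fun j => if j = 0 then f 0 else c (j - 1), fun l hl => ?_⟩
  rw [Finset.sum_range_succ']
  simp only [Nat.add_one_ne_zero, if_false, Nat.add_sub_cancel, if_true, Nat.choose_zero_right,
    Nat.cast_one, mul_one]
  induction l with
  | zero => simp
  | succ l ih =>
    rw [h l hl, ih (by omega), hc l (by omega)]
    simp only [Nat.choose_succ_succ', Nat.cast_add, mul_add, Finset.sum_add_distrib]
    ring

/-- Too many zeros kill `f`. -/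
theorem Bin.eq_zero {n : ℕ} {f : ℕ → ZMod p} {N : ℕ} (h : Bin n f N) (hn : n < p) (hN : N ≤ p)
    {Z : Finset ℕ} (hZN : ∀ l ∈ Z, l < N) (hZ : ∀ l ∈ Z, f l = 0) (hc : n < Z.card) :
    ∀ l < N, f l = 0 := by
  classical
  obtain ⟨c, hcf⟩ := h
  let P : Polynomial (ZMod p) := ∑ j ∈ Finset.range (n + 1),
    Polynomial.C (c j * ((j.factorial : ZMod p))⁻¹) * descPochhammer (ZMod p) j
  have heval : ∀ l < N, P.eval (l : ZMod p) = f l := by
    intro l hl
    rw [hcf l hl, Polynomial.eval_finsetSum]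
    refine Finset.sum_congr rfl fun j hj => ?_
    have hj0 : (j.factorial : ZMod p) ≠ 0 := by
      rw [Ne, ZMod.natCast_eq_zero_iff, hp.out.dvd_factorial]
      have := Finset.mem_range.1 hj
      omega
    rw [Polynomial.eval_mul, Polynomial.eval_C, descPochhammer_eval_eq_descFactorial,
      Nat.descFactorial_eq_factorial_mul_choose, Nat.cast_mul, mul_assoc (c j),
      inv_mul_cancel_left₀ hj0]
  have hdeg : P.natDegree ≤ n := Polynomial.natDegree_sum_le_of_forall_le _ _ fun j hj =>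
    (Polynomial.natDegree_C_mul_le _ _).trans (by
      rw [descPochhammer_natDegree]
      exact Nat.lt_succ_iff.1 (Finset.mem_range.1 hj))
  have hP : P = 0 := by
    refine Polynomial.eq_zero_of_natDegree_lt_card_of_eval_eq_zero' P
      (Z.image (Nat.cast : ℕ → ZMod p)) ?_ ?_
    · intro r hr
      obtain ⟨l, hl, rfl⟩ := Finset.mem_image.1 hr
      rw [heval l (hZN l hl), hZ l hl]
    · rw [Finset.card_image_of_injOn]
      · omega
      · intro a ha b hb hab
        have h1 := (ZMod.natCast_eq_natCast_iff' a b p).1 hab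
        rwa [Nat.mod_eq_of_lt (lt_of_lt_of_le (hZN a ha) hN),
          Nat.mod_eq_of_lt (lt_of_lt_of_le (hZN b hb) hN)] at h1
  intro l hl
  rw [← heval l hl, hP, Polynomial.eval_zero]

end Bin

variable {p : ℕ} [hp : Fact p.Prime] {X : Type*} [Group X] {V : Type*} [AddCommGroup V]
  [DistribMulAction X V]

/-- The fixed points of one element. -/
def fixOf (V : Type*) [AddCommGroup V] [DistribMulAction X V] (g : X) : AddSubgroup V where
  carrier := {v | g • v = v}
  zero_mem' := smul_zero g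
  add_mem' := fun {v w} hv hw => by
    show g • (v + w) = v + w
    rw [smul_add, hv, hw]
  neg_mem' := fun {v} hv => by
    show g • -v = -v
    rw [smul_neg, hv]

theorem mem_fixOf {g : X} {v : V} : v ∈ fixOf V g ↔ g • v = v := Iff.rfl

theorem card_fixOf_conj (g u : X) : Nat.card (fixOf V (g * u * g⁻¹)) = Nat.card (fixOf V u) := by
  refine Nat.card_congr
    { toFun := fun v => ⟨g⁻¹ • (v : V), ?_⟩
      invFun := fun v => ⟨g • (v : V), ?_⟩
      left_inv := fun v => Subtype.ext (smul_inv_smul _ _)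
      right_inv := fun v => Subtype.ext (inv_smul_smul _ _) }
  · have h := congrArg (g⁻¹ • ·) (mem_fixOf.1 v.2)
    simp only [mul_smul, inv_smul_smul] at h
    exact h
  · rw [mem_fixOf, mul_smul, mul_smul, inv_smul_smul, mem_fixOf.1 v.2]

namespace Sys

variable (S : Sys p X V)

/-- A basis adapted to the flag. -/
noncomputable def eb : ℕ → V
  | 0 => (S.exists_exact (l := 0) (by have := S.three_le_d; omega)).choose
  | l + 1 => S.x • eb l - eb l

theorem eb_succ (l : ℕ) : S.eb (l + 1) = S.x • S.eb l - S.eb l := rfl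

theorem eb_mem : ∀ l, S.eb l ∈ S.W l
  | 0 => (S.exists_exact (l := 0) (by have := S.three_le_d; omega)).choose_spec.1
  | l + 1 => S.stab S.x S.x_mem l _ (eb_mem l)

theorem eb_notMem : ∀ l, l < S.d → S.eb l ∉ S.W (l + 1)
  | 0, _ => (S.exists_exact (l := 0) (by have := S.three_le_d; omega)).choose_spec.2
  | l + 1, h => (S.x_moves (by omega) (S.eb_mem l) (eb_notMem l (by omega))).2

open Classical in
/-- The coefficient of `g` from the level `l` to the level `l + s`. -/
noncomputable def coef (S : Sys p X V) (s : ℕ) (g : X) (l : ℕ) : ZMod p :=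
  if h : ∃ c : ZMod p, g • S.eb l - S.eb l - c.val • S.eb (l + s) ∈ S.W (l + s + 1) then h.choose else 0

theorem coef_spec {s : ℕ} {g : X} (hg : g ∈ S.shiftGroup s) (l : ℕ) :
    g • S.eb l - S.eb l - (S.coef s g l).val • S.eb (l + s) ∈ S.W (l + s + 1) := by
  classical
  have hex : ∃ c : ZMod p, g • S.eb l - S.eb l - c.val • S.eb (l + s) ∈ S.W (l + s + 1) := by
    have h := hg.2 l _ (S.eb_mem l)
    rcases lt_or_ge (l + s) S.d with hd | hd
    · obtain ⟨c, hc⟩ := S.exists_nsmul (S.eb_mem _) (S.eb_notMem _ hd) h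
      exact ⟨c, by rw [S.val_smul]; exact hc⟩
    · refine ⟨0, ?_⟩
      rw [S.W_bot _ hd, AddSubgroup.mem_bot] at h
      rw [h, ZMod.val_zero, zero_smul, sub_zero]
      exact zero_mem _
  rw [coef, dif_pos hex]
  exact hex.choose_spec

theorem coef_unique {s : ℕ} {g : X} (hg : g ∈ S.shiftGroup s) {l : ℕ} (hl : l + s < S.d) {a : ZMod p}
    (h : g • S.eb l - S.eb l - a.val • S.eb (l + s) ∈ S.W (l + s + 1)) : S.coef s g l = a := by
  have h1 := sub_mem h (S.coef_spec hg l)
  rw [sub_sub_sub_cancel_left] at h1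
  have h2 : ((S.coef s g l - a).val) • S.eb (l + s) =
      (S.coef s g l).val • S.eb (l + s) - a.val • S.eb (l + s) := by
    rw [eq_sub_iff_add_eq, ← add_smul]
    exact S.nsmul_eq (by simp) _
  have := S.cast_eq_zero (S.eb_mem _) (S.eb_notMem _ hl) (h2 ▸ h1)
  rwa [ZMod.natCast_val, ZMod.cast_id, sub_eq_zero] at this

/-- A level with zero coefficient moves one step further. -/
theorem dif_mem_of_coef {s : ℕ} {g : X} (hg : g ∈ S.shiftGroup s) {l : ℕ} (hl : l < S.d)
    (h0 : S.coef s g l = 0) {v : V} (hv : v ∈ S.W l) : g • v - v ∈ S.W (l + s + 1) := by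
  obtain ⟨c, hc⟩ := S.exists_nsmul (S.eb_mem l) (S.eb_notMem l hl) hv
  have h1 := hg.2 _ _ hc
  have h2 := S.coef_spec hg l
  rw [h0, ZMod.val_zero, zero_smul, sub_zero] at h2
  have h3 := add_mem (S.W_anti (show l + s + 1 ≤ l + 1 + s by omega) h1) (nsmul_mem h2 c)
  rwa [smul_sub, smul_comm g c, nsmul_sub, sub_sub_sub_comm, sub_add_cancel] at h3

theorem coef_eq_zero {s : ℕ} {g : X} (hg : g ∈ S.shiftGroup (s + 1)) {l : ℕ} (hl : l + s < S.d) :
    S.coef s g l = 0 := by
  refine S.coef_unique (S.shiftGroup_anti (Nat.le_succ s) hg) hl ?_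
  rw [ZMod.val_zero, zero_smul, sub_zero, Nat.add_assoc]
  exact hg.2 l _ (S.eb_mem l)

theorem coef_one {s l : ℕ} (hl : l + s < S.d) : S.coef s (1 : X) l = 0 :=
  S.coef_eq_zero (one_mem _) hl

/-- The coefficients of the commutator with `x` are the differences. -/
theorem coef_dif {s : ℕ} {a : X} (ha : a ∈ S.shiftGroup s) (hc : ⁅a, S.x⁆ ∈ S.shiftGroup (s + 1))
    {l : ℕ} (hl : l + 1 + s < S.d) :
    S.coef s a (l + 1) = S.coef s a l + S.coef (s + 1) ⁅a, S.x⁆ l := by
  refine S.coef_unique ha hl ?_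
  set f := S.coef s a l with hf
  set g := S.coef (s + 1) ⁅a, S.x⁆ l with hg
  have h1 := S.stab S.x S.x_mem _ _ (S.coef_spec ha l)
  have h2 : ⁅a, S.x⁆ • (S.x • (a • S.eb l)) - S.x • (a • S.eb l) -
      g.val • S.eb (l + (s + 1)) ∈ S.W (l + (s + 1) + 1) := by
    have hw : S.x • (a • S.eb l) - S.eb l ∈ S.W (l + 1) := by
      have h3 := S.smul_mem_W S.x_mem (S.stab a ha.1 l _ (S.eb_mem l))
      have h4 := add_mem h3 (S.stab S.x S.x_mem l _ (S.eb_mem l))
      rwa [smul_sub, sub_add_sub_cancel] at h4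
    have h5 := hc.2 _ _ hw
    have h6 := add_mem (S.W_anti (show l + (s + 1) + 1 ≤ l + 1 + (s + 1) by omega) h5) (S.coef_spec hc l)
    rw [smul_sub] at h6
    refine cast ?_ h6
    congr 1
    rw [← hg]
    abel
  have hcx : ⁅a, S.x⁆ • (S.x • (a • S.eb l)) = a • (S.x • S.eb l) := by
    rw [commutatorElement_def, ← mul_smul, ← mul_smul, ← mul_smul]
    group
  rw [hcx] at h2
  have h7 : (f + g).val • S.eb (l + 1 + s) = f.val • S.eb (l + s + 1) + g.val • S.eb (l + (s + 1)) := by
    rw [show l + 1 + s = l + s + 1 by omega, show l + (s + 1) = l + s + 1 by omega, ← add_smul]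
    exact S.nsmul_eq (by simp) _
  have h8 := add_mem h2 (S.W_anti (show l + (s + 1) + 1 ≤ l + s + 1 + 1 by omega) h1)
  rw [h7, show l + 1 + s + 1 = l + (s + 1) + 1 by omega]
  refine cast ?_ h8
  congr 1
  rw [← hf]
  simp only [S.eb_succ, smul_sub, smul_comm S.x f.val]
  abel

/-- A jump after the layer `k0`. -/
def Jump (k0 : ℕ) : Prop := k0 + 2 = S.i ∨ S.sh k0 + 2 ≤ S.sh (k0 + 1)

theorem comm_shiftGroup {k : ℕ} {a : X} (ha : a ∈ S.lev k) :
    ⁅a, S.x⁆ ∈ S.shiftGroup (S.sh k + 1) := by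
  rcases lt_or_ge (k + 2) S.i with h | h
  · exact S.shiftGroup_anti (S.sh_succ (by omega)) (S.sh_spec _ (S.x_comm k a ha))
  · have := S.x_comm k a ha
    rw [S.lev_bot _ (by omega), Subgroup.mem_bot] at this
    rw [this]
    exact one_mem _

/-- Below a jump the coefficients have small degree. -/
theorem bin_coef {k0 : ℕ} (hk0 : k0 + 2 ≤ S.i) (hj : S.Jump k0) :
    ∀ (n k : ℕ), k + n = k0 → ∀ a ∈ S.lev k,
      Bin (S.sh k0 - S.sh k) (S.coef (S.sh k) a) (S.d - S.sh k) := by
  intro n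
  induction n with
  | zero =>
    intro k hk a ha
    obtain rfl : k = k0 := hk
    rw [Nat.sub_self]
    refine Bin.const fun l hl => ?_
    rw [S.coef_dif (S.sh_spec k ha) (S.comm_shiftGroup ha) (by omega)]
    have hc2 : ⁅a, S.x⁆ ∈ S.shiftGroup (S.sh k + 1 + 1) := by
      have hc := S.x_comm k a ha
      rcases hj with h | h
      · rw [S.lev_bot _ (by omega), Subgroup.mem_bot] at hc
        rw [hc]
        exact one_mem _
      · exact S.shiftGroup_anti h (S.sh_spec _ hc)
    rw [S.coef_eq_zero hc2 (by omega), add_zero]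
  | succ n ih =>
    intro k hk a ha
    have hstep : ∀ l, l + 1 < S.d - S.sh k →
        S.coef (S.sh k) a (l + 1) = S.coef (S.sh k) a l + S.coef (S.sh k + 1) ⁅a, S.x⁆ l :=
      fun l hl => S.coef_dif (S.sh_spec k ha) (S.comm_shiftGroup ha) (by omega)
    have hs := S.sh_succ (k := k) (by omega)
    have hle := S.sh_add_le (k := k + 1) n (by omega)
    rw [show k + 1 + n = k0 by omega] at hle
    rcases eq_or_lt_of_le hs with h | h
    · have h1 := ih (k + 1) (by omega) _ (S.x_comm k a ha)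
      rw [← h] at h1
      have h2 := Bin.step hstep (by rwa [show S.d - S.sh k - 1 = S.d - (S.sh k + 1) by omega])
      exact h2.mono (by omega)
    · refine Bin.mono (Nat.zero_le _) (Bin.const fun l hl => ?_)
      rw [hstep l hl, S.coef_eq_zero (S.shiftGroup_anti (show S.sh k + 1 + 1 ≤ S.sh (k + 1) by omega)
        (S.sh_spec _ (S.x_comm k a ha))) (by omega), add_zero]

theorem bin_coef' {k0 k : ℕ} (hk : k ≤ k0) (hk0 : k0 + 2 ≤ S.i) (hj : S.Jump k0) {a : X}
    (ha : a ∈ S.lev k) : Bin (S.sh k0 - S.sh k) (S.coef (S.sh k) a) (S.d - S.sh k) :=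
  S.bin_coef hk0 hj (k0 - k) k (by omega) a ha

theorem exists_coef_ne {k : ℕ} (hk : k + 2 ≤ S.i) {a : X} (ha : a ∈ S.lev k) (ha1 : a ∉ S.lev (k + 1)) :
    ∃ l, l + S.sh k < S.d ∧ S.coef (S.sh k) a l ≠ 0 := by
  by_contra hc
  push Not at hc
  have hd := S.sh_lt_d hk
  have haS : a ∈ S.shiftGroup (S.sh k + 1) := by
    refine ⟨S.lev_le_T k ha, fun l v hv => ?_⟩
    rcases lt_or_ge (l + S.sh k) S.d with h | h
    · rw [← Nat.add_assoc]
      exact S.dif_mem_of_coef (S.sh_spec k ha) (by omega) (hc l h) hv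
    · have := S.sh_shift ha hv
      rw [S.W_bot _ h, AddSubgroup.mem_bot] at this
      rw [this]
      exact zero_mem _
  have hnext : S.lev (k + 1) ≤ S.shiftGroup (S.sh k + 1) := by
    rcases lt_or_ge (k + 2) S.i with h | h
    · exact (S.sh_spec _).trans (S.shiftGroup_anti (S.sh_succ (by omega)))
    · rw [S.lev_bot _ (by omega)]
      exact bot_le
  have := S.le_sh hd (S.lev_le_of_mem ha ha1 haS hnext)
  omega

theorem coef_zero_of_const {k : ℕ} (hk : k + 2 ≤ S.i) (hj : S.Jump k) {a : X} (ha : a ∈ S.lev k)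
    (ha1 : a ∉ S.lev (k + 1)) {l : ℕ} (hl : l + S.sh k < S.d) : S.coef (S.sh k) a l ≠ 0 := by
  intro h0
  obtain ⟨m, hm, hm0⟩ := S.exists_coef_ne hk ha ha1
  obtain ⟨c, hc⟩ := S.bin_coef' le_rfl hk hj ha
  refine hm0 ?_
  rw [hc m (by omega)]
  rw [hc l (by omega), Nat.sub_self] at h0
  simpa using h0

/-- A subgroup is no larger than its set of levels. -/
theorem card_le_levels (U : AddSubgroup V) (Z : Finset ℕ)
    (hZ : ∀ l, l < S.d → ∀ v ∈ U, v ∈ S.W l → v ∉ S.W (l + 1) → l ∈ Z) :
    Nat.card U ≤ p ^ Z.card := by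
  classical
  haveI := S.finite_V
  have key : ∀ n l, l + n = S.d → Nat.card ↥(U ⊓ S.W l) ≤ p ^ (Z.filter (l ≤ ·)).card := by
    intro n
    induction n with
    | zero =>
      intro l hl
      rw [S.W_bot l (by omega), inf_bot_eq, AddSubgroup.card_bot]
      exact Nat.one_le_pow _ _ hp.out.pos
    | succ n ih =>
      intro l hl
      have h1 := ih (l + 1) (by omega)
      by_cases hlZ : l ∈ Z
      · have hfil : Z.filter (l ≤ ·) = insert l (Z.filter (l + 1 ≤ ·)) := by
          ext m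
          simp only [Finset.mem_filter, Finset.mem_insert]
          constructor
          · rintro ⟨h, h'⟩
            rcases eq_or_lt_of_le h' with h'' | h''
            · exact Or.inl h''.symm
            · exact Or.inr ⟨h, h''⟩
          · rintro (rfl | ⟨h, h'⟩)
            · exact ⟨hlZ, le_rfl⟩
            · exact ⟨h, by omega⟩
        rw [hfil, Finset.card_insert_of_notMem (by simp), pow_succ]
        have h2 := AddSubgroup.relIndex_mul_relIndex ⊥ (U ⊓ S.W (l + 1)) (U ⊓ S.W l) bot_le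
          (inf_le_inf_left U (S.W_succ_le l))
        rw [AddSubgroup.relIndex_bot_left, AddSubgroup.relIndex_bot_left] at h2
        rw [← h2]
        refine Nat.mul_le_mul h1 ?_
        have h3 : (U ⊓ S.W (l + 1)).relIndex (U ⊓ S.W l) = (S.W (l + 1)).relIndex (U ⊓ S.W l) := by
          rw [← AddSubgroup.inf_relIndex_right (S.W (l + 1)) (U ⊓ S.W l)]
          congr 1
          rw [inf_left_comm, inf_eq_left.2 (S.W_succ_le l)]
        rw [h3]
        refine le_of_le_of_eq (AddSubgroup.relIndex_le_of_le_right inf_le_right ?_)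
          (S.W_index l (by omega))
        rw [S.W_index l (by omega)]
        exact hp.out.ne_zero
      · have heq : U ⊓ S.W l ≤ U ⊓ S.W (l + 1) := fun v hv =>
          ⟨hv.1, by_contra fun h => hlZ (hZ l (by omega) v hv.1 hv.2 h)⟩
        refine (AddSubgroup.card_le_of_le heq).trans (h1.trans (Nat.pow_le_pow_right hp.out.pos ?_))
        exact Finset.card_le_card fun m hm => by
          simp only [Finset.mem_filter] at hm ⊢
          exact ⟨hm.1, by omega⟩
  have := key S.d 0 (Nat.zero_add _)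
  rwa [S.W_zero, inf_top_eq, Finset.filter_true_of_mem fun m _ => Nat.zero_le m] at this

/-- Elements below a jump have few fixed points. -/
theorem card_fix_le {k0 k : ℕ} (hk : k ≤ k0) (hk0 : k0 + 2 ≤ S.i) (hj : S.Jump k0) {a : X}
    (ha : a ∈ S.lev k) (ha1 : a ∉ S.lev (k + 1)) : Nat.card (fixOf V a) ≤ p ^ S.sh k0 := by
  classical
  set s := S.sh k with hs
  have hd := S.sh_lt_d (k := k) (by omega)
  have hle : s + (k0 - k) ≤ S.sh k0 := by
    have := S.sh_add_le (k := k) (k0 - k) (by omega)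
    rwa [show k + (k0 - k) = k0 by omega] at this
  set Z := (Finset.range (S.d - s)).filter fun l => S.coef s a l = 0 with hZ
  have hZcard : Z.card ≤ S.sh k0 - s := by
    by_contra h
    obtain ⟨m, hm, hm0⟩ := S.exists_coef_ne (by omega) ha ha1
    have := S.sh_lt_d hk0
    have hdp := S.d_lt
    exact hm0 ((S.bin_coef' hk hk0 hj ha).eq_zero (Z := Z) (by omega) (by omega)
      (fun l hl => Finset.mem_range.1 (Finset.mem_filter.1 hl).1)
      (fun l hl => (Finset.mem_filter.1 hl).2) (by omega) m (by omega))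
  refine (S.card_le_levels (fixOf V a) (Z ∪ Finset.Ico (S.d - s) S.d) fun l hl v hv hv0 hv1 => ?_).trans ?_
  · rcases lt_or_ge l (S.d - s) with h | h
    · refine Finset.mem_union_left _ (Finset.mem_filter.2 ⟨Finset.mem_range.2 h, ?_⟩)
      refine S.coef_unique (S.sh_spec k ha) (by omega) ?_
      rw [ZMod.val_zero, zero_smul, sub_zero]
      obtain ⟨c, hc⟩ := S.exists_nsmul hv0 hv1 (S.eb_mem l)
      have h2 := S.sh_shift ha hc
      rw [smul_sub, smul_comm a c v, mem_fixOf.1 hv, sub_sub_sub_cancel_right] at h2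
      rwa [show l + s + 1 = l + 1 + s by omega]
    · exact Finset.mem_union_right _ (Finset.mem_Ico.2 ⟨h, hl⟩)
  · refine Nat.pow_le_pow_right hp.out.pos ((Finset.card_union_le _ _).trans ?_)
    rw [Nat.card_Ico]
    omega

/-- Elements outside `lev 0` fix a line only. -/
theorem card_fix_le_p {t : X} (ht : t ∈ S.T) (ht0 : t ∉ S.lev 0) : Nat.card (fixOf V t) ≤ p := by
  refine (S.card_le_levels (fixOf V t) {S.d - 1} fun l hl v hv hv0 hv1 => ?_).trans (by simp)
  rw [Finset.mem_singleton]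
  by_contra hne
  refine ht0 (S.mem_lev_zero_of_shift ht (l := l) (by omega) fun w hw => ?_)
  obtain ⟨c, hc⟩ := S.exists_nsmul hv0 hv1 hw
  have := S.stab t ht _ _ hc
  rwa [smul_sub, smul_comm t c v, mem_fixOf.1 hv, sub_sub_sub_cancel_right] at this

theorem pow_le_card_fix {k : ℕ} (hk : k + 2 ≤ S.i) {a : X} (ha : a ∈ S.lev k) :
    p ^ S.sh k ≤ Nat.card (fixOf V a) := by
  haveI := S.finite_V
  have hd := S.sh_lt_d hk
  have h := S.card_W (l := S.d - S.sh k) (Nat.sub_le _ _)
  rw [show S.d - (S.d - S.sh k) = S.sh k by omega] at h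
  rw [← h]
  refine AddSubgroup.card_le_of_le fun v hv => ?_
  have := S.sh_shift ha hv
  rw [S.W_bot _ (by omega), AddSubgroup.mem_bot] at this
  exact sub_eq_zero.1 this

/-- A conjugate in `T` of an element of `lev k` lies in `lev 0`. -/
theorem mem_lev_zero_of_conj {k : ℕ} (hk : k + 2 ≤ S.i) {a g : X} (ha : a ∈ S.lev k)
    (hg : g * a * g⁻¹ ∈ S.T) : g * a * g⁻¹ ∈ S.lev 0 := by
  by_contra h
  have h1 := S.card_fix_le_p hg h
  rw [card_fixOf_conj] at h1
  have h2 := (S.pow_le_card_fix hk ha).trans h1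
  have h3 := S.add_two_le_sh hk
  have : p ^ 2 ≤ p ^ 1 := by
    rw [pow_one]
    exact (Nat.pow_le_pow_right hp.out.pos (show 2 ≤ S.sh k by omega)).trans h2
  have := (Nat.pow_le_pow_iff_right hp.out.one_lt).1 this
  omega

/-- A layer right below a jump is weakly closed in `T`. -/
theorem mem_lev_succ_of_conj {k0 : ℕ} (hk0 : k0 + 3 ≤ S.i) (hj : S.Jump k0) {a g : X}
    (ha : a ∈ S.lev (k0 + 1)) (hg : g * a * g⁻¹ ∈ S.T) : g * a * g⁻¹ ∈ S.lev (k0 + 1) := by
  by_contra hout
  have h0 := S.mem_lev_zero_of_conj (by omega) ha hg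
  classical
  have hex : ∃ k, g * a * g⁻¹ ∉ S.lev k := ⟨_, hout⟩
  have hk1 : 1 ≤ Nat.find hex := Nat.one_le_iff_ne_zero.2 fun h => by
    have := Nat.find_spec hex
    rw [h] at this
    exact this h0
  obtain ⟨k, hk⟩ := Nat.exists_eq_succ_of_ne_zero (show Nat.find hex ≠ 0 by omega)
  have hin : g * a * g⁻¹ ∈ S.lev k := not_not.1 (Nat.find_min hex (by omega))
  have hnot : g * a * g⁻¹ ∉ S.lev (k + 1) := by
    have := Nat.find_spec hex
    rwa [hk] at this
  have hkk : k ≤ k0 := by
    have := Nat.find_min' hex hout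
    omega
  have h1 := S.card_fix_le hkk (by omega) hj hin hnot
  rw [card_fixOf_conj] at h1
  have h2 := (Nat.pow_le_pow_iff_right hp.out.one_lt).1 ((S.pow_le_card_fix (by omega) ha).trans h1)
  have := S.sh_succ (k := k0) hk0
  omega

/-- Two commuting neighbours below a jump have no consecutive shifts. -/
theorem add_two_le_sh_succ {k : ℕ} (hk : k + 3 ≤ S.i) (hj : S.Jump (k + 1))
    (hcomm : ∀ a ∈ S.lev k, ∀ b ∈ S.lev (k + 1), a * b = b * a) (hd : 2 * S.sh (k + 1) ≤ S.d) :
    S.sh k + 2 ≤ S.sh (k + 1) := by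
  haveI : Fact (1 < p) := ⟨hp.out.one_lt⟩
  by_contra hlt
  have hst : S.sh (k + 1) = S.sh k + 1 := by have := S.sh_succ hk; omega
  obtain ⟨a, ha, ha1⟩ := S.exists_lev_exact (k := k) (by omega)
  have hb : ⁅a, S.x⁆ ∈ S.lev (k + 1) := S.x_comm k a ha
  have hb1 : ⁅a, S.x⁆ ∉ S.lev (k + 1 + 1) := fun h => ha1 (S.x_comm_exact k (by omega) a ha h)
  set b := ⁅a, S.x⁆ with hbdef
  set σ := S.sh k with hσ
  set τ := σ + 1 with hτ
  have hbS : b ∈ S.shiftGroup τ := hst ▸ S.sh_spec _ hb
  set C := S.coef τ b 0 with hC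
  have hσ2 := S.add_two_le_sh (k := k) (by omega)
  have hC0 : C ≠ 0 := by
    have := S.coef_zero_of_const (l := 0) (by omega) hj hb hb1 (by omega)
    rwa [hst] at this
  have hconst : ∀ l, l + τ < S.d → S.coef τ b l = C := by
    intro l hl
    obtain ⟨c, hc⟩ := S.bin_coef' le_rfl (by omega) hj hb
    rw [hst] at hc
    rw [hC, hc l (by omega), hc 0 (by omega)]
    simp
  have hlin : ∀ l, l + σ < S.d → S.coef σ a l = S.coef σ a 0 + (l : ZMod p) * C := by
    intro l
    induction l with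
    | zero => simp
    | succ l ih =>
      intro hl
      rw [S.coef_dif (S.sh_spec k ha) (S.comm_shiftGroup ha) hl, ih (by omega), hconst l (by omega)]
      push_cast
      ring
  set f0 := S.coef σ a 0 with hf0
  set fτ := S.coef σ a τ with hfτ
  have ha0 : a • S.eb 0 - S.eb 0 - f0.val • S.eb σ ∈ S.W (σ + 1) := by
    simpa using S.coef_spec (S.sh_spec k ha) 0
  have hb0 : b • S.eb 0 - S.eb 0 - C.val • S.eb τ ∈ S.W (τ + 1) := by
    simpa using S.coef_spec hbS 0
  have h1 : b • (a • S.eb 0 - S.eb 0) - (a • S.eb 0 - S.eb 0) - (f0.val * C.val) • S.eb (σ + τ) ∈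
      S.W (σ + τ + 1) := by
    have h2 := hbS.2 _ _ ha0
    have h3 := nsmul_mem (S.coef_spec hbS σ) f0.val
    rw [hconst σ (by omega)] at h3
    have h4 := add_mem (S.W_anti (show σ + τ + 1 ≤ σ + 1 + τ by omega) h2) h3
    refine cast ?_ h4
    congr 1
    rw [smul_sub, nsmul_sub, nsmul_sub, smul_comm b f0.val, mul_smul]
    abel
  have h2 : a • (b • S.eb 0 - S.eb 0) - (b • S.eb 0 - S.eb 0) - (C.val * fτ.val) • S.eb (σ + τ) ∈
      S.W (σ + τ + 1) := by
    have h3 := (S.sh_spec k ha).2 _ _ hb0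
    have h4 := nsmul_mem (S.coef_spec (S.sh_spec k ha) τ) C.val
    rw [← hσ, ← hfτ, show τ + σ = σ + τ by omega] at h4
    have h5 := add_mem (S.W_anti (show σ + τ + 1 ≤ τ + 1 + σ by omega) h3) h4
    refine cast ?_ h5
    congr 1
    rw [smul_sub, nsmul_sub, nsmul_sub, smul_comm a C.val, mul_smul]
    abel
  have h3 : b • (a • S.eb 0 - S.eb 0) - (a • S.eb 0 - S.eb 0) =
      a • (b • S.eb 0 - S.eb 0) - (b • S.eb 0 - S.eb 0) := by
    rw [smul_sub, smul_sub, ← mul_smul, ← mul_smul, hcomm a ha b hb]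
    abel
  rw [h3] at h1
  have h4 := sub_mem h1 h2
  rw [sub_sub_sub_cancel_left] at h4
  have h5 : ((C * fτ - f0 * C).val) • S.eb (σ + τ) =
      (C.val * fτ.val) • S.eb (σ + τ) - (f0.val * C.val) • S.eb (σ + τ) := by
    rw [eq_sub_iff_add_eq, ← add_smul]
    exact S.nsmul_eq (by simp) _
  have h6 := S.cast_eq_zero (S.eb_mem _) (S.eb_notMem _ (by omega)) (h5 ▸ h4)
  rw [ZMod.natCast_val, ZMod.cast_id, hfτ, hlin τ (by omega)] at h6
  have h7 : (τ : ZMod p) * (C * C) = 0 := by rw [← h6]; ring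
  rcases mul_eq_zero.1 h7 with h | h
  · rw [ZMod.natCast_eq_zero_iff] at h
    have := Nat.le_of_dvd (by omega) h
    have := S.d_lt
    omega
  · exact hC0 (mul_self_eq_zero.1 h)

/-- The quadratic last layer is rigid. -/
theorem mem_last_of_rigid {t : X} (ht : t ∈ S.T) (h1 : ∀ v : V, t • v - v ∈ S.W S.L)
    (h2 : ∀ v ∈ S.W (S.d - S.L), t • v = v) : t ∈ S.lev (S.i - 2) := by
  classical
  have hi := S.two_le
  have hiL := S.i_le_L
  have hLd := S.L_lt
  have ht0 : t ∈ S.lev 0 := S.mem_lev_zero_of_shift ht (l := 0) (by have := S.three_le_d; omega)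
    fun v _ => S.W_anti (by omega) (h1 v)
  by_contra hout
  have hex : ∃ k, t ∉ S.lev k := ⟨_, hout⟩
  have hk1 : Nat.find hex ≠ 0 := fun h => by
    have := Nat.find_spec hex
    rw [h] at this
    exact this ht0
  obtain ⟨k, hk⟩ := Nat.exists_eq_succ_of_ne_zero hk1
  have hin : t ∈ S.lev k := not_not.1 (Nat.find_min hex (by omega))
  have hnot : t ∉ S.lev (k + 1) := by
    have := Nat.find_spec hex
    rwa [hk] at this
  have hkk : k + 3 ≤ S.i := by
    have := Nat.find_min' hex hout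
    omega
  set s := S.sh k with hs
  have hsL : s + (S.i - 2 - k) ≤ S.L := S.sh_add_le_L (by omega)
  obtain ⟨m, hm, hm0⟩ := S.exists_coef_ne (by omega) hin hnot
  have hbin := S.bin_coef' (k0 := S.i - 2) (k := k) (by omega) (by omega) (Or.inl (by omega)) hin
  rw [S.sh_last, ← hs] at hbin
  have hdp := S.d_lt
  refine hm0 (hbin.eq_zero (Z := insert (S.d - s - 1) (Finset.range (S.L - s))) (by omega) (by omega)
    ?_ ?_ ?_ m (by omega))
  · intro l hl
    rw [Finset.mem_insert, Finset.mem_range] at hl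
    omega
  · intro l hl
    rw [Finset.mem_insert, Finset.mem_range] at hl
    refine S.coef_unique (S.sh_spec k hin) (by omega) ?_
    rw [ZMod.val_zero, zero_smul, sub_zero]
    rcases hl with hl | hl
    · rw [h2 _ (S.W_anti (show S.d - S.L ≤ l by omega) (S.eb_mem l)), sub_self]
      exact zero_mem _
    · exact S.W_anti (by omega) (h1 _)
  · rw [Finset.card_insert_of_notMem (by simp only [Finset.mem_range]; omega), Finset.card_range]
    omega

end Sys

end Cfsg.Agent.MaxClassLin
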