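import Cfsg.Agent.Lib.MaxClassLin.Descent
import Cfsg.Agent.Lib.MaxClassLin.Lead

/-!
# The case of a last layer with short shift

If `3 ≤ i` and `2 L < d` then `sh (i - 3) ≤ L - 2`, so the weights have exponent `L - 1 - sh (i - 3)`,
the last layer and the layer before it are weakly closed, and `T` is normal.
-/

set_option autoImplicit false
set_option linter.unusedSectionVars false
set_option linter.style.haveILetI false

namespace Cfsg.Agent.MaxClassLin

open scoped commutatorElement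

variable {p : ℕ} [hp : Fact p.Prime] {X : Type*} [Group X] [Finite X] {V : Type*} [AddCommGroup V]
  [DistribMulAction X V]

namespace Sys

variable (S : Sys p X V)

/-- The centralizer of the last layer. -/
def centLast : Subgroup X := Subgroup.centralizer (S.lev (S.i - 2) : Set X)

theorem mem_centLast {g : X} : g ∈ S.centLast ↔ ∀ z ∈ S.lev (S.i - 2), z * g = g * z :=
  Subgroup.mem_centralizer_iff

theorem conj_eq_of_centLast {g z : X} (hg : g ∈ S.centLast) (hz : z ∈ S.lev (S.i - 2)) :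
    g * z * g⁻¹ = z := by
  rw [← S.mem_centLast.1 hg z hz, mul_inv_cancel_right]

theorem comm_last {k : ℕ} {a z : X} (ha : a ∈ S.lev k) (hz : z ∈ S.lev (S.i - 2)) : a * z = z * a := by
  have := S.comm k (S.i - 2) a ha z hz
  rw [S.lev_bot _ (by have := S.two_le; omega), Subgroup.mem_bot] at this
  exact commutatorElement_eq_one_iff_mul_comm.1 this

theorem T_le_centLast : S.T ≤ S.centLast :=
  S.T_le_of (fun a ha => S.mem_centLast.2 fun z hz => (S.comm_last ha hz).symm)
    (S.mem_centLast.2 fun z hz => (S.commute_x_last hz).eq)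

/-- The centralizer of the last layer fixes every `L`-th layer. -/
theorem smul_mem_W_mul : ∀ (m : ℕ), ∀ g ∈ S.centLast, ∀ v ∈ S.W (m * S.L), g • v ∈ S.W (m * S.L) := by
  obtain ⟨z, hz, hz1⟩ := S.exists_last
  intro m
  induction m with
  | zero => intro g _ v _; rw [Nat.zero_mul, S.W_zero]; exact AddSubgroup.mem_top _
  | succ m ih =>
    intro g hg v hv
    set U := (S.W (m * S.L)).map (DistribSMul.toAddMonoidHom V z - AddMonoidHom.id V) with hU
    have hle : S.W ((m + 1) * S.L) ≤ U := by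
      refine S.W_le_of_exact fun j hj hjd => ?_
      rw [Nat.succ_mul] at hj
      have h1 := S.last_shift hz (j - S.L) _ (S.eb_mem _)
      have h2 := S.last_exact hz hz1 (j - S.L) (by omega) _ (S.eb_mem _) (S.eb_notMem _ (by omega))
      rw [show j - S.L + S.L = j by omega] at h1 h2
      exact ⟨_, ⟨S.eb (j - S.L), S.W_anti (show m * S.L ≤ j - S.L by omega) (S.eb_mem _), rfl⟩, h1, h2⟩
    obtain ⟨w, hw, rfl⟩ := hle hv
    show g • (z • w - w) ∈ _
    rw [smul_sub, ← mul_smul, ← S.mem_centLast.1 hg z hz, mul_smul, Nat.succ_mul]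
    exact S.last_shift hz _ _ (ih g hg w hw)

/-- The shift before the last one drops by two. -/
theorem sh_add_two_le_L (hi : 3 ≤ S.i) (hd : 2 * S.L < S.d) : S.sh (S.i - 3) + 2 ≤ S.L := by
  have e : S.i - 3 + 1 = S.i - 2 := by omega
  have h := S.add_two_le_sh_succ (k := S.i - 3) (by omega) (Or.inl (by omega))
    (fun a ha b hb => S.comm_last ha (e ▸ hb)) (by rw [e, S.sh_last]; omega)
  rwa [e, S.sh_last] at h

theorem wtX_pow_sub_one (hi : 3 ≤ S.i) {h : X} (hh : h ∈ Subgroup.normalizer (S.T : Set X)) :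
    S.wtX h ^ (S.L - 1) = S.wtX h ^ S.sh (S.i - 3) := by
  rw [S.wtX_eq hh, ← S.wt_sh ⟨h, hh⟩ (k := S.i - 3) (by omega)]
  congr 1
  omega

/-- The subgroup of the centralizer acting trivially on the layer before the last. -/
def centTwo : Subgroup X where
  carrier := {g | g ∈ S.centLast ∧ g ∈ Subgroup.normalizer (S.lev (S.i - 3) : Set X) ∧
    ∀ a ∈ S.lev (S.i - 3), ⁅g, a⁆ ∈ S.lev (S.i - 2)}
  one_mem' := ⟨one_mem _, one_mem _, fun a _ => by simp⟩
  mul_mem' := fun {g h} hg hh => ⟨mul_mem hg.1 hh.1, mul_mem hg.2.1 hh.2.1, fun a ha => by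
    rw [show ⁅g * h, a⁆ = g * ⁅h, a⁆ * g⁻¹ * ⁅g, a⁆ by simp only [commutatorElement_def]; group,
      S.conj_eq_of_centLast hg.1 (hh.2.2 a ha)]
    exact mul_mem (hh.2.2 a ha) (hg.2.2 a ha)⟩
  inv_mem' := fun {g} hg => ⟨inv_mem hg.1, inv_mem hg.2.1, fun a ha => by
    rw [show ⁅g⁻¹, a⁆ = g⁻¹ * ⁅g, a⁆⁻¹ * (g⁻¹)⁻¹ by simp only [commutatorElement_def]; group,
      S.conj_eq_of_centLast (inv_mem hg.1) (inv_mem (hg.2.2 a ha))]
    exact inv_mem (hg.2.2 a ha)⟩

theorem T_le_centTwo (hi : 3 ≤ S.i) : S.T ≤ S.centTwo := by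
  refine S.T_le_of (fun a ha => ⟨S.T_le_centLast (S.lev_le ha), S.lev_normal _ (S.lev_le ha),
    fun b hb => ?_⟩) ⟨S.T_le_centLast S.x_mem, S.lev_normal _ S.x_mem, fun b hb => ?_⟩
  · have := S.comm 0 (S.i - 3) a ha b hb
    rw [S.lev_bot _ (by omega), Subgroup.mem_bot] at this
    rw [this]
    exact one_mem _
  · rw [← commutatorElement_inv]
    refine inv_mem ?_
    have := S.x_comm _ b hb
    rwa [show S.i - 3 + 1 = S.i - 2 by omega] at this

theorem wtX_centTwo (hi : 3 ≤ S.i) {h : X} (hC : h ∈ S.centTwo)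
    (hh : h ∈ Subgroup.normalizer (S.T : Set X)) : S.wtX h = 1 := by
  haveI : Fact (1 < p) := ⟨hp.out.one_lt⟩
  obtain ⟨z, hz, hz1⟩ := S.exists_last
  have hL := S.wtX_pow_L hh hz hz1 (S.conj_eq_of_centLast hC.1 hz)
  obtain ⟨a, ha, ha1⟩ := S.exists_lev_exact (k := S.i - 3) (by omega)
  rw [show S.i - 3 + 1 = S.i - 2 by omega] at ha1
  have h1 := S.wt_lev ⟨h, hh⟩ ha
  rw [← S.wtX_eq hh, show S.L + (S.i - 3) + 2 - S.i = S.L - 1 by omega,
    show S.i - 3 + 1 = S.i - 2 by omega] at h1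
  set c : ZMod p := ((S.wtX h ^ (S.L - 1) : (ZMod p)ˣ) : ZMod p) with hc
  have h2 := mul_mem (inv_mem h1) (hC.2.2 a ha)
  rw [show (h * a * h⁻¹ * (a ^ c.val)⁻¹)⁻¹ * ⁅h, a⁆ = a ^ c.val * a⁻¹ by
      simp only [commutatorElement_def]; group,
    S.pow_congr (S.lev_le_T _ ha) (a := c.val) (b := (c - 1).val + 1) (by simp), pow_succ,
    mul_inv_cancel_right] at h2
  have h0 : c - 1 = 0 := by
    by_contra hne
    refine ha1 ?_
    have := pow_mem h2 ((c - 1)⁻¹).val
    rwa [← pow_mul, S.pow_congr (S.lev_le_T _ ha) (b := 1) (by simp [hne]), pow_one] at this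
  have hL1 : S.wtX h ^ (S.L - 1) = 1 := Units.val_eq_one.1 (sub_eq_zero.1 h0)
  have hLpos := S.i_le_L
  rwa [show S.L = S.L - 1 + 1 by omega, pow_succ, hL1, one_mul] at hL

theorem centLast_inf_normalizer_le (hi : 3 ≤ S.i) :
    S.centLast ⊓ Subgroup.normalizer (S.lev (S.i - 3) : Set X) ≤ Subgroup.normalizer (S.T : Set X) := by
  refine S.le_normalizer_T_of_normal (S.T_le_centTwo hi)
    (S.le_normalizer_T_of_trivial (S.T_le_centTwo hi) fun m hm hmN => S.wtX_centTwo hi hm hmN) ?_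
  intro g hg c hc
  refine ⟨mul_mem (mul_mem hg.1 hc.1) (inv_mem hg.1), mul_mem (mul_mem hg.2 hc.2.1) (inv_mem hg.2),
    fun a ha => ?_⟩
  have ha' : g⁻¹ * a * g ∈ S.lev (S.i - 3) := by
    have := (Subgroup.mem_normalizer_iff.1 (inv_mem hg.2) a).1 ha
    rwa [inv_inv] at this
  rw [show ⁅g * c * g⁻¹, a⁆ = g * ⁅c, g⁻¹ * a * g⁆ * g⁻¹ by simp only [commutatorElement_def]; group,
    S.conj_eq_of_centLast hg.1 (hc.2.2 _ ha')]
  exact hc.2.2 _ ha'

/-- The centralizer of the last layer normalizes `T`. -/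
theorem centLast_le (hi : 3 ≤ S.i) (hd : 2 * S.L < S.d) :
    S.centLast ≤ Subgroup.normalizer (S.T : Set X) := by
  obtain ⟨z, hz, hz1⟩ := S.exists_last
  obtain ⟨k, hk⟩ : ∃ k, k = S.i - 3 := ⟨_, rfl⟩
  have hk2 : k + 1 = S.i - 2 := by omega
  have hs2 := S.sh_add_two_le_L hi hd
  rw [← hk] at hs2
  have hs0 := S.add_two_le_sh (k := k) (by omega)
  refine S.le_normalizer_T_of_descent S.T_le_centLast fun D hD => ?_
  have hzD : S.lev (S.i - 2) ≤ D := by
    obtain ⟨g, hg, -, hmem⟩ := hD.witness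
    intro w hw
    refine (hmem w).2 ⟨S.lev_le_T _ hw, ?_⟩
    rw [show g⁻¹ * w * g = g⁻¹ * w * (g⁻¹)⁻¹ by rw [inv_inv], S.conj_eq_of_centLast (inv_mem hg) hw]
    exact S.lev_le_T _ hw
  by_cases hle : S.lev k ≤ D
  · intro g hg
    refine S.centLast_inf_normalizer_le hi ⟨hg.1, ?_⟩
    refine Subgroup.mem_normalizer_fintype fun a ha => ?_
    rw [← hk] at ha ⊢
    have hgT : g * a * g⁻¹ ∈ S.T :=
      hD.le ((Subgroup.mem_normalizer_iff.1 hg.2 a).1 (hle ha))
    rcases Nat.eq_zero_or_pos k with h0 | h0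
    · have := S.mem_lev_zero_of_conj (k := k) (by omega) ha hgT
      rwa [h0]
    · obtain ⟨j, hj⟩ := Nat.exists_eq_succ_of_ne_zero (show k ≠ 0 by omega)
      rw [Nat.succ_eq_add_one] at hj
      have hjump : S.Jump (j + 1) := Or.inr (by
        rw [show j + 1 + 1 = S.i - 2 by omega, S.sh_last, ← hj]
        omega)
      have hstep := S.add_two_le_sh_succ (k := j) (by omega) hjump
        (fun b hb b' hb' => by
          have := S.comm j (j + 1) b hb b' hb'
          rw [S.lev_bot _ (by omega), Subgroup.mem_bot] at this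
          exact commutatorElement_eq_one_iff_mul_comm.1 this)
        (by rw [← hj]; omega)
      rw [hj] at ha ⊢
      exact S.mem_lev_succ_of_conj (by omega) (Or.inr hstep) ha hgT
  · obtain ⟨u, hu, huD⟩ := Set.not_subset.1 hle
    have hun : u ∈ Subgroup.normalizer (D : Set X) := Subgroup.mem_normalizer_fintype fun t ht => by
      have h1 := (S.T_le_centTwo hi (hD.le ht)).2.2 u (hk ▸ hu)
      rw [show u * t * u⁻¹ = ⁅t, u⁆⁻¹ * t by simp only [commutatorElement_def]; group]
      exact D.mul_mem (D.inv_mem (hzD h1)) ht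
    refine S.inf_normalizer_le S.T_le_centLast hD (S.lev_le_T _ hu) huD hun (s := S.sh k)
      (e := S.sh k + 1) (by omega) (fun l v hv => S.sh_shift hu hv) (fun m hm hmN => ?_)
      fun l hl => ?_
    · rw [hk]
      rw [hk] at hs2
      have hL := S.wtX_pow_L hmN hz hz1 (S.conj_eq_of_centLast hm hz)
      rw [pow_succ, ← S.wtX_pow_sub_one hi hmN, ← pow_succ, Nat.sub_add_cancel (by omega), hL]
    · refine ⟨min S.d ((l / S.L + 1) * S.L), ?_, min_le_left _ _, fun g hg v hv => ?_, ?_⟩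
      · have := Nat.lt_div_mul_add (a := l) (show 0 < S.L by omega)
        rw [Nat.succ_mul]
        omega
      · rcases le_total S.d ((l / S.L + 1) * S.L) with h | h
        · rw [min_eq_left h, S.W_bot _ le_rfl, AddSubgroup.mem_bot] at hv ⊢
          rw [hv, smul_zero]
        · rw [min_eq_right h] at hv ⊢
          exact S.smul_mem_W_mul _ g hg v hv
      · have h1 : (l / S.L) * S.L ≤ l := Nat.div_mul_le_self l S.L
        have h2 : min S.d ((l / S.L + 1) * S.L) - l - 1 ≤ S.L - 1 := by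
          rw [Nat.succ_mul]
          omega
        have hdp := S.d_lt
        calc (S.sh k + 1) * (min S.d ((l / S.L + 1) * S.L) - l - 1)
            ≤ (2 * S.sh k) * (S.L - 1) := Nat.mul_le_mul (by omega) h2
          _ = S.sh k * (2 * (S.L - 1)) := by ring
          _ < S.sh k * (p - 1) := Nat.mul_lt_mul_of_pos_left (by omega) (by omega)
          _ = (p - 1) * S.sh k := Nat.mul_comm _ _

/-- The normalizer of the last layer normalizes `T`. -/
theorem normalizer_last_le (hi : 3 ≤ S.i) (hd : 2 * S.L < S.d) :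
    Subgroup.normalizer (S.lev (S.i - 2) : Set X) ≤ Subgroup.normalizer (S.T : Set X) := by
  refine S.le_normalizer_T_of_normal S.T_le_centLast (S.centLast_le hi hd) fun g hg c hc => ?_
  refine S.mem_centLast.2 fun w hw => ?_
  have hw' : g⁻¹ * w * g ∈ S.lev (S.i - 2) := by
    have := (Subgroup.mem_normalizer_iff.1 (inv_mem hg) w).1 hw
    rwa [inv_inv] at this
  have h1 := S.mem_centLast.1 hc _ hw'
  calc w * (g * c * g⁻¹) = g * ((g⁻¹ * w * g) * c) * g⁻¹ := by group
    _ = g * (c * (g⁻¹ * w * g)) * g⁻¹ := by rw [h1]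
    _ = g * c * g⁻¹ * w := by group

/-- With `3 ≤ i` and `2 L < d` the Sylow subgroup is normal. -/
theorem top_le_normalizer_T_of_large (hi : 3 ≤ S.i) (hd : 2 * S.L < S.d) :
    (⊤ : Subgroup X) ≤ Subgroup.normalizer (S.T : Set X) := by
  have hs2 := S.sh_add_two_le_L hi hd
  refine S.le_normalizer_T_of_descent le_top fun D hD => ?_
  by_cases hle : S.lev (S.i - 2) ≤ D
  · intro g hg
    refine S.normalizer_last_le hi hd (Subgroup.mem_normalizer_fintype fun a ha => ?_)
    have hgT : g * a * g⁻¹ ∈ S.T :=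
      hD.le ((Subgroup.mem_normalizer_iff.1 hg.2 a).1 (hle ha))
    have h := S.mem_lev_succ_of_conj (k0 := S.i - 3) (a := a) (g := g) (by omega) (Or.inr (by
      rw [show S.i - 3 + 1 = S.i - 2 by omega, S.sh_last]
      exact hs2)) (by rwa [show S.i - 3 + 1 = S.i - 2 by omega]) hgT
    rwa [show S.i - 3 + 1 = S.i - 2 by omega] at h
  · obtain ⟨u, hu, huD⟩ := Set.not_subset.1 hle
    have hun : u ∈ Subgroup.normalizer (D : Set X) := Subgroup.mem_normalizer_fintype fun t ht => by
      rw [S.mem_centLast.1 (S.T_le_centLast (hD.le ht)) u hu, mul_inv_cancel_right]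
      exact ht
    refine S.inf_normalizer_le le_top hD (S.lev_le_T _ hu) huD hun (s := S.L)
      (e := S.L - 1 - S.sh (S.i - 3)) (by omega) (fun l v hv => S.last_shift hu l v hv)
      (fun m _ hmN => ?_)
      fun l hl => ⟨S.d, by omega, le_rfl, fun g _ v hv => by
        rw [S.W_bot _ le_rfl, AddSubgroup.mem_bot] at hv ⊢
        rw [hv, smul_zero], ?_⟩
    · have h := S.wtX_pow_sub_one hi hmN
      rw [show S.L - 1 = S.L - 1 - S.sh (S.i - 3) + S.sh (S.i - 3) by omega, pow_add] at h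
      exact mul_eq_right.1 h
    · have hdp := S.d_lt
      calc (S.L - 1 - S.sh (S.i - 3)) * (S.d - l - 1) ≤ S.L * (S.d - l - 1) :=
            Nat.mul_le_mul_right _ (by omega)
        _ < S.L * (p - 1) := Nat.mul_lt_mul_of_pos_left (by omega) (by omega)
        _ = (p - 1) * S.L := Nat.mul_comm _ _

end Sys

end Cfsg.Agent.MaxClassLin
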