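import Cfsg.Agent.Lib.MaxClassLin.CaseLarge
import Cfsg.Agent.Lib.Involutions.BaerSuzuki

/-!
# The case of a quadratic last layer

If `3 ≤ i` and `d ≤ 2 L` the last layer is quadratic and rigid.  An element scaling it by `c ≠ 1`
and acting as a scalar on two adjacent layers is impossible, because the weights of the centralizer
of the last layer have trivial `L`-th power.
-/

set_option autoImplicit false
set_option linter.unusedSectionVars false
set_option linter.style.haveILetI false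

namespace Cfsg.Agent.MaxClassLin

open scoped commutatorElement

variable {p : ℕ} [hp : Fact p.Prime] {X : Type*} [Group X] [Finite X] {V : Type*} [AddCommGroup V]
  [DistribMulAction X V]

/-- A multiplicatively closed subset of a finite group is a subgroup. -/
def finClosed {G : Type*} [Group G] [Finite G] (s : Set G) (h1 : (1 : G) ∈ s)
    (hmul : ∀ a b, a ∈ s → b ∈ s → a * b ∈ s) : Subgroup G where
  carrier := s
  one_mem' := h1
  mul_mem' := fun ha hb => hmul _ _ ha hb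
  inv_mem' := fun {g} hg => by
    have hpow : ∀ n : ℕ, g ^ n ∈ s := fun n => by
      induction n with
      | zero => rwa [pow_zero]
      | succ n ih => rw [pow_succ]; exact hmul _ _ ih hg
    rw [inv_eq_of_mul_eq_one_left (a := g ^ (orderOf g - 1)) (b := g) (by
      rw [← pow_succ, Nat.sub_add_cancel (orderOf_pos g), pow_orderOf_eq_one])]
    exact hpow _

/-- The subgroup of elements preserving a subgroup of the module. -/
def stabSub (U : AddSubgroup V) : Subgroup X :=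
  finClosed {g | ∀ v ∈ U, g • v ∈ U} (fun v hv => by rwa [one_smul])
    fun a b ha hb v hv => by rw [mul_smul]; exact ha _ (hb v hv)

theorem mem_stabSub {U : AddSubgroup V} {g : X} : g ∈ stabSub U ↔ ∀ v ∈ U, g • v ∈ U := Iff.rfl

namespace Sys

variable (S : Sys p X V)

/-- Frattini for a subgroup containing `T`. -/
theorem exists_frattini {Y : Subgroup X} (hT : S.T ≤ Y) {g : X}
    (hg : ∀ t ∈ S.T, g * t * g⁻¹ ∈ Y) :
    ∃ m ∈ Y, m * g ∈ Subgroup.normalizer (S.T : Set X) := by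
  obtain ⟨P, hP⟩ := S.sylow
  have h1 : (P : Subgroup X) ≤ Y := hP ▸ hT
  have h2 : ((g • P : Sylow p X) : Subgroup X) ≤ Y := by
    rintro _ ⟨t, ht, rfl⟩
    exact hg t (hP ▸ ht)
  obtain ⟨m, hm⟩ := MulAction.exists_smul_eq ↥Y ((g • P).subtype h2) (P.subtype h1)
  simp_rw [Sylow.smul_subtype, Subgroup.smul_def, smul_smul] at hm
  refine ⟨m, m.2, ?_⟩
  rw [← hP]
  exact Sylow.smul_eq_iff_mem_normalizer.1 (Sylow.subtype_injective hm)

theorem exists_scal (g : X) {l : ℕ} (hl : l < S.d) (hg : ∀ v ∈ S.W l, g • v ∈ S.W l)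
    (hg1 : ∀ v ∈ S.W (l + 1), g • v ∈ S.W (l + 1)) : ∃ c : ZMod p, S.Scal g l c := by
  obtain ⟨e, he, he1⟩ := S.exists_exact hl
  obtain ⟨n, hn⟩ := S.exists_nsmul he he1 (hg e he)
  refine ⟨n, fun v hv => ?_⟩
  rw [S.val_smul]
  obtain ⟨k, hk⟩ := S.exists_nsmul he he1 hv
  have h1 := add_mem (sub_mem (hg1 _ hk) (nsmul_mem hk n)) (nsmul_mem hn k)
  refine cast ?_ h1
  congr 1
  rw [smul_sub, smul_comm g k e, nsmul_sub, nsmul_sub, smul_comm k n e]
  abel

/-- Elements with a common scalar on two adjacent layers. -/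
def eqScal (l : ℕ) : Subgroup X :=
  finClosed
    {g | g ∈ S.centLast ∧ (∀ v ∈ S.W (l + 1), g • v ∈ S.W (l + 1)) ∧
      (∀ v ∈ S.W (l + 2), g • v ∈ S.W (l + 2)) ∧ ∃ c, S.Scal g l c ∧ S.Scal g (l + 1) c}
    ⟨one_mem _, fun v hv => by rwa [one_smul], fun v hv => by rwa [one_smul],
      1, S.scal_of_mem_T (one_mem _) l, S.scal_of_mem_T (one_mem _) (l + 1)⟩
    fun a b ⟨ha, ha1, ha2, c, hc, hc'⟩ ⟨hb, hb1, hb2, c', hd, hd'⟩ =>
      ⟨mul_mem ha hb, fun v hv => by rw [mul_smul]; exact ha1 _ (hb1 v hv),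
        fun v hv => by rw [mul_smul]; exact ha2 _ (hb2 v hv),
        c * c', S.scal_mul hc hd ha1, S.scal_mul hc' hd' ha2⟩

theorem mem_eqScal {l : ℕ} {g : X} : g ∈ S.eqScal l ↔
    g ∈ S.centLast ∧ (∀ v ∈ S.W (l + 1), g • v ∈ S.W (l + 1)) ∧
      (∀ v ∈ S.W (l + 2), g • v ∈ S.W (l + 2)) ∧ ∃ c, S.Scal g l c ∧ S.Scal g (l + 1) c := Iff.rfl

theorem T_le_eqScal (l : ℕ) : S.T ≤ S.eqScal l := fun _ ht =>
  S.mem_eqScal.2 ⟨S.T_le_centLast ht, fun _ hv => S.smul_mem_W ht hv, fun _ hv => S.smul_mem_W ht hv,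
    1, S.scal_of_mem_T ht l, S.scal_of_mem_T ht (l + 1)⟩

/-- A scalar on two adjacent layers cannot move the last layer. -/
theorem false_of_scalar {l : ℕ} (hl : l + 1 < S.d) {h : X} {c s : ℕ} (hc : (c : ZMod p) ≠ 1)
    (hz : ∀ z ∈ S.lev (S.i - 2), h * z * h⁻¹ = z ^ c)
    (h0 : ∀ v ∈ S.W l, h • v - s • v ∈ S.W (l + 1))
    (h1 : ∀ v ∈ S.W (l + 1), h • v - s • v ∈ S.W (l + 2))
    (h2 : ∀ v ∈ S.W (l + 2), h • v ∈ S.W (l + 2)) : False := by
  haveI : Fact (1 < p) := ⟨hp.out.one_lt⟩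
  obtain ⟨z, hzl, hz1⟩ := S.exists_last
  have hl1 : ∀ v ∈ S.W (l + 1), h • v ∈ S.W (l + 1) := fun v hv => by
    have := add_mem (S.W_anti (Nat.le_succ _) (h1 v hv)) (nsmul_mem hv s)
    rwa [sub_add_cancel] at this
  have hl0 : ∀ v ∈ S.W l, h • v ∈ S.W l := fun v hv => by
    have := add_mem (S.W_anti (Nat.le_succ _) (h0 v hv)) (nsmul_mem hv s)
    rwa [sub_add_cancel] at this
  -- `h` normalizes the centralizer of the last layer
  have hzpow : ∀ w ∈ S.lev (S.i - 2), h * w * h⁻¹ ∈ S.lev (S.i - 2) := fun w hw => by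
    rw [hz w hw]; exact pow_mem hw c
  have hnorm : h ∈ Subgroup.normalizer (S.lev (S.i - 2) : Set X) :=
    Subgroup.mem_normalizer_fintype hzpow
  obtain ⟨m, hm, hn⟩ := S.exists_frattini S.T_le_centLast (g := h) fun t ht => by
    refine S.mem_centLast.2 fun w hw => ?_
    have hw' : h⁻¹ * w * h ∈ S.lev (S.i - 2) := by
      have := (Subgroup.mem_normalizer_iff.1 (inv_mem hnorm) w).1 hw
      rwa [inv_inv] at this
    have := S.mem_centLast.1 (S.T_le_centLast ht) _ hw'
    calc w * (h * t * h⁻¹) = h * ((h⁻¹ * w * h) * t) * h⁻¹ := by group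
      _ = h * (t * (h⁻¹ * w * h)) * h⁻¹ := by rw [this]
      _ = h * t * h⁻¹ * w := by group
  set n := m * h with hndef
  -- `m` preserves the three layers
  have hmW : ∀ j, (∀ v ∈ S.W j, h • v ∈ S.W j) → ∀ v ∈ S.W j, m • v ∈ S.W j := by
    intro j hj v hv
    have hinv : h⁻¹ ∈ stabSub (X := X) (S.W j) := inv_mem (mem_stabSub.2 hj)
    have := S.smul_mem_W' hn (mem_stabSub.1 hinv v hv)
    rwa [hndef, mul_smul, smul_inv_smul] at this
  obtain ⟨a, ha⟩ := S.exists_scal m (by omega) (hmW l hl0) (hmW _ hl1)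
  obtain ⟨a', ha'⟩ := S.exists_scal m hl (hmW _ hl1) (hmW _ h2)
  -- Frattini inside the equal scalars
  have hm' : ∀ t ∈ S.T, m * t * m⁻¹ ∈ S.eqScal l := by
    intro t ht
    have hmi : ∀ j, (∀ v ∈ S.W j, h • v ∈ S.W j) → ∀ v ∈ S.W j, m⁻¹ • v ∈ S.W j := fun j hj v hv =>
      mem_stabSub.1 (inv_mem (mem_stabSub.2 (hmW j hj))) v hv
    obtain ⟨b, hb⟩ := S.exists_scal m⁻¹ (by omega) (hmi l hl0) (hmi _ hl1)
    obtain ⟨b', hb'⟩ := S.exists_scal m⁻¹ hl (hmi _ hl1) (hmi _ h2)
    have e : a * b = 1 := S.scal_unique (l := l) (by omega) (S.scal_mul ha hb (hmW _ hl1))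
      (by rw [mul_inv_cancel]; exact S.scal_of_mem_T (one_mem _) l)
    have e' : a' * b' = 1 := S.scal_unique (l := l + 1) hl (S.scal_mul ha' hb' (hmW _ h2))
      (by rw [mul_inv_cancel]; exact S.scal_of_mem_T (one_mem _) _)
    have hpres : ∀ j, (∀ v ∈ S.W j, h • v ∈ S.W j) → ∀ v ∈ S.W j, (m * t) • v ∈ S.W j :=
      fun j hj v hv => by rw [mul_smul]; exact hmW j hj _ (S.smul_mem_W ht hv)
    refine S.mem_eqScal.2 ⟨mul_mem (mul_mem hm (S.T_le_centLast ht)) (inv_mem hm),
      fun v hv => by rw [mul_smul]; exact hpres _ hl1 _ (hmi _ hl1 v hv),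
      fun v hv => by rw [mul_smul]; exact hpres _ h2 _ (hmi _ h2 v hv), 1, ?_, ?_⟩
    · have := S.scal_mul (S.scal_mul ha (S.scal_of_mem_T ht l) (hmW _ hl1)) hb (hpres _ hl1)
      rwa [mul_one, e] at this
    · have := S.scal_mul (S.scal_mul ha' (S.scal_of_mem_T ht (l + 1)) (hmW _ h2)) hb' (hpres _ h2)
      rwa [mul_one, e'] at this
  obtain ⟨k, hk, hkm⟩ := S.exists_frattini (S.T_le_eqScal l) (g := m) hm'
  obtain ⟨hkC, hk1, hk2, κ, hκ, hκ'⟩ := S.mem_eqScal.1 hk
  -- compare the ratios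
  set N : ↥(Subgroup.normalizer (S.T : Set X)) := ⟨n, hn⟩ with hNdef
  set K : ↥(Subgroup.normalizer (S.T : Set X)) := ⟨k * m, hkm⟩ with hKdef
  have hs0 : S.Scal h l s := S.scal_of_nat h0
  have hs1 : S.Scal h (l + 1) s := S.scal_of_nat h1
  have eN0 := S.scal_unique (g := n) (l := l) (by omega) (S.wt_scal N l) (S.scal_mul ha hs0 (hmW _ hl1))
  have eN1 := S.scal_unique (g := n) (l := l + 1) hl (S.wt_scal N (l + 1)) (S.scal_mul ha' hs1 (hmW _ h2))
  have eK0 := S.scal_unique (g := k * m) (l := l) (by omega) (S.wt_scal K l) (S.scal_mul hκ ha hk1)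
  have eK1 := S.scal_unique (g := k * m) (l := l + 1) hl (S.wt_scal K (l + 1)) (S.scal_mul hκ' ha' hk2)
  rw [← Nat.add_assoc] at eN1 eK1
  rw [pow_succ, Units.val_mul, eN0] at eN1
  rw [pow_succ, Units.val_mul, eK0] at eK1
  have hne : ∀ {u : ZMod p} {w : (ZMod p)ˣ}, (w : ZMod p) = u → u ≠ 0 := fun h' => h' ▸ Units.ne_zero _
  have hs : (s : ZMod p) ≠ 0 := (mul_ne_zero_iff.1 (hne eN0)).2
  have hκ0 : κ ≠ 0 := (mul_ne_zero_iff.1 (hne eK0)).1
  have ha0 : a ≠ 0 := (mul_ne_zero_iff.1 (hne eK0)).2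
  have eN : a * (S.wt N : ZMod p) = a' := mul_right_cancel₀ hs (by rw [← eN1]; ring)
  have eK : a * (S.wt K : ZMod p) = a' := mul_left_cancel₀ hκ0 (by rw [← eK1]; ring)
  have hwt : S.wt N = S.wt K := Units.ext (mul_left_cancel₀ ha0 (eN.trans eK.symm))
  -- the weight on the last layer
  have hKC : k * m ∈ S.centLast := mul_mem hkC hm
  have hKL : S.wt K ^ S.L = 1 := by
    have := S.wtX_pow_L hkm hzl hz1 (S.conj_eq_of_centLast hKC hzl)
    rwa [S.wtX_eq hkm] at this
  have hlev := S.wt_lev N hzl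
  rw [show S.L + (S.i - 2) + 2 - S.i = S.L by have := S.two_le; omega, hwt, hKL, Units.val_one,
    ZMod.val_one, pow_one, S.lev_bot _ (by omega), Subgroup.mem_bot, mul_inv_eq_one] at hlev
  have hnz : n * z * n⁻¹ = z ^ c := by
    rw [hndef, show m * h * z * (m * h)⁻¹ = m * (h * z * h⁻¹) * m⁻¹ by group, hz z hzl]
    exact S.conj_eq_of_centLast hm (pow_mem hzl c)
  have hc1 : z ^ c = z ^ 1 := by rw [pow_one, ← hnz]; exact hlev
  rw [pow_eq_pow_iff_modEq, orderOf_eq_prime (S.pow_p (S.lev_le_T _ hzl)) hz1,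
    ← ZMod.natCast_eq_natCast_iff, Nat.cast_one] at hc1
  exact hc hc1

/-- Elements moving into `W L` and fixing `W (d - L)`. -/
def rigidGroup : Subgroup X :=
  finClosed
    {g | (∀ v : V, g • v - v ∈ S.W S.L) ∧ ∀ v ∈ S.W (S.d - S.L), g • v = v}
    ⟨fun v => by simp, fun v _ => one_smul X v⟩
    fun a b ha hb => ⟨fun v => by
      have := add_mem (ha.1 (b • v)) (hb.1 v)
      rwa [sub_add_sub_cancel, ← mul_smul] at this, fun v hv => by rw [mul_smul, hb.2 v hv, ha.2 v hv]⟩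

theorem rigid_mem {g : X} (hd : S.d ≤ 2 * S.L) (h1 : ∀ v : V, g • v - v ∈ S.W S.L)
    (h2 : ∀ v ∈ S.W (S.d - S.L), g • v = v) : g ∈ S.lev (S.i - 2) := by
  have hLd := S.L_lt
  have hquad : ∀ (c : X), c ∈ S.rigidGroup → c ^ p = 1 := by
    intro c hc
    refine S.faithful _ fun v => ?_
    have hn : ∀ n : ℕ, c ^ n • v = v + n • (c • v - v) := by
      intro n
      induction n with
      | zero => simp
      | succ n ih =>
        rw [pow_succ', mul_smul, ih, smul_add, smul_comm c n,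
          hc.2 _ (S.W_anti (show S.d - S.L ≤ S.L by omega) (hc.1 v)), succ_nsmul]
        abel
    rw [hn p, S.tors, add_zero]
  have hpg : IsPGroup p S.rigidGroup := fun c => ⟨1, Subtype.ext (by simpa using hquad c c.2)⟩
  have hTn : S.T ≤ Subgroup.normalizer (S.rigidGroup : Set X) := fun t ht => by
    refine Subgroup.mem_normalizer_fintype fun c hc => ⟨fun v => ?_, fun v hv => ?_⟩
    · have := S.smul_mem_W ht (hc.1 (t⁻¹ • v))
      rwa [smul_sub, smul_inv_smul, ← mul_smul, ← mul_smul] at this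
    · rw [mul_smul, mul_smul, hc.2 _ (S.smul_mem_W (inv_mem ht) hv), smul_inv_smul]
  obtain ⟨P, hP⟩ := S.sylow
  have hsup : IsPGroup p ↥(S.T ⊔ S.rigidGroup) := S.isPGroup_T.to_sup_of_normal_right' hpg hTn
  have hle : S.T ⊔ S.rigidGroup = S.T := by
    have := P.is_maximal' hsup (by rw [hP]; exact le_sup_left)
    rwa [hP] at this
  exact S.mem_last_of_rigid (hle ▸ Subgroup.mem_sup_right (show g ∈ S.rigidGroup from ⟨h1, h2⟩)) h1 h2

/-- With a quadratic last layer it lies in a normal `p`-subgroup, given scaling elements. -/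
theorem exists_normal_of_quad (hi : 3 ≤ S.i) (hd : S.d ≤ 2 * S.L)
    (hpair : ∀ (z g : X), z ^ p = 1 → (∀ v : V, z • (z • v - v) = z • v - v) →
      (∀ c : X, (∀ v : V, ∃ u : V, c • v - v = z • u - u) → (∀ v : V, z • v = v → c • v = v) →
        c ∈ Subgroup.zpowers z) →
      ¬ IsPGroup p (Subgroup.closure ({z, g * z * g⁻¹} : Set X)) →
      ∃ (h : X) (c : ℕ), (c : ZMod p) ≠ 1 ∧ h * z * h⁻¹ = z ^ c ∧
        (∀ v : V, z • v = v → ∃ u, h • v - v = z • u - u) ∧
        (7 ≤ p → ∃ s : ℕ, ∀ u : V, h • (z • u - u) = s • (z • u - u))) :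
    ∃ N : Subgroup X, N.Normal ∧ IsPGroup p N ∧ N ≠ ⊥ := by
  obtain ⟨z, hz, hz1⟩ := S.exists_last
  have hzp : z ^ p = 1 := S.pow_p (S.lev_le_T _ hz)
  have hLd := S.L_lt
  have hiL := S.i_le_L
  have hle : S.lev (S.i - 2) ≤ Subgroup.zpowers z := by
    refine S.lev_le_of_mem hz ?_ (Subgroup.mem_zpowers z) ?_
    · rw [S.lev_bot _ (by omega), Subgroup.mem_bot]; exact hz1
    · rw [S.lev_bot _ (by omega)]; exact bot_le
  have hmem : ∀ v, z • v - v ∈ S.W S.L := fun v => by
    simpa using S.last_shift hz 0 v (by rw [S.W_zero]; exact AddSubgroup.mem_top v)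
  have hfix : ∀ v ∈ S.W (S.d - S.L), z • v = v := fun v hv => by
    have := S.last_shift hz _ v hv
    rw [S.W_bot _ (by omega), AddSubgroup.mem_bot] at this
    exact sub_eq_zero.1 this
  have himg : ∀ v ∈ S.W S.L, ∃ u : V, v = z • u - u := by
    intro v hv
    have hU : S.W S.L ≤ (⊤ : AddSubgroup V).map (DistribSMul.toAddMonoidHom V z - AddMonoidHom.id V) := by
      refine S.W_le_of_exact fun j hj hjd => ?_
      have h1 := S.last_shift hz (j - S.L) _ (S.eb_mem _)
      have h2 := S.last_exact hz hz1 (j - S.L) (by omega) _ (S.eb_mem _) (S.eb_notMem _ (by omega))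
      rw [show j - S.L + S.L = j by omega] at h1 h2
      exact ⟨_, ⟨S.eb (j - S.L), AddSubgroup.mem_top _, rfl⟩, h1, h2⟩
    obtain ⟨u, -, hu⟩ := hU hv
    exact ⟨u, hu.symm⟩
  have hfix' : ∀ v : V, z • v = v → v ∈ S.W (S.d - S.L) := by
    intro v hv
    have key : ∀ l, l ≤ S.d - S.L → v ∈ S.W l := by
      intro l
      induction l with
      | zero => intro _; rw [S.W_zero]; exact AddSubgroup.mem_top v
      | succ l ih =>
        intro hl
        by_contra hout
        refine S.last_exact hz hz1 l (by omega) v (ih (by omega)) hout ?_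
        rw [hv, sub_self]
        exact zero_mem _
    exact key _ le_rfl
  by_cases hgood : ∀ g : X, IsPGroup p
      ↥(Subgroup.zpowers z ⊔ (Subgroup.zpowers z).map (MulAut.conj g).toMonoidHom)
  · obtain ⟨N, hN, hNp, hzN⟩ := Involutions.BaerSuzuki.baer_suzuki (Subgroup.zpowers z)
      (S.isPGroup_T.to_le (Subgroup.zpowers_le.2 (S.lev_le_T _ hz))) hgood
    exact ⟨N, hN, hNp, fun h => hz1 (by
      have := hzN (Subgroup.mem_zpowers z)
      rwa [h, Subgroup.mem_bot] at this)⟩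
  · exfalso
    push Not at hgood
    obtain ⟨g, hg⟩ := hgood
    obtain ⟨h, c, hc, hhz, hmid, hsc⟩ := hpair z g hzp
      (fun v => hfix _ (S.W_anti (by omega) (hmem v)))
      (fun c hc1 hc2 => hle (S.rigid_mem hd (fun v => by
        obtain ⟨u, hu⟩ := hc1 v
        rw [hu]; exact hmem u) fun v hv => hc2 v (hfix v hv)))
      (fun hP => hg (hP.to_le (sup_le (Subgroup.zpowers_le.2 (Subgroup.subset_closure (Or.inl rfl)))
        (by
          rw [MonoidHom.map_zpowers, Subgroup.zpowers_le]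
          exact Subgroup.subset_closure (Or.inr rfl)))))
    have hlast : ∀ w ∈ S.lev (S.i - 2), h * w * h⁻¹ = w ^ c := by
      intro w hw
      obtain ⟨j, rfl⟩ := (IsOfFinOrder.mem_powers_iff_mem_zpowers (isOfFinOrder_of_finite z)).mpr (hle hw)
      rw [← conj_pow, hhz, pow_right_comm]
    rcases lt_or_ge (S.L + 1) S.d with hm | hm
    · have hp7 : 7 ≤ p := by
        have hp5 := S.five_le
        have := S.d_lt
        rcases eq_or_ne p 5 with h5 | h5
        · omega
        · rcases eq_or_ne p 6 with h6 | h6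
          · exact absurd hp.out (by rw [h6]; decide)
          · omega
      obtain ⟨s, hs⟩ := hsc hp7
      have hW : ∀ v ∈ S.W S.L, h • v = s • v := fun v hv => by
        obtain ⟨u, rfl⟩ := himg v hv
        exact hs u
      refine S.false_of_scalar (l := S.L) (s := s) hm hc hlast (fun v hv => ?_) (fun v hv => ?_)
        fun v hv => ?_
      · rw [hW v hv, sub_self]; exact zero_mem _
      · rw [hW v (S.W_anti (Nat.le_succ _) hv), sub_self]; exact zero_mem _
      · rw [hW v (S.W_anti (by omega) hv)]; exact nsmul_mem hv s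
    · have hmid' : ∀ v ∈ S.W 1, h • v - v ∈ S.W S.L := fun v hv => by
        obtain ⟨u, hu⟩ := hmid v (hfix v (S.W_anti (by omega) hv))
        rw [hu]; exact hmem u
      refine S.false_of_scalar (l := 1) (s := 1) (by omega) hc hlast (fun v hv => ?_) (fun v hv => ?_)
        fun v hv => ?_
      · rw [one_smul]; exact S.W_anti (by omega) (hmid' v hv)
      · rw [one_smul]; exact S.W_anti (by omega) (hmid' v (S.W_anti (by omega) hv))
      · have := add_mem (S.W_anti (show 1 + 2 ≤ S.L by omega) (hmid' v (S.W_anti (by omega) hv))) hv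
        rwa [sub_add_cancel] at this

end Sys

end Cfsg.Agent.MaxClassLin
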