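import Mathlib
import Cfsg.Agent.Lib.SpeTrace.Rel

/-!
# Coprime groups normalized by an element with a short Jordan block

If `g` of order dividing `p` acts fixed-point-freely on `D / B`, a group of order prime to `p`,
and `1 + g + ... + g ^ (p - 1)` vanishes on a section on which `B` is trivial, then `D` is trivial on
that section.  The proof is the identity of the Frobenius group ring.
-/

set_option autoImplicit false
set_option linter.unusedSectionVars false
set_option linter.style.haveILetI false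

namespace Cfsg.Agent.MaxClassLin

open scoped commutatorElement

variable {p : ℕ} [hp : Fact p.Prime] {X : Type*} [Group X] [Finite X] {V : Type*} [AddCommGroup V]
  [DistribMulAction X V]

theorem dif_mem_of_fpf (hY : ∀ v : V, p • v = 0) {D B : Subgroup X} {g : X}
    (hBn : ∀ d ∈ D, ∀ b ∈ B, d * b * d⁻¹ ∈ B) (hgD : ∀ d ∈ D, g * d * g⁻¹ ∈ D)
    (hgB : ∀ b ∈ B, g * b * g⁻¹ ∈ B) (hgp : g ^ p = 1) (hcard : ¬ p ∣ B.relIndex D)
    (hfix : ∀ d ∈ D, g * d * g⁻¹ * d⁻¹ ∈ B → d ∈ B) {U₁ U₂ : AddSubgroup V}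
    (hD₁ : ∀ d ∈ D, ∀ v ∈ U₁, d • v ∈ U₁) (hD₂ : ∀ d ∈ D, ∀ v ∈ U₂, d • v ∈ U₂)
    (hg₂ : ∀ v ∈ U₂, g • v ∈ U₂) (hB : ∀ b ∈ B, ∀ v ∈ U₂, b • v - v ∈ U₁)
    (hsum : ∀ v ∈ U₂, ∑ j ∈ Finset.range p, g ^ j • v ∈ U₁) :
    ∀ d ∈ D, ∀ v ∈ U₂, d • v - v ∈ U₁ := by
  classical
  haveI := Fintype.ofFinite (D ⧸ B.subgroupOf D)
  -- residues modulo `U₁`
  let π : V →+ V ⧸ U₁ := QuotientAddGroup.mk' U₁
  have hπ : ∀ a b : V, π a = π b ↔ a - b ∈ U₁ := fun a b =>
    QuotientAddGroup.eq_iff_sub_mem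
  -- a representative of a coset
  have hout : ∀ (u : D) (v : V), v ∈ U₂ →
      π ((((QuotientGroup.mk u : D ⧸ B.subgroupOf D).out : D) : X) • v) = π ((u : X) • v) := by
    intro u v hv
    have hb := SpeTrace.out_inv_mul_mem B D u
    set w : D := (QuotientGroup.mk u : D ⧸ B.subgroupOf D).out with hw
    have h1 := hD₁ _ w.2 _ (hB _ hb v hv)
    rw [smul_sub, ← mul_smul, mul_inv_cancel_left] at h1
    exact ((hπ _ _).2 h1).symm
  have hpow₂ : ∀ (j : ℕ), ∀ v ∈ U₂, g ^ j • v ∈ U₂ := by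
    intro j
    induction j with
    | zero => intro v hv; simpa using hv
    | succ j ih => intro v hv; rw [pow_succ', mul_smul]; exact hg₂ _ (ih v hv)
  have hpowD : ∀ (j : ℕ), ∀ d ∈ D, g ^ j * d * (g ^ j)⁻¹ ∈ D := by
    intro j
    induction j with
    | zero => intro d hd; simpa using hd
    | succ j ih =>
      intro d hd
      have := hgD _ (ih d hd)
      simpa [pow_succ', mul_assoc, mul_inv_rev] using this
  have hpowB : ∀ (j : ℕ), ∀ b ∈ B, g ^ j * b * (g ^ j)⁻¹ ∈ B := by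
    intro j
    induction j with
    | zero => intro b hb; simpa using hb
    | succ j ih =>
      intro b hb
      have := hgB _ (ih b hb)
      simpa [pow_succ', mul_assoc, mul_inv_rev] using this
  -- fixed points of a power
  have hfixj : ∀ j, 0 < j → j < p → ∀ d ∈ D, g ^ j * d * (g ^ j)⁻¹ * d⁻¹ ∈ B → d ∈ B := by
    intro j hj hjp d hd hb
    have hiter : ∀ n : ℕ, (g ^ j) ^ n * d * ((g ^ j) ^ n)⁻¹ * d⁻¹ ∈ B := by
      intro n
      induction n with
      | zero => simpa using one_mem B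
      | succ n ih =>
        have := B.mul_mem (hpowB (j * n) _ hb) ih
        rw [pow_mul] at this
        rwa [show (g ^ j) ^ n * (g ^ j * d * (g ^ j)⁻¹ * d⁻¹) * ((g ^ j) ^ n)⁻¹ *
          ((g ^ j) ^ n * d * ((g ^ j) ^ n)⁻¹ * d⁻¹) =
          (g ^ j) ^ (n + 1) * d * ((g ^ j) ^ (n + 1))⁻¹ * d⁻¹ by rw [pow_succ]; group] at this
    obtain ⟨n, hn⟩ : ∃ n : ℕ, ((j * n : ℕ) : ZMod p) = 1 := by
      have hj0 : (j : ZMod p) ≠ 0 := by
        rw [Ne, ZMod.natCast_eq_zero_iff]
        exact fun h => absurd (Nat.le_of_dvd hj h) (by omega)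
      exact ⟨((j : ZMod p)⁻¹).val, by simp [hj0]⟩
    have hg1 : (g ^ j) ^ n = g := by
      have h' : (j * n) % p = 1 % p :=
        (ZMod.natCast_eq_natCast_iff' _ _ _).1 (by rw [hn, Nat.cast_one])
      rw [Nat.mod_eq_of_lt hp.out.one_lt] at h'
      rw [← pow_mul, ← Nat.mod_add_div (j * n) p, h', pow_add, pow_mul, hgp, one_pow, mul_one, pow_one]
    have := hiter n
    rw [hg1] at this
    exact hfix d hd this
  -- the averaged vector
  let avg : V → V ⧸ U₁ := fun v => ∑ q : D ⧸ B.subgroupOf D, π (((q.out : D) : X) • v)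
  have hterm : ∀ j, 0 < j → j < p → ∀ v ∈ U₂,
      (∑ q : D ⧸ B.subgroupOf D, π (((q.out : D) : X) • (g ^ j • (((q.out : D) : X)⁻¹ • v)))) =
        avg (g ^ j • v) := by
    intro j hj hjp v hv
    let d : D ⧸ B.subgroupOf D → D := fun q =>
      ⟨((q.out : D) : X) * (g ^ j * ((q.out : D) : X)⁻¹ * (g ^ j)⁻¹),
        D.mul_mem q.out.2 (hpowD j _ (D.inv_mem q.out.2))⟩
    have hbij : Function.Bijective (fun q => (QuotientGroup.mk (d q) : D ⧸ B.subgroupOf D)) := by
      refine Finite.injective_iff_bijective.1 fun q r h => ?_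
      have hb := QuotientGroup.eq.1 h
      rw [Subgroup.mem_subgroupOf] at hb
      simp only [d, Subgroup.coe_mul, Subgroup.coe_inv, mul_inv_rev, inv_inv] at hb
      set a := ((q.out : D) : X) with ha'
      set b := ((r.out : D) : X) with hb'
      have hbm : b ∈ D := r.out.2
      have h2 := hBn _ (D.inv_mem (hpowD j _ hbm)) _ hb
      have h3 := hfixj j hj hjp (a⁻¹ * b)⁻¹ (D.inv_mem (D.mul_mem (D.inv_mem q.out.2) hbm)) (by
        convert h2 using 1
        group)
      rw [inv_mem_iff] at h3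
      rw [← QuotientGroup.out_eq' q, ← QuotientGroup.out_eq' r, QuotientGroup.eq,
        Subgroup.mem_subgroupOf]
      simpa using h3
    refine Fintype.sum_bijective _ hbij _ _ fun q => ?_
    rw [hout _ _ (hpow₂ j v hv)]
    refine congrArg π ?_
    simp only [d, ← mul_smul]
    group
  intro d hd v hv
  have hsum0 : ∀ u ∈ U₁, avg u = 0 := fun u hu => Finset.sum_eq_zero fun q _ =>
    (QuotientAddGroup.eq_zero_iff _).2 (hD₁ _ q.out.2 u hu)
  have hadd : ∀ (A : Finset ℕ) (f : ℕ → V), avg (∑ j ∈ A, f j) = ∑ j ∈ A, avg (f j) := by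
    intro A f
    simp only [avg, Finset.smul_sum, map_sum]
    exact Finset.sum_comm
  have hN : ∀ w ∈ U₂, Fintype.card (D ⧸ B.subgroupOf D) • π w = avg w := by
    intro w hw
    have hzero : ∑ j ∈ Finset.range p, ∑ q : D ⧸ B.subgroupOf D,
        π (((q.out : D) : X) • (g ^ j • (((q.out : D) : X)⁻¹ • w))) = 0 := by
      rw [Finset.sum_comm]
      refine Finset.sum_eq_zero fun q _ => ?_
      rw [← map_sum, ← Finset.smul_sum]
      exact (QuotientAddGroup.eq_zero_iff _).2
        (hD₁ _ q.out.2 _ (hsum _ (hD₂ _ (D.inv_mem q.out.2) w hw)))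
    obtain ⟨n, hn⟩ : ∃ n, p = n + 1 := ⟨p - 1, by have := hp.out.one_lt; omega⟩
    have hsucc : ∀ j ∈ Finset.range n, (∑ q : D ⧸ B.subgroupOf D,
        π (((q.out : D) : X) • (g ^ (j + 1) • (((q.out : D) : X)⁻¹ • w)))) = avg (g ^ (j + 1) • w) :=
      fun j hj => hterm (j + 1) (by omega) (by have := Finset.mem_range.1 hj; omega) w hw
    have h0 : (∑ q : D ⧸ B.subgroupOf D, π (((q.out : D) : X) • (g ^ 0 • (((q.out : D) : X)⁻¹ • w)))) =
        Fintype.card (D ⧸ B.subgroupOf D) • π w := by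
      simp only [pow_zero, one_smul, smul_inv_smul, Finset.sum_const, Finset.card_univ]
    have hall : avg (∑ j ∈ Finset.range p, g ^ j • w) = 0 := hsum0 _ (hsum w hw)
    rw [hadd] at hall
    rw [hn, Finset.sum_range_succ', Finset.sum_congr rfl hsucc, h0] at hzero
    rw [hn, Finset.sum_range_succ', pow_zero, one_smul] at hall
    rw [eq_comm, ← sub_eq_zero]
    calc avg w - Fintype.card (D ⧸ B.subgroupOf D) • π w
        = (∑ j ∈ Finset.range n, avg (g ^ (j + 1) • w) + avg w) -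
          (∑ j ∈ Finset.range n, avg (g ^ (j + 1) • w) +
            Fintype.card (D ⧸ B.subgroupOf D) • π w) := by abel
      _ = 0 := by rw [hall, hzero, sub_zero]
  have hshift : avg (d • v) = avg v := by
    let r : D ⧸ B.subgroupOf D → D ⧸ B.subgroupOf D := fun q => QuotientGroup.mk (q.out * ⟨d, hd⟩)
    have hbij : Function.Bijective r := by
      refine Finite.injective_iff_bijective.1 fun q q' h => ?_
      have hb := QuotientGroup.eq.1 h
      rw [Subgroup.mem_subgroupOf] at hb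
      simp only [Subgroup.coe_mul, Subgroup.coe_inv, mul_inv_rev] at hb
      have h2 := hBn d hd _ hb
      rw [← QuotientGroup.out_eq' q, ← QuotientGroup.out_eq' q', QuotientGroup.eq,
        Subgroup.mem_subgroupOf]
      simp only [Subgroup.coe_mul, Subgroup.coe_inv]
      convert h2 using 1
      group
    refine Fintype.sum_bijective r hbij _ _ fun q => ?_
    rw [hout _ _ hv, Subgroup.coe_mul, mul_smul]
  have hcast : ((Fintype.card (D ⧸ B.subgroupOf D) : ℕ) : ZMod p) ≠ 0 := by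
    rw [Ne, ZMod.natCast_eq_zero_iff, ← Nat.card_eq_fintype_card, ← Subgroup.index_eq_card]
    exact hcard
  have h1 : Fintype.card (D ⧸ B.subgroupOf D) • π (d • v - v) = 0 := by
    rw [map_sub, smul_sub, hN _ (hD₂ d hd v hv), hN v hv, hshift, sub_self]
  set N := Fintype.card (D ⧸ B.subgroupOf D) with hNdef
  have h3 : ((((N : ZMod p))⁻¹).val * N) % p = 1 % p :=
    (ZMod.natCast_eq_natCast_iff' _ _ _).1 (by simp [hcast])
  rw [Nat.mod_eq_of_lt hp.out.one_lt] at h3
  have h4 : (((N : ZMod p))⁻¹).val • (N • (d • v - v)) ∈ U₁ := by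
    refine nsmul_mem ?_ _
    rw [← map_nsmul] at h1
    exact (QuotientAddGroup.eq_zero_iff _).1 h1
  rw [← mul_smul, ← Nat.mod_add_div ((((N : ZMod p))⁻¹).val * N) p, h3, add_smul, one_smul,
    mul_comm p, mul_smul, hY, smul_zero, add_zero] at h4
  exact h4

end Cfsg.Agent.MaxClassLin
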