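import Mathlib

/-!
# A group with a uniserial module whose Sylow subgroup is of maximal class

The linear situation behind S5269.  `T` is a Sylow subgroup of `X`, `lev 0` a maximal subgroup
of `T` with the refinement `lev k`, and `x` outside `lev 0` acts on the module `V` as a single
Jordan block along `W`.  Elements of `lev k` move `W l` two layers deeper than `k + l`.  The weights of the normalizer of `T` satisfy the relation coming from
the embedding of `V` into a group of maximal class.  The theorem to be proved is that `lev 0`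
is normal in `X`.
-/

set_option autoImplicit false

namespace Cfsg.Agent.MaxClassLin

open scoped commutatorElement

/-- A uniserial module for a group with Sylow subgroup of maximal class. -/
structure Sys (p : ℕ) (X : Type*) [Group X] (V : Type*) [AddCommGroup V] [DistribMulAction X V] where
  /-- The dimension of the module. -/
  d : ℕ
  /-- The Sylow subgroup has order `p ^ i`. -/
  i : ℕ
  /-- The flag. -/
  W : ℕ → AddSubgroup V
  /-- The Sylow subgroup. -/
  T : Subgroup X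
  /-- The layers of the maximal subgroup `lev 0`. -/
  lev : ℕ → Subgroup X
  /-- The single block. -/
  x : X
  five_le : 5 ≤ p
  d_lt : d < p
  two_le : 2 ≤ i
  tors : ∀ v : V, p • v = 0
  faithful : ∀ g : X, (∀ v : V, g • v = v) → g = 1
  W_zero : W 0 = ⊤
  W_bot : ∀ l, d ≤ l → W l = ⊥
  W_anti : Antitone W
  W_index : ∀ l, l < d → (W (l + 1)).relIndex (W l) = p
  sylow : ∃ P : Sylow p X, (P : Subgroup X) = T
  stab : ∀ t ∈ T, ∀ l, ∀ v ∈ W l, t • v - v ∈ W (l + 1)
  lev_le : lev 0 ≤ T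
  lev_anti : Antitone lev
  lev_bot : ∀ k, i ≤ k + 1 → lev k = ⊥
  lev_index_zero : (lev 0).relIndex T = p
  lev_index : ∀ k, k + 1 < i → (lev (k + 1)).relIndex (lev k) = p
  lev_normal : ∀ k, T ≤ Subgroup.normalizer (lev k : Set X)
  x_mem : x ∈ T
  x_notMem : x ∉ lev 0
  x_exact : ∀ l, l + 2 ≤ d → ∀ v ∈ W l, x • v - v ∈ W (l + 2) → v ∈ W (l + 1)
  x_comm : ∀ k, ∀ a ∈ lev k, ⁅a, x⁆ ∈ lev (k + 1)
  x_comm_exact : ∀ k, k + 2 < i → ∀ a ∈ lev k, ⁅a, x⁆ ∈ lev (k + 2) → a ∈ lev (k + 1)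
  shift : ∀ k, ∀ a ∈ lev k, ∀ l, ∀ v ∈ W l, a • v - v ∈ W (l + k + 2)
  comm : ∀ j k, ∀ a ∈ lev j, ∀ b ∈ lev k, ⁅a, b⁆ ∈ lev (j + k + 2)
  weights : ∀ h ∈ Subgroup.normalizer (T : Set X), ∃ α β : ℕ,
    h * x * h⁻¹ * (x ^ α)⁻¹ ∈ lev 0 ∧
    (∀ k, ∀ a ∈ lev k, h * a * h⁻¹ * (a ^ (β * α ^ k))⁻¹ ∈ lev (k + 1)) ∧
    ∀ v : V, h • v - (β * α ^ (i - 1)) • v ∈ W 1

end Cfsg.Agent.MaxClassLin
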