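import Cfsg.Agent.Lib.MaxClassLin.Weights
import Cfsg.Agent.Lib.SpeTrace.Forms

/-!
# Invariant layers by the relative trace

If the elements of `C ⊓ M` act on the layer `l` by scalars whose `e`-th powers are `1`, `Q` is trivial
on `W l / W r` and the shifts from `Q` to `P` exceed the range, then `C` fixes `W (l + 1)`.
-/

set_option autoImplicit false
set_option linter.unusedSectionVars false
set_option linter.style.haveILetI false

namespace Cfsg.Agent.MaxClassLin

variable {X : Type*} [Group X] {V : Type*} [AddCommGroup V] [DistribMulAction X V]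

/-- A section of the module, as a module for the subgroups fixing it. -/
abbrev Sect (U₂ U₁ : AddSubgroup V) := ↥U₂ ⧸ U₁.addSubgroupOf U₂

/-- The action of `g` on the upper term of a section. -/
def sectMap {C : Subgroup X} {U₂ : AddSubgroup V} (h₂ : ∀ g ∈ C, ∀ v ∈ U₂, g • v ∈ U₂) (g : C) :
    ↥U₂ →+ ↥U₂ where
  toFun v := ⟨(g : X) • (v : V), h₂ g g.2 v v.2⟩
  map_zero' := Subtype.ext (smul_zero _)
  map_add' a b := Subtype.ext (smul_add _ _ _)

/-- The action on a section. -/
@[reducible]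
def sectAction {C : Subgroup X} {U₂ U₁ : AddSubgroup V} (h₂ : ∀ g ∈ C, ∀ v ∈ U₂, g • v ∈ U₂)
    (h₁ : ∀ g ∈ C, ∀ v ∈ U₁, g • v ∈ U₁) : DistribMulAction C (Sect U₂ U₁) where
  smul g := QuotientAddGroup.map _ _ (sectMap h₂ g) fun v hv => h₁ g g.2 _ hv
  one_smul w := by
    induction w using QuotientAddGroup.induction_on with
    | H v => exact congrArg QuotientAddGroup.mk (Subtype.ext (one_smul X (v : V)))
  mul_smul g h w := by
    induction w using QuotientAddGroup.induction_on with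
    | H v => exact congrArg QuotientAddGroup.mk (Subtype.ext (mul_smul (g : X) h (v : V)))
  smul_zero g := map_zero _
  smul_add g := map_add _

namespace Sys

variable {p : ℕ} [hp : Fact p.Prime] (S : Sys p X V)

/-- A functional on a layer. -/
theorem exists_layer_functional {l : ℕ} (hl : l < S.d) :
    ∃ φ : ↥(S.W l) →+ ZMod p, ∀ v, φ v = 0 ↔ (v : V) ∈ S.W (l + 1) := by
  classical
  obtain ⟨e, he, he1⟩ := S.exists_exact hl
  have hex : ∀ v : ↥(S.W l), ∃ c : ZMod p, (v : V) - c.val • e ∈ S.W (l + 1) := fun v => by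
    obtain ⟨c, hc⟩ := S.exists_nsmul he he1 v.2
    exact ⟨c, by rw [S.val_smul]; exact hc⟩
  choose f hf using hex
  have huniq : ∀ (a b : ZMod p), a.val • e - b.val • e ∈ S.W (l + 1) → a = b := by
    intro a b hab
    have h2 : ((a - b).val) • e = a.val • e - b.val • e := by
      rw [eq_sub_iff_add_eq, ← add_smul]
      exact S.nsmul_eq (by simp) e
    have := S.cast_eq_zero he he1 (h2 ▸ hab)
    rwa [ZMod.natCast_val, ZMod.cast_id, sub_eq_zero] at this
  refine ⟨AddMonoidHom.mk' f fun a b => ?_, fun v => ?_⟩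
  · refine huniq _ _ ?_
    have h1 := sub_mem (add_mem (hf a) (hf b)) (hf (a + b))
    have h2 : ((f a).val + (f b).val) • e = (f a + f b).val • e := S.nsmul_eq (by simp) e
    rw [add_smul] at h2
    rw [← h2]
    have h3 := h1
    refine cast ?_ h3
    congr 1
    rw [AddSubgroup.coe_add]
    abel
  · show f v = 0 ↔ _
    constructor
    · intro h
      have := hf v
      rwa [h, ZMod.val_zero, zero_smul, sub_zero] at this
    · intro h
      refine (huniq 0 (f v) ?_).symm
      have := sub_mem (hf v) h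
      rw [ZMod.val_zero, zero_smul, zero_sub]
      rwa [sub_sub_cancel_left] at this

variable [Finite X]

/-- The next layer is invariant by the relative trace. -/
theorem layer_invariant {C M Q P : Subgroup X} {l r e : ℕ} (hl : l + 1 ≤ r) (hr : r ≤ S.d)
    (he : 0 < e) (hCl : ∀ g ∈ C, ∀ v ∈ S.W l, g • v ∈ S.W l)
    (hCr : ∀ g ∈ C, ∀ v ∈ S.W r, g • v ∈ S.W r)
    (hQn : ∀ g ∈ C, ∀ q ∈ Q, g⁻¹ * q * g ∈ Q) (hQP : Q ≤ P) (hPM : P ≤ M) (hPC : P ≤ C)
    (hTI : ∀ g ∈ C, g ∉ M → ∀ t ∈ P, g⁻¹ * t * g ∈ M → t ∈ Q)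
    (hM : ∀ m ∈ C, m ∈ M → ∃ c : ZMod p, S.Scal m l c ∧ c ^ e = 1)
    (n : ℕ) (Cc : ℕ → Subgroup X) (t : ℕ → X) (s : ℕ → ℕ) (h0 : Cc 0 = Q) (hn : Cc n = P)
    (hchain : ∀ k < n, Cc k ≤ Cc (k + 1) ∧ t k ∈ Cc (k + 1) ∧
      (Cc k).relIndex (Cc (k + 1)) = p ∧ (∀ j, 0 < j → j < p → t k ^ j ∉ Cc k) ∧
      ∀ m, ∀ v ∈ S.W m, t k • v - v ∈ S.W (m + s k))
    (hlt : e * (r - l - 1) < (p - 1) * ∑ k ∈ Finset.range n, s k) :
    ∀ g ∈ C, ∀ v ∈ S.W (l + 1), g • v ∈ S.W (l + 1) := by
  classical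
  haveI : Fact (1 < p) := ⟨hp.out.one_lt⟩
  letI act := sectAction (U₂ := S.W l) (U₁ := S.W r) hCl hCr
  -- the induced flag on the section
  let F : ℕ → AddSubgroup (Sect (S.W l) (S.W r)) := fun a =>
    ((S.W (l + a)).addSubgroupOf (S.W l)).map (QuotientAddGroup.mk' _)
  have hF0 : F 0 = ⊤ := by
    refine eq_top_iff.2 fun w _ => ?_
    induction w using QuotientAddGroup.induction_on with
    | H v => exact ⟨v, v.2, rfl⟩
  have hFbot : ∀ a, r - l ≤ a → F a = ⊥ := by
    intro a ha
    refine le_bot_iff.1 ?_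
    rintro _ ⟨v, hv, rfl⟩
    exact (QuotientAddGroup.eq_zero_iff _).2 (S.W_anti (show r ≤ l + a by omega) hv)
  have hFanti : Antitone F := fun a b hab =>
    AddSubgroup.map_mono fun v hv => S.W_anti (show l + a ≤ l + b by omega) hv
  -- the functional
  obtain ⟨φ₀, hφ₀⟩ := S.exists_layer_functional (l := l) (by omega)
  let φ : Sect (S.W l) (S.W r) →+ ZMod p := QuotientAddGroup.lift _ φ₀ fun v hv =>
    (hφ₀ v).2 (S.W_anti hl hv)
  let y : SpeTrace.Form p (fun _ : Fin e => Sect (S.W l) (S.W r)) :=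
    { toFun := fun v => ∏ j, φ (v j)
      map_update_add' := by
        intro _ v j a b
        simp only [← Finset.mul_prod_erase Finset.univ _ (Finset.mem_univ j), Function.update_self]
        have hne : ∀ (c : Sect (S.W l) (S.W r)),
            ∏ i ∈ Finset.univ.erase j, φ (Function.update v j c i) = ∏ i ∈ Finset.univ.erase j, φ (v i) :=
          fun c => Finset.prod_congr rfl fun i hi => by
            rw [Function.update_of_ne (Finset.mem_erase.1 hi).1]
        rw [hne, hne, hne, map_add, add_mul] }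
  have hy : ∀ m ∈ M.subgroupOf C, m • y = y := by
    intro m hm
    obtain ⟨c, hc, hce⟩ := hM ((m⁻¹ : C) : X) (m⁻¹).2 (Subgroup.mem_subgroupOf.1 (inv_mem hm))
    refine SpeTrace.Form.ext fun v => ?_
    rw [SpeTrace.Form.smul_apply]
    show ∏ j, φ (m⁻¹ • v j) = ∏ j, φ (v j)
    have hone : ∀ w, φ (m⁻¹ • w) = c * φ w := by
      intro w
      induction w using QuotientAddGroup.induction_on with
      | H u =>
        show φ₀ (sectMap hCl m⁻¹ u) = c * φ₀ u
        have h1 : φ₀ (sectMap hCl m⁻¹ u - c.val • u) = 0 := (hφ₀ _).2 (hc u u.2)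
        rw [map_sub, map_nsmul, sub_eq_zero] at h1
        rw [h1, nsmul_eq_mul, ZMod.natCast_val, ZMod.cast_id]
    simp only [hone, Finset.prod_mul_distrib, Finset.prod_const, Finset.card_univ, Fintype.card_fin,
      hce, one_mul]
  have hkey := SpeTrace.rel_fixed (⊤ : Subgroup C) (M.subgroupOf C) (P.subgroupOf C) (Q.subgroupOf C)
    (fun g _ q hq => hQn g g.2 q hq) (fun q hq => hQP hq) (fun q hq => hPM hq) le_top
    (fun g _ hg u hu hug => hTI g g.2 (fun h => hg h) u hu hug) y hy ?_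
  · intro g hg v hv
    have hvl : v ∈ S.W l := S.W_succ_le l hv
    have h1 := congrArg (fun f : SpeTrace.Form p (fun _ : Fin e => Sect (S.W l) (S.W r)) =>
      f fun _ => (QuotientAddGroup.mk ⟨v, hvl⟩)) (hkey (⟨g, hg⟩ : C)⁻¹ (Subgroup.mem_top _))
    simp only [SpeTrace.Form.smul_apply, inv_inv] at h1
    change ∏ _j : Fin e, φ₀ (sectMap hCl ⟨g, hg⟩ ⟨v, hvl⟩) = ∏ _j : Fin e, φ₀ ⟨v, hvl⟩ at h1
    rw [Finset.prod_const, Finset.prod_const, Finset.card_univ, Fintype.card_fin,
      (hφ₀ ⟨v, hvl⟩).2 hv, zero_pow he.ne'] at h1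
    exact (hφ₀ _).1 (eq_zero_of_pow_eq_zero h1)
  · intro z hz
    by_contra hne
    have hCC : ∀ k ≤ n, Cc k ≤ C := by
      have hmono : ∀ k m, k + m = n → Cc k ≤ Cc n := by
        intro k m
        induction m generalizing k with
        | zero => intro h; rw [show k = n by omega]
        | succ m ih => intro h; exact (hchain k (by omega)).1.trans (ih (k + 1) (by omega))
      exact fun k hk => (hmono k (n - k) (by omega)).trans (hn ▸ hPC)
    let t' : ℕ → C := fun k => if hk : k < n then ⟨t k, hCC (k + 1) hk (hchain k hk).2.1⟩ else 1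
    have ht' : ∀ k, k < n → ((t' k : C) : X) = t k := fun k hk => by simp [t', hk]
    refine hne ?_
    have h := SpeTrace.Form.relSum_eq_zero (X := C) (V := fun _ : Fin e => Sect (S.W l) (S.W r))
      (W := fun _ => F) (d := fun _ => r - l) (fun _ a ha => hFbot a ha) (fun _ => hF0) (fun _ => hFanti)
      (fun k => (Cc k).subgroupOf C) t' s n (fun k hk => ?_) ?_ z (by simpa [h0] using hz)
    · simpa [h0, hn] using h
    · obtain ⟨c1, c2, c3, c4, c5⟩ := hchain k hk
      refine ⟨fun u hu => c1 hu, ?_, ?_, fun j hj hjp hu => c4 j hj hjp ?_, fun _ a w hw => ?_⟩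
      · rw [Subgroup.mem_subgroupOf, ht' k hk]; exact c2
      · rw [Subgroup.relIndex_subgroupOf (hCC (k + 1) hk)]; exact c3
      · rw [Subgroup.mem_subgroupOf, SubmonoidClass.coe_pow, ht' k hk] at hu; exact hu
      · obtain ⟨u, hu, rfl⟩ := hw
        refine ⟨sectMap hCl (t' k) u - u, ?_, rfl⟩
        have := c5 (l + a) u hu
        rw [← ht' k hk, Nat.add_assoc] at this
        exact this
    · simpa using hlt

end Sys

end Cfsg.Agent.MaxClassLin
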