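import Cfsg.Agent.Lib.MaxClassLin.LocCentral
import Cfsg.Agent.Lib.MaxClassLin.Section

/-!
# Descent over the intersections of Sylow subgroups

A group between `T` and `X` normalizes `T` as soon as this holds for the normalizers of the
maximal proper intersections `D` of `T` with its conjugates.  Modulo such a `D` the relative
trace from the normalizer of `T` applies, so small weights give an invariant flag.
-/

set_option autoImplicit false
set_option linter.unusedSectionVars false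
set_option linter.style.haveILetI false

namespace Cfsg.Agent.MaxClassLin

open scoped commutatorElement

variable {p : ℕ} [hp : Fact p.Prime] {X : Type*} [Group X] [Finite X] {V : Type*} [AddCommGroup V]
  [DistribMulAction X V]

namespace Sys

variable (S : Sys p X V)

/-- What the descent gives for an intersection `D`. -/
structure TIHyp (G D : Subgroup X) : Prop where
  le : D ≤ S.T
  ne : D ≠ S.T
  witness : ∃ g ∈ G, g ∉ Subgroup.normalizer (S.T : Set X) ∧ ∀ a, a ∈ D ↔ a ∈ S.T ∧ g⁻¹ * a * g ∈ S.T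
  ti : ∀ g ∈ G ⊓ Subgroup.normalizer (D : Set X), g ∉ Subgroup.normalizer (S.T : Set X) →
    ∀ t ∈ S.T, g⁻¹ * t * g ∈ Subgroup.normalizer (S.T : Set X) → t ∈ D

theorem pow_p {t : X} (ht : t ∈ S.T) : t ^ p = 1 := S.pow_p_eq_one (S.unip_eq.symm ▸ ht)

/-- A `p`-element normalizing `T`, in the image of `T` under a conjugation, lies in `T`. -/
theorem conj_mem_T {g t : X} (ht : t ∈ S.T) (h : g * t * g⁻¹ ∈ Subgroup.normalizer (S.T : Set X)) :
    g * t * g⁻¹ ∈ S.T :=
  S.mem_T_of_pow h (by rw [conj_pow, S.pow_p ht]; group)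

/-- A group normalizing a subgroup of the normalizer of `T` containing `T` normalizes `T`. -/
theorem le_normalizer_T_of_normal {G C : Subgroup X} (hT : S.T ≤ C)
    (hC : C ≤ Subgroup.normalizer (S.T : Set X)) (hG : ∀ g ∈ G, ∀ c ∈ C, g * c * g⁻¹ ∈ C) :
    G ≤ Subgroup.normalizer (S.T : Set X) := fun g hg =>
  Subgroup.mem_normalizer_fintype fun t ht => S.conj_mem_T ht (hC (hG g hg t (hT ht)))

/-- Descent over the maximal intersections. -/
theorem le_normalizer_T_of_descent {G : Subgroup X} (hG : S.T ≤ G)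
    (h : ∀ D, S.TIHyp G D →
      G ⊓ Subgroup.normalizer (D : Set X) ≤ Subgroup.normalizer (S.T : Set X)) :
    G ≤ Subgroup.normalizer (S.T : Set X) := by
  classical
  by_contra hne
  let I : X → Subgroup X := fun g => S.T ⊓ S.T.comap (MulAut.conj g⁻¹).toMonoidHom
  have hI : ∀ g a, a ∈ I g ↔ a ∈ S.T ∧ g⁻¹ * a * g ∈ S.T := fun g a => by
    simp [I]
  have hne' : {g | g ∈ G ∧ g ∉ Subgroup.normalizer (S.T : Set X)}.Nonempty :=
    Set.not_subset.1 hne
  obtain ⟨g, ⟨hgG, hgN⟩, hmax⟩ :=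
    Set.exists_max_image _ (fun g => Nat.card (I g)) (Set.toFinite _) hne'
  set D := I g with hD
  have hDT : D ≠ S.T := by
    intro e
    have h1 : g⁻¹ ∈ Subgroup.normalizer (S.T : Set X) :=
      Subgroup.mem_normalizer_fintype fun t ht => by
        rw [inv_inv]; exact ((hI g t).1 (show t ∈ D by rw [e]; exact ht)).2
    exact hgN (by simpa using inv_mem h1)
  have hTI : S.TIHyp G D := by
    refine ⟨inf_le_left, hDT, ⟨g, hgG, hgN, hI g⟩, fun u hu huN t ht htu => ?_⟩
    have hu' : u⁻¹ * t * u ∈ S.T := by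
      have := S.conj_mem_T (g := u⁻¹) ht (by rwa [inv_inv])
      rwa [inv_inv] at this
    have hle : D ≤ I u := fun a ha => by
      refine (hI u a).2 ⟨((hI g a).1 ha).1, ((hI g _).1 ?_).1⟩
      have := (Subgroup.mem_normalizer_iff.1 (inv_mem hu.2) a).1 ha
      rwa [inv_inv] at this
    have := Subgroup.eq_of_le_of_card_ge hle (hmax u ⟨hu.1, huN⟩)
    rw [this]
    exact (hI u t).2 ⟨ht, hu'⟩
  -- the conjugate Sylow subgroup grows over `D` outside the normalizer of `T`
  set T' := S.T.comap (MulAut.conj g⁻¹).toMonoidHom with hT'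
  have hT'mem : ∀ a, a ∈ T' ↔ g⁻¹ * a * g ∈ S.T := fun a => by simp [T']
  have hDle : D ≤ T' := inf_le_right
  have hlt : D.subgroupOf T' < ⊤ := by
    refine lt_top_iff_ne_top.2 fun e => hDT (le_antisymm inf_le_left fun t ht => ?_)
    rw [Subgroup.subgroupOf_eq_top] at e
    have hsub : ∀ b ∈ S.T, g * b * g⁻¹ ∈ S.T := fun b hb =>
      ((hI g _).1 (e ((hT'mem _).2 (by simpa [mul_assoc] using hb)))).1
    have hgn : g ∈ Subgroup.normalizer (S.T : Set X) := Subgroup.mem_normalizer_fintype hsub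
    exact absurd hgn hgN
  have hpT' : IsPGroup p T' := S.isPGroup_T.comap_of_injective _ (MulAut.conj g⁻¹).injective
  haveI := hpT'.isNilpotent
  obtain ⟨u, hu, hu1⟩ := SetLike.exists_of_lt
    (Group.normalizerCondition_of_isNilpotent (D.subgroupOf T') hlt)
  have huD : (u : X) ∈ Subgroup.normalizer (D : Set X) := by
    refine Subgroup.mem_normalizer_fintype fun a ha => ?_
    exact (Subgroup.mem_normalizer_iff.1 hu ⟨a, hDle ha⟩).1 ha
  have huG : (u : X) ∈ G := by
    have := G.mul_mem (G.mul_mem hgG (hG ((hT'mem _).1 u.2))) (G.inv_mem hgG)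
    simpa [mul_assoc] using this
  have hmem := h D hTI ⟨huG, huD⟩
  have hup : (u : X) ^ p = 1 := by
    have h2 := S.pow_p ((hT'mem _).1 u.2)
    rw [show g⁻¹ * (u : X) * g = g⁻¹ * (u : X) * (g⁻¹)⁻¹ by group, conj_pow] at h2
    exact conj_eq_one_iff.1 h2
  exact hu1 ((hI g _).2 ⟨S.mem_T_of_pow hmem hup, (hT'mem _).1 u.2⟩)

/-- One step of a chain. -/
theorem relIndex_sup_zpowers {D : Subgroup X} {u : X} (hu : u ^ p = 1) (huD : u ∉ D)
    (hn : u ∈ Subgroup.normalizer (D : Set X)) :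
    D.relIndex (D ⊔ Subgroup.zpowers u) = p ∧ ∀ j, 0 < j → j < p → u ^ j ∉ D := by
  have hpow : ∀ j, 0 < j → j < p → u ^ j ∉ D := by
    intro j hj hjp hmem
    have hcop : Nat.gcd j p = 1 := (Nat.coprime_of_lt_prime hj.ne' hjp hp.out).symm.gcd_eq_one
    have hpD : u ^ p ∈ D := by rw [hu]; exact one_mem D
    have := hcop ▸ (show u ^ Nat.gcd j p ∈ D by
      rw [← zpow_natCast, Nat.gcd_eq_gcd_ab, zpow_add, zpow_mul, zpow_mul, zpow_natCast, zpow_natCast]
      exact mul_mem (zpow_mem hmem _) (zpow_mem hpD _))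
    exact huD (by simpa using this)
  refine ⟨?_, hpow⟩
  have hle : D ⊔ Subgroup.zpowers u ≤ Subgroup.normalizer (D : Set X) :=
    sup_le Subgroup.le_normalizer (Subgroup.zpowers_le.2 hn)
  have hbot : D ⊓ Subgroup.zpowers u = ⊥ := by
    refine eq_bot_iff.2 fun a ha => ?_
    obtain ⟨j, rfl⟩ := (IsOfFinOrder.mem_powers_iff_mem_zpowers (isOfFinOrder_of_finite u)).mpr ha.2
    have hj : u ^ j = u ^ (j % p) := by
      conv_lhs => rw [← Nat.mod_add_div j p, pow_add, pow_mul, hu, one_pow, mul_one]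
    rcases Nat.eq_zero_or_pos (j % p) with h0 | h0
    · simp [hj, h0]
    · exact absurd (show u ^ (j % p) ∈ D from hj ▸ ha.1) (hpow _ h0 (Nat.mod_lt _ hp.out.pos))
  set N := Subgroup.normalizer (D : Set X) with hN
  have hDN : D ≤ N := Subgroup.le_normalizer
  have hZN : Subgroup.zpowers u ≤ N := Subgroup.zpowers_le.2 hn
  haveI : (D.subgroupOf N).Normal := Subgroup.normal_in_normalizer
  have hs : D.subgroupOf N ⊔ (Subgroup.zpowers u).subgroupOf N =
      (D ⊔ Subgroup.zpowers u).subgroupOf N := (Subgroup.subgroupOf_sup hDN hZN).symm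
  rw [← Subgroup.relIndex_subgroupOf hle, ← hs, sup_comm, Subgroup.relIndex_sup_right,
    Subgroup.relIndex_subgroupOf hZN, ← Subgroup.inf_relIndex_right, hbot,
    Subgroup.relIndex_bot_left, Nat.card_zpowers,
    orderOf_eq_prime hu fun e => huD (e ▸ one_mem D)]

/-- The step from an intersection: small weights and one element above `D` give the flag. -/
theorem inf_normalizer_le {G D : Subgroup X} (hG : S.T ≤ G) (hD : S.TIHyp G D) {u : X}
    (hu : u ∈ S.T) (huD : u ∉ D) (hun : u ∈ Subgroup.normalizer (D : Set X)) {s e : ℕ} (he : 0 < e)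
    (hs : ∀ l, ∀ v ∈ S.W l, u • v - v ∈ S.W (l + s))
    (hw : ∀ m ∈ G, m ∈ Subgroup.normalizer (S.T : Set X) → S.wtX m ^ e = 1)
    (hr : ∀ l, l + 1 < S.d → ∃ r, l + 1 ≤ r ∧ r ≤ S.d ∧
      (∀ g ∈ G, ∀ v ∈ S.W r, g • v ∈ S.W r) ∧ e * (r - l - 1) < (p - 1) * s) :
    G ⊓ Subgroup.normalizer (D : Set X) ≤ Subgroup.normalizer (S.T : Set X) := by
  set H := G ⊓ Subgroup.normalizer (D : Set X) with hH
  obtain ⟨hidx, hpow⟩ := relIndex_sup_zpowers (S.pow_p hu) huD hun
  have hPT : D ⊔ Subgroup.zpowers u ≤ S.T := sup_le hD.le (Subgroup.zpowers_le.2 hu)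
  have hPH : D ⊔ Subgroup.zpowers u ≤ H :=
    le_inf (hPT.trans hG) (sup_le Subgroup.le_normalizer (Subgroup.zpowers_le.2 hun))
  suffices hinv : ∀ l, ∀ g ∈ H, ∀ v ∈ S.W l, g • v ∈ S.W l from fun g hg =>
    S.mem_normalizer_of_flag (fun l => hinv l g hg) fun l => hinv l g⁻¹ (inv_mem hg)
  intro l
  induction l with
  | zero => intro g _ v _; rw [S.W_zero]; exact AddSubgroup.mem_top _
  | succ l ih =>
    rcases le_or_gt S.d (l + 1) with hl | hl
    · intro g _ v hv
      rw [S.W_bot _ hl, AddSubgroup.mem_bot] at hv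
      rw [hv, smul_zero]
      exact zero_mem _
    obtain ⟨r, hlr, hrd, hinv, hlt⟩ := hr l hl
    refine S.layer_invariant (C := H) (M := Subgroup.normalizer (S.T : Set X)) (Q := D)
      (P := D ⊔ Subgroup.zpowers u) hlr hrd he ih (fun g hg => hinv g hg.1)
      (fun g hg q hq => by
        have := (Subgroup.mem_normalizer_iff.1 (inv_mem hg.2) q).1 hq
        rwa [inv_inv] at this)
      le_sup_left (hPT.trans Subgroup.le_normalizer) hPH
      (fun g hg hgN t ht htg => hD.ti g hg hgN t (hPT ht) htg) ?_ 1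
      (fun k => if k = 0 then D else D ⊔ Subgroup.zpowers u) (fun _ => u) (fun _ => s) rfl rfl ?_ ?_
    · intro m hm hmN
      refine ⟨((S.wt ⟨m, hmN⟩ ^ (S.L + 1 + l) : (ZMod p)ˣ) : ZMod p), S.wt_scal ⟨m, hmN⟩ l, ?_⟩
      rw [← Units.val_pow_eq_pow_val, ← pow_mul, mul_comm, pow_mul, ← S.wtX_eq hmN,
        hw m hm.1 hmN, one_pow, Units.val_one]
    · intro k hk
      obtain rfl : k = 0 := by omega
      exact ⟨by simp, Subgroup.mem_sup_right (Subgroup.mem_zpowers u), by simpa using hidx,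
        by simpa using hpow, hs⟩
    · simpa using hlt

/-- A group with trivial weights normalizes `T`. -/
theorem le_normalizer_T_of_trivial {G : Subgroup X} (hG : S.T ≤ G)
    (hw : ∀ m ∈ G, m ∈ Subgroup.normalizer (S.T : Set X) → S.wtX m = 1) :
    G ≤ Subgroup.normalizer (S.T : Set X) := by
  refine S.le_normalizer_T_of_descent hG fun D hD => ?_
  have hlt : D.subgroupOf S.T < ⊤ := lt_top_iff_ne_top.2 fun e =>
    hD.ne (le_antisymm hD.le (Subgroup.subgroupOf_eq_top.1 e))
  haveI := S.isPGroup_T.isNilpotent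
  obtain ⟨u, hu, hu1⟩ := SetLike.exists_of_lt
    (Group.normalizerCondition_of_isNilpotent (D.subgroupOf S.T) hlt)
  have hun : (u : X) ∈ Subgroup.normalizer (D : Set X) :=
    Subgroup.mem_normalizer_fintype fun a ha =>
      (Subgroup.mem_normalizer_iff.1 hu ⟨a, hD.le ha⟩).1 ha
  refine S.inf_normalizer_le hG hD u.2 hu1 hun (s := 1) (e := 1) one_pos
    (fun l v hv => S.stab _ u.2 l v hv) (fun m hm hmN => by rw [hw m hm hmN, one_pow])
    fun l hl => ⟨S.d, by omega, le_rfl, fun g _ v hv => by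
      rw [S.W_bot _ le_rfl, AddSubgroup.mem_bot] at hv ⊢
      rw [hv, smul_zero], ?_⟩
  have := S.d_lt
  omega

end Sys

end Cfsg.Agent.MaxClassLin
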