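import Cfsg.Agent.Lib.MaxClassLin.Basic

/-!
# Normalizers of subgroups of the Sylow subgroup

The maximal subgroup `lev 0` is weakly closed, subgroups with an element outside it have
normalizers fixing the flag, and the two basic shifts `mt` (of `lev 0`) and `L` (of the last
layer of `lev 0`) are defined.
-/

set_option autoImplicit false
set_option linter.unusedSectionVars false
set_option linter.style.haveILetI false

namespace Cfsg.Agent.MaxClassLin

open scoped commutatorElement

variable {p : ℕ} [hp : Fact p.Prime] {X : Type*} [Group X] {V : Type*} [AddCommGroup V]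
  [DistribMulAction X V]

namespace Sys

variable (S : Sys p X V)

/-- An element of `T` moving some layer by two lies in `lev 0`. -/
theorem mem_lev_zero_of_shift {t : X} (ht : t ∈ S.T) {l : ℕ} (hl : l + 2 ≤ S.d)
    (h : ∀ v ∈ S.W l, t • v - v ∈ S.W (l + 2)) : t ∈ S.lev 0 := by
  let H : Subgroup X :=
    { carrier := {g | g ∈ S.T ∧ ∀ v ∈ S.W l, g • v - v ∈ S.W (l + 2)}
      one_mem' := ⟨one_mem _, fun v _ => by simp⟩
      mul_mem' := fun {a b} ha hb => ⟨mul_mem ha.1 hb.1, fun v hv => by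
        have := add_mem (ha.2 _ (S.smul_mem_W hb.1 hv)) (hb.2 v hv)
        rwa [sub_add_sub_cancel, ← mul_smul] at this⟩
      inv_mem' := fun {a} ha => ⟨inv_mem ha.1, fun v hv => by
        have := neg_mem (ha.2 _ (S.smul_mem_W (inv_mem ha.1) hv))
        rwa [smul_inv_smul, neg_sub] at this⟩ }
  have hle : H ≤ S.T := fun g hg => hg.1
  have hlev : S.lev 0 ≤ H := fun a ha => ⟨S.lev_le ha, fun v hv => by
    have := S.shift 0 a ha l v hv
    simpa using this⟩
  have h2 := Subgroup.relIndex_mul_relIndex (S.lev 0) H S.T hlev hle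
  rw [S.lev_index_zero] at h2
  rcases hp.out.eq_one_or_self_of_dvd _ (Dvd.intro _ h2) with h1 | h1
  · exact Subgroup.relIndex_eq_one.1 h1 ⟨ht, h⟩
  · rw [h1] at h2
    have h3 := mul_left_cancel₀ hp.out.ne_zero (h2.trans (mul_one p).symm)
    obtain ⟨e, he, he1⟩ := S.exists_exact (l := l) (by omega)
    exact absurd ((Subgroup.relIndex_eq_one.1 h3 S.x_mem).2 e he) (S.x_moves hl he he1).2

/-- A subgroup with exact elements in all layers from `l` on contains the layer. -/
theorem W_le_of_exact {U : AddSubgroup V} {l : ℕ}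
    (h : ∀ m, l ≤ m → m < S.d → ∃ u ∈ U, u ∈ S.W m ∧ u ∉ S.W (m + 1)) : S.W l ≤ U := by
  suffices H : ∀ (n m : ℕ), l ≤ m → S.d ≤ m + n → S.W m ≤ U from H S.d l le_rfl (by omega)
  intro n
  induction n with
  | zero => intro m _ hm; rw [S.W_bot m (by omega)]; exact bot_le
  | succ n ih =>
    intro m hlm hm v hv
    rcases lt_or_ge m S.d with hmd | hmd
    · obtain ⟨u, hu, hu1, hu2⟩ := h m hlm hmd
      obtain ⟨c, hc⟩ := S.exists_nsmul hu1 hu2 hv
      have := add_mem (ih (m + 1) (by omega) (by omega) hc) (nsmul_mem hu c)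
      rwa [sub_add_cancel] at this
    · rw [S.W_bot m hmd, AddSubgroup.mem_bot] at hv
      exact hv ▸ zero_mem U

theorem le_of_W_le {l m : ℕ} (hm : m ≤ S.d) (h : S.W l ≤ S.W m) : m ≤ l := by
  by_contra hc
  obtain ⟨e, he, he1⟩ := S.exists_exact (l := l) (by omega)
  exact he1 (S.W_anti (show l + 1 ≤ m by omega) (h he))

theorem W_inj {l m : ℕ} (hl : l ≤ S.d) (hm : m ≤ S.d) (h : S.W l = S.W m) : l = m :=
  le_antisymm (S.le_of_W_le hl h.ge) (S.le_of_W_le hm h.le)

/-- The subgroup spanned by the differences of a subgroup on the module. -/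
def dsp (_ : Sys p X V) (H : Subgroup X) : AddSubgroup V :=
  AddSubgroup.closure {u | ∃ h ∈ H, ∃ v : V, u = h • v - v}

theorem mem_dsp {H : Subgroup X} {h : X} (hh : h ∈ H) (v : V) : h • v - v ∈ S.dsp H :=
  AddSubgroup.subset_closure ⟨h, hh, v, rfl⟩

theorem dsp_le {H : Subgroup X} {U : AddSubgroup V} (h : ∀ g ∈ H, ∀ v, g • v - v ∈ U) :
    S.dsp H ≤ U := (AddSubgroup.closure_le U).2 fun _ ⟨g, hg, v, e⟩ => e ▸ h g hg v

theorem smul_mem_dsp {H : Subgroup X} {g : X} (hg : ∀ h ∈ H, g * h * g⁻¹ ∈ H) {u : V}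
    (hu : u ∈ S.dsp H) : g • u ∈ S.dsp H := by
  induction hu using AddSubgroup.closure_induction with
  | mem u hu =>
    obtain ⟨h, hh, v, rfl⟩ := hu
    rw [show g • (h • v - v) = (g * h * g⁻¹) • (g • v) - g • v by
      rw [smul_sub, ← mul_smul, ← mul_smul]; group]
    exact S.mem_dsp (hg h hh) _
  | zero => rw [smul_zero]; exact zero_mem _
  | add _ _ _ _ h1 h2 => rw [smul_add]; exact add_mem h1 h2
  | neg _ _ h1 => rw [smul_neg]; exact neg_mem h1

theorem conj_lev_mem {h : X} (hh : h ∈ Subgroup.normalizer (S.T : Set X)) {k : ℕ} {a : X}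
    (ha : a ∈ S.lev k) : h * a * h⁻¹ ∈ S.lev k := by
  obtain ⟨α, β, -, h2, -⟩ := S.weights h hh
  have := mul_mem (S.lev_anti (Nat.le_succ k) (h2 k a ha)) (pow_mem ha (β * α ^ k))
  rwa [inv_mul_cancel_right] at this

theorem normalizer_T_le_lev (k : ℕ) :
    Subgroup.normalizer (S.T : Set X) ≤ Subgroup.normalizer (S.lev k : Set X) := fun h hh =>
  Subgroup.mem_normalizer_iff.2 fun a => ⟨S.conj_lev_mem hh, fun ha => by
    have := S.conj_lev_mem (inv_mem hh) ha
    simpa [mul_assoc] using this⟩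

theorem T_le_normalizer (k : ℕ) : S.T ≤ Subgroup.normalizer (S.lev k : Set X) := S.lev_normal k

/-- The normalizer of the Sylow subgroup fixes the flag. -/
theorem smul_mem_W' {h : X} (hh : h ∈ Subgroup.normalizer (S.T : Set X)) {l : ℕ} {v : V}
    (hv : v ∈ S.W l) : h • v ∈ S.W l := by
  rcases lt_or_ge S.d l with hl | hl
  · rw [S.W_bot l hl.le, AddSubgroup.mem_bot] at hv ⊢
    rw [hv, smul_zero]
  set φ := DistribSMul.toAddMonoidHom V h with hφ
  have hinj : Function.Injective φ := fun a b hab => smul_left_cancel h hab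
  obtain ⟨m, hm, he⟩ := S.eq_W (U := (S.W l).map φ) (by
    rintro _ ⟨u, hu, rfl⟩
    have ht : h⁻¹ * S.x * h ∈ S.T := by
      have := (Subgroup.mem_normalizer_iff.1 (inv_mem hh) S.x).1 S.x_mem
      rwa [inv_inv] at this
    refine ⟨(h⁻¹ * S.x * h) • u, S.smul_mem_W ht hu, ?_⟩
    show h • ((h⁻¹ * S.x * h) • u) = S.x • (h • u)
    rw [← mul_smul, ← mul_smul]; group)
  have hc : Nat.card ((S.W l).map φ) = Nat.card (S.W l) :=
    Nat.card_congr ((S.W l).equivMapOfInjective φ hinj).symm.toEquiv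
  rw [he, S.card_W hm, S.card_W hl] at hc
  have := Nat.pow_right_injective hp.out.two_le hc
  have hml : m = l := by omega
  have hmem : φ v ∈ (S.W l).map φ := ⟨v, hv, rfl⟩
  rw [he, hml] at hmem
  exact hmem

/-- An element of `T` outside `lev 0` moves every layer exactly by one. -/
theorem exists_moved {y : X} (hy : y ∈ S.T) (hy0 : y ∉ S.lev 0) {l : ℕ} (hl : l + 2 ≤ S.d) :
    ∃ v ∈ S.W l, y • v - v ∈ S.W (l + 1) ∧ y • v - v ∉ S.W (l + 2) := by
  by_contra hc
  push Not at hc
  exact hy0 (S.mem_lev_zero_of_shift hy hl fun v hv => hc v hv (S.stab y hy l v hv))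

/-- A subgroup with an element outside `lev 0` has its normalizer inside that of `T`. -/
theorem normalizer_le_of_notMem {Q : Subgroup X} (hQ : Q ≤ S.T) {y : X} (hy : y ∈ Q)
    (hy0 : y ∉ S.lev 0) : Subgroup.normalizer (Q : Set X) ≤ Subgroup.normalizer (S.T : Set X) := by
  have key : ∀ g ∈ Subgroup.normalizer (Q : Set X), ∀ l, ∀ v ∈ S.W l, g • v ∈ S.W l := by
    intro g hg l
    induction l with
    | zero => intro v _; rw [S.W_zero]; exact AddSubgroup.mem_top _
    | succ l ih =>
      intro v hv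
      set U := AddSubgroup.closure {u | ∃ q ∈ Q, ∃ w ∈ S.W l, u = q • w - w} with hU
      have h1 : S.W (l + 1) ≤ U := by
        refine S.W_le_of_exact fun m hm hmd => ?_
        obtain ⟨n, rfl⟩ := Nat.exists_eq_succ_of_ne_zero (show m ≠ 0 by omega)
        obtain ⟨w, hw, hw1, hw2⟩ := S.exists_moved (hQ hy) hy0 (l := n) (by omega)
        exact ⟨_, AddSubgroup.subset_closure ⟨y, hy, w, S.W_anti (by omega) hw, rfl⟩, hw1, hw2⟩
      have h2 : ∀ u ∈ U, g • u ∈ S.W (l + 1) := by
        intro u hu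
        induction hu using AddSubgroup.closure_induction with
        | mem u hu =>
          obtain ⟨q, hq, w, hw, rfl⟩ := hu
          rw [show g • (q • w - w) = (g * q * g⁻¹) • (g • w) - g • w by
            rw [smul_sub, ← mul_smul, ← mul_smul]; group]
          exact S.stab _ (hQ ((Subgroup.mem_normalizer_iff.1 hg q).1 hq)) l _ (ih w hw)
        | zero => rw [smul_zero]; exact zero_mem _
        | add _ _ _ _ h1 h2 => rw [smul_add]; exact add_mem h1 h2
        | neg _ _ h1 => rw [smul_neg]; exact neg_mem h1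
      exact h2 v (h1 hv)
  exact fun g hg => S.mem_normalizer_of_flag (key g hg) (key g⁻¹ (inv_mem hg))

/-- `lev 0` is weakly closed in `T`. -/
theorem mem_normalizer_of_conj_le [Finite X] {g : X}
    (hg : ∀ a ∈ S.lev 0, g * a * g⁻¹ ∈ S.T) : g ∈ Subgroup.normalizer (S.lev 0 : Set X) := by
  haveI := S.finite_V
  have h3 := S.three_le_d
  have hsub : ∀ a ∈ S.lev 0, g * a * g⁻¹ ∈ S.lev 0 := by
    intro a ha
    by_contra hout
    set φ := DistribSMul.toAddMonoidHom V g with hφ
    have hinj : Function.Injective φ := fun u w h => smul_left_cancel g h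
    have hle : S.W 1 ≤ (S.W 2).map φ := by
      refine S.W_le_of_exact fun m hm hmd => ?_
      obtain ⟨n, rfl⟩ := Nat.exists_eq_succ_of_ne_zero (show m ≠ 0 by omega)
      obtain ⟨w, -, hw1, hw2⟩ := S.exists_moved (hg a ha) hout (l := n) (by omega)
      refine ⟨_, ⟨a • (g⁻¹ • w) - g⁻¹ • w, ?_, ?_⟩, hw1, hw2⟩
      · have := S.shift 0 a ha 0 (g⁻¹ • w) (by rw [S.W_zero]; exact AddSubgroup.mem_top _)
        simpa using this
      · show g • (a • (g⁻¹ • w) - g⁻¹ • w) = (g * a * g⁻¹) • w - w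
        rw [smul_sub, ← mul_smul, ← mul_smul, ← mul_smul, mul_inv_cancel, one_smul]
    have hc := AddSubgroup.card_le_of_le hle
    rw [Nat.card_congr ((S.W 2).equivMapOfInjective φ hinj).symm.toEquiv,
      S.card_W (show 1 ≤ S.d by omega), S.card_W (show 2 ≤ S.d by omega)] at hc
    have := (Nat.pow_le_pow_iff_right hp.out.one_lt).1 hc
    omega
  exact Subgroup.mem_normalizer_fintype hsub

/-! ### The basic shifts -/

theorem dsp_lev_eq (k : ℕ) : ∃ l ≤ S.d, S.dsp (S.lev k) = S.W l :=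
  S.eq_W fun _ hv => S.smul_mem_dsp
    (fun h hh => (Subgroup.mem_normalizer_iff.1 (S.lev_normal k S.x_mem) h).1 hh) hv

/-- The layer spanned by the differences of `lev 0`. -/
noncomputable def mt : ℕ := (S.dsp_lev_eq 0).choose

/-- The shift of the last layer of `lev 0`. -/
noncomputable def L : ℕ := (S.dsp_lev_eq (S.i - 2)).choose

theorem mt_le : S.mt ≤ S.d := (S.dsp_lev_eq 0).choose_spec.1

theorem dsp_mt : S.dsp (S.lev 0) = S.W S.mt := (S.dsp_lev_eq 0).choose_spec.2

theorem L_le : S.L ≤ S.d := (S.dsp_lev_eq (S.i - 2)).choose_spec.1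

theorem dsp_L : S.dsp (S.lev (S.i - 2)) = S.W S.L := (S.dsp_lev_eq (S.i - 2)).choose_spec.2

theorem exists_last : ∃ z ∈ S.lev (S.i - 2), z ≠ 1 := by
  obtain ⟨a, ha, ha1⟩ := S.exists_lev_exact (k := S.i - 2) (by have := S.two_le; omega)
  exact ⟨a, ha, fun h => ha1 (h ▸ one_mem _)⟩

theorem mt_le_L : S.mt ≤ S.L := by
  refine S.le_of_W_le S.mt_le ?_
  rw [← S.dsp_L, ← S.dsp_mt]
  exact S.dsp_le fun g hg v => S.mem_dsp (S.lev_anti (Nat.zero_le _) hg) v

theorem two_le_mt : 2 ≤ S.mt := by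
  refine S.le_of_W_le (by have := S.three_le_d; omega) ?_
  rw [← S.dsp_mt]
  refine S.dsp_le fun g hg v => ?_
  have := S.shift 0 g hg 0 v (by rw [S.W_zero]; exact AddSubgroup.mem_top v)
  simpa using this

theorem L_lt : S.L < S.d := by
  refine lt_of_le_of_ne S.L_le fun h => ?_
  obtain ⟨z, hz, hz1⟩ := S.exists_last
  refine hz1 (S.faithful z fun v => ?_)
  have := S.mem_dsp hz v
  rw [S.dsp_L, h, S.W_bot S.d le_rfl, AddSubgroup.mem_bot] at this
  exact sub_eq_zero.1 this

theorem i_le_L : S.i ≤ S.L := by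
  rcases Nat.lt_or_ge S.d S.i with h | h
  · exfalso
    obtain ⟨z, hz, hz1⟩ := S.exists_last
    refine hz1 (S.faithful z fun v => ?_)
    have := S.shift _ z hz 0 v (by rw [S.W_zero]; exact AddSubgroup.mem_top v)
    rw [S.W_bot _ (by omega), AddSubgroup.mem_bot] at this
    exact sub_eq_zero.1 this
  refine S.le_of_W_le h ?_
  rw [← S.dsp_L]
  refine S.dsp_le fun g hg v => ?_
  have := S.shift _ g hg 0 v (by rw [S.W_zero]; exact AddSubgroup.mem_top v)
  rwa [show 0 + (S.i - 2) + 2 = S.i by have := S.two_le; omega] at this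

theorem mt_lt : S.mt < S.d := lt_of_le_of_lt S.mt_le_L S.L_lt

theorem commute_x_last {z : X} (hz : z ∈ S.lev (S.i - 2)) : Commute z S.x := by
  have := S.x_comm _ z hz
  rw [S.lev_bot _ (by have := S.two_le; omega), Subgroup.mem_bot] at this
  exact commutatorElement_eq_one_iff_commute.1 this

/-- The last layer shifts every layer by `L`. -/
theorem last_shift {z : X} (hz : z ∈ S.lev (S.i - 2)) : ∀ (l : ℕ), ∀ v ∈ S.W l,
    z • v - v ∈ S.W (l + S.L) := by
  intro l
  induction l with
  | zero => intro v _; rw [Nat.zero_add, ← S.dsp_L]; exact S.mem_dsp hz v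
  | succ l ih =>
    intro v hv
    obtain ⟨w, hw, rfl⟩ := S.exists_dif' hv
    rw [show l + 1 + S.L = l + S.L + 1 by omega]
    have := S.stab S.x S.x_mem _ _ (ih w hw)
    rwa [show S.x • (z • w - w) - (z • w - w) = z • (S.x • w - w) - (S.x • w - w) by
      rw [smul_sub, smul_sub, ← mul_smul, ← mul_smul, (S.commute_x_last hz).eq]; abel] at this

/-- A nontrivial element of the last layer shifts exactly by `L`. -/
theorem last_exact {z : X} (hz : z ∈ S.lev (S.i - 2)) (hz1 : z ≠ 1) : ∀ (l : ℕ), l + S.L < S.d →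
    ∀ v ∈ S.W l, v ∉ S.W (l + 1) → z • v - v ∉ S.W (l + S.L + 1) := by
  intro l
  induction l with
  | zero =>
    intro hl v hv hv1 hc
    rw [Nat.zero_add] at hc hl
    have hall : ∀ w : V, z • w - w ∈ S.W (S.L + 1) := by
      intro w
      obtain ⟨c, hc'⟩ := S.exists_nsmul hv hv1 (show w ∈ S.W 0 by rw [S.W_zero]; exact AddSubgroup.mem_top w)
      have h1 := S.last_shift hz 1 _ hc'
      rw [show 1 + S.L = S.L + 1 by omega] at h1
      have h2 := add_mem h1 (nsmul_mem hc c)
      rwa [smul_sub, smul_comm z c v, nsmul_sub,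
        show z • w - c • (z • v) - (w - c • v) + (c • (z • v) - c • v) = z • w - w by abel] at h2
    have hle : S.lev (S.i - 2) ≤ Subgroup.zpowers z := by
      refine S.lev_le_of_mem hz ?_ (Subgroup.mem_zpowers z) ?_
      · rw [S.lev_bot _ (by have := S.two_le; omega), Subgroup.mem_bot]; exact hz1
      · rw [S.lev_bot _ (by have := S.two_le; omega)]; exact bot_le
    let H : Subgroup X :=
      { carrier := {g | g ∈ S.T ∧ ∀ w : V, g • w - w ∈ S.W (S.L + 1)}
        one_mem' := ⟨one_mem _, fun w => by simp⟩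
        mul_mem' := fun {a b} ha hb => ⟨mul_mem ha.1 hb.1, fun w => by
          have := add_mem (ha.2 (b • w)) (hb.2 w)
          rwa [sub_add_sub_cancel, ← mul_smul] at this⟩
        inv_mem' := fun {a} ha => ⟨inv_mem ha.1, fun w => by
          have := neg_mem (ha.2 (a⁻¹ • w))
          rwa [smul_inv_smul, neg_sub] at this⟩ }
    have hzH : Subgroup.zpowers z ≤ H := Subgroup.zpowers_le.2 ⟨S.lev_le_T _ hz, hall⟩
    have hcontra : S.W S.L ≤ S.W (S.L + 1) := by
      rw [← S.dsp_L]
      exact S.dsp_le fun g hg w => (hzH (hle hg)).2 w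
    have := S.le_of_W_le (by omega) hcontra
    omega
  | succ l ih =>
    intro hl v hv hv1 hc
    obtain ⟨w, hw, rfl⟩ := S.exists_dif' hv
    have hw1 : w ∉ S.W (l + 1) := fun h => hv1 (S.stab S.x S.x_mem _ w h)
    have h1 := ih (by omega) w hw hw1
    refine (S.x_moves (by omega) (S.last_shift hz l w hw) h1).2 ?_
    rw [show l + S.L + 2 = l + 1 + S.L + 1 by omega]
    rwa [show S.x • (z • w - w) - (z • w - w) = z • (S.x • w - w) - (S.x • w - w) by
      rw [smul_sub, smul_sub, ← mul_smul, ← mul_smul, (S.commute_x_last hz).eq]; abel]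

end Sys

end Cfsg.Agent.MaxClassLin
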