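import Cfsg.Agent.Lib.MaxClassLin.Weights
import Cfsg.Agent.Lib.MaxClassLin.Coprime

/-!
# The kernel on the top section is `lev 0`

An element normalizing `lev 0` and trivial on `V / W mt` lies in `lev 0`.  Also the subgroup
generated by the `p`-elements, with its Frattini property.
-/

set_option autoImplicit false
set_option linter.unusedSectionVars false
set_option linter.style.haveILetI false

namespace Cfsg.Agent.MaxClassLin

open scoped commutatorElement

variable {p : ℕ} [hp : Fact p.Prime] {X : Type*} [Group X]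

/-- The subgroup generated by the elements of `p`-power order of `H`. -/
def pRes (p : ℕ) (H : Subgroup X) : Subgroup X :=
  Subgroup.closure {g | g ∈ H ∧ ∃ n : ℕ, g ^ p ^ n = 1}

theorem pRes_le (H : Subgroup X) : pRes p H ≤ H := (Subgroup.closure_le H).2 fun _ h => h.1

theorem le_pRes {H Q : Subgroup X} (hQ : IsPGroup p Q) (hle : Q ≤ H) : Q ≤ pRes p H := fun q hq => by
  obtain ⟨n, hn⟩ := hQ ⟨q, hq⟩
  exact Subgroup.subset_closure ⟨hle hq, n, by simpa using congrArg Subtype.val hn⟩

theorem conj_mem_pRes {H : Subgroup X} {h g : X}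
    (hh : h ∈ Subgroup.normalizer (H : Set X)) (hg : g ∈ pRes p H) : h * g * h⁻¹ ∈ pRes p H := by
  induction hg using Subgroup.closure_induction with
  | mem g hg =>
    obtain ⟨hgH, n, hn⟩ := hg
    exact Subgroup.subset_closure ⟨(Subgroup.mem_normalizer_iff.1 hh g).1 hgH, n, by
      rw [conj_pow, hn]; group⟩
  | one => simp
  | mul a b _ _ ha hb =>
    rw [show h * (a * b) * h⁻¹ = (h * a * h⁻¹) * (h * b * h⁻¹) by group]
    exact mul_mem ha hb
  | inv a _ ha =>
    rw [show h * a⁻¹ * h⁻¹ = (h * a * h⁻¹)⁻¹ by group]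
    exact inv_mem ha

variable {V : Type*} [AddCommGroup V] [DistribMulAction X V]

namespace Sys

variable (S : Sys p X V)

/-- A subgroup containing `lev 0` and `x` contains `T`. -/
theorem T_le_of {H : Subgroup X} (h0 : S.lev 0 ≤ H) (hx : S.x ∈ H) : S.T ≤ H := by
  have h2 := Subgroup.relIndex_mul_relIndex (S.lev 0) (H ⊓ S.T) S.T (le_inf h0 S.lev_le) inf_le_right
  rw [S.lev_index_zero] at h2
  rcases hp.out.eq_one_or_self_of_dvd _ (Dvd.intro _ h2) with h | h
  · exact absurd (Subgroup.relIndex_eq_one.1 h ⟨hx, S.x_mem⟩) S.x_notMem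
  · rw [h] at h2
    have h1 := mul_left_cancel₀ hp.out.ne_zero (h2.trans (mul_one p).symm)
    exact (Subgroup.relIndex_eq_one.1 h1).trans inf_le_left

/-- An element normalizing `lev 0` and sending `x` into `T` normalizes `T`. -/
theorem mem_normalizer_T [Finite X] {g : X} (hg : g ∈ Subgroup.normalizer (S.lev 0 : Set X))
    (hx : g * S.x * g⁻¹ ∈ S.T) : g ∈ Subgroup.normalizer (S.T : Set X) := by
  refine Subgroup.mem_normalizer_fintype fun t ht => ?_
  have := S.T_le_of (H := S.T.comap (MulAut.conj g).toMonoidHom)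
    (fun a ha => S.lev_le ((Subgroup.mem_normalizer_iff.1 hg a).1 ha)) hx ht
  exact this

/-- The index of `T` in a subgroup it normalizes is prime to `p`. -/
theorem not_dvd_relIndex [Finite X] {D : Subgroup X} (hTD : S.T ≤ Subgroup.normalizer (D : Set X)) :
    ¬ p ∣ S.T.relIndex D := by
  obtain ⟨P, hP⟩ := S.sylow
  set N := Subgroup.normalizer (D : Set X) with hN
  set D' := D.subgroupOf N with hD'
  set T' := S.T.subgroupOf N with hT'
  haveI : D'.Normal := Subgroup.normal_in_normalizer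
  have hTidx : ¬ p ∣ T'.index := by
    intro h
    refine P.not_dvd_index ?_
    rw [hP]
    exact h.trans (Dvd.intro _ (Subgroup.relIndex_mul_index hTD))
  have hD'le : D ≤ N := Subgroup.le_normalizer
  have h1 : S.T.relIndex D = T'.relIndex D' := (Subgroup.relIndex_subgroupOf hD'le).symm
  rw [h1]
  intro h
  refine hTidx (h.trans ?_)
  have h2 := Subgroup.relIndex_sup_left (H := T') (K := D')
  have e1 := Subgroup.relIndex_mul_relIndex ⊥ T' (D' ⊔ T') bot_le le_sup_right
  have e2 := Subgroup.relIndex_mul_relIndex ⊥ D' (D' ⊔ T') bot_le le_sup_left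
  have e3 := Subgroup.relIndex_mul_relIndex ⊥ (D' ⊓ T') T' bot_le inf_le_right
  have e4 := Subgroup.relIndex_mul_relIndex ⊥ (D' ⊓ T') D' bot_le inf_le_left
  rw [Subgroup.inf_relIndex_right] at e3
  rw [Subgroup.inf_relIndex_left] at e4
  rw [h2] at e2
  have hpos : (⊥ : Subgroup N).relIndex T' ≠ 0 := by
    rw [Subgroup.relIndex_bot_left]; exact Nat.card_pos.ne'
  have key : T'.relIndex (D' ⊔ T') = T'.relIndex D' := by
    refine mul_left_cancel₀ hpos ?_
    rw [e1, ← e2, ← e4, ← e3]
    ring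
  rw [← key]
  exact Dvd.intro _ (Subgroup.relIndex_mul_index le_sup_right)

/-- The normalizer of `lev 0` fixes `W mt`. -/
theorem smul_mem_W_mt {g : X} (hg : g ∈ Subgroup.normalizer (S.lev 0 : Set X)) {v : V}
    (hv : v ∈ S.W S.mt) : g • v ∈ S.W S.mt := by
  rw [← S.dsp_mt] at hv ⊢
  exact S.smul_mem_dsp (fun h hh => (Subgroup.mem_normalizer_iff.1 hg h).1 hh) hv

/-- The ascending series of fixed points of `lev 0`. -/
def fixSeries (S : Sys p X V) : ℕ → AddSubgroup V
  | 0 => ⊥
  | j + 1 => ⨅ a ∈ S.lev 0, (fixSeries S j).comap (DistribSMul.toAddMonoidHom V a - AddMonoidHom.id V)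

theorem mem_fixSeries {j : ℕ} {v : V} :
    v ∈ S.fixSeries (j + 1) ↔ ∀ a ∈ S.lev 0, a • v - v ∈ S.fixSeries j := by
  show v ∈ (⨅ a ∈ S.lev 0, (S.fixSeries j).comap (DistribSMul.toAddMonoidHom V a - AddMonoidHom.id V)) ↔ _
  simp [AddSubgroup.mem_iInf]

theorem smul_mem_fixSeries {g : X} (hg : g ∈ Subgroup.normalizer (S.lev 0 : Set X)) :
    ∀ {j : ℕ} {v : V}, v ∈ S.fixSeries j → g • v ∈ S.fixSeries j := by
  intro j
  induction j with
  | zero =>
    intro v hv
    rw [fixSeries, AddSubgroup.mem_bot] at hv ⊢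
    rw [hv, smul_zero]
  | succ j ih =>
    intro v hv
    rw [S.mem_fixSeries] at hv ⊢
    intro a ha
    have ha' : g⁻¹ * a * g ∈ S.lev 0 := by
      have := (Subgroup.mem_normalizer_iff.1 (inv_mem hg) a).1 ha
      rwa [inv_inv] at this
    have := ih (hv _ ha')
    rwa [smul_sub, ← mul_smul, show g * (g⁻¹ * a * g) = a * g by group, mul_smul] at this

theorem W_le_fixSeries : ∀ j : ℕ, S.W (S.d - j) ≤ S.fixSeries j := by
  intro j
  induction j with
  | zero => rw [Nat.sub_zero, S.W_bot S.d le_rfl]; exact bot_le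
  | succ j ih =>
    intro v hv
    rw [S.mem_fixSeries]
    intro a ha
    exact ih (S.W_anti (by omega) (S.stab a (S.lev_le ha) _ v hv))

/-- An element normalizing `lev 0` and trivial on `V / W mt` lies in `lev 0`. -/
theorem mem_lev_zero_of_triv [Finite X] {g : X} (hg : g ∈ Subgroup.normalizer (S.lev 0 : Set X))
    (h : ∀ v : V, g • v - v ∈ S.W S.mt) : g ∈ S.lev 0 := by
  have hd3 := S.three_le_d
  have hmt2 := S.two_le_mt
  let D : Subgroup X :=
    { carrier := {g | g ∈ Subgroup.normalizer (S.lev 0 : Set X) ∧ ∀ v : V, g • v - v ∈ S.W S.mt}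
      one_mem' := ⟨one_mem _, fun v => by simp⟩
      mul_mem' := fun {a b} ha hb => ⟨mul_mem ha.1 hb.1, fun v => by
        have := add_mem (ha.2 (b • v)) (hb.2 v)
        rwa [sub_add_sub_cancel, ← mul_smul] at this⟩
      inv_mem' := fun {a} ha => ⟨inv_mem ha.1, fun v => by
        have := neg_mem (ha.2 (a⁻¹ • v))
        rwa [smul_inv_smul, neg_sub] at this⟩ }
  have hTn : S.T ≤ Subgroup.normalizer (S.lev 0 : Set X) := S.lev_normal 0
  have hBD : S.lev 0 ≤ D := fun a ha =>
    ⟨Subgroup.le_normalizer ha, fun v => by rw [← S.dsp_mt]; exact S.mem_dsp ha v⟩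
  have hTD : ∀ t ∈ S.T, t ∈ D → t ∈ S.lev 0 := fun t ht htD =>
    S.mem_lev_zero_of_shift ht (l := 0) (by omega) fun v _ => S.W_anti hmt2 (htD.2 v)
  have hnorm : ∀ t ∈ S.T, ∀ d ∈ D, t * d * t⁻¹ ∈ D := fun t ht d hd =>
    ⟨mul_mem (mul_mem (hTn ht) hd.1) (inv_mem (hTn ht)), fun v => by
      have := S.smul_mem_W_mt (hTn ht) (hd.2 (t⁻¹ • v))
      rwa [smul_sub, smul_inv_smul, ← mul_smul, ← mul_smul] at this⟩
  have hTND : S.T ≤ Subgroup.normalizer (D : Set X) := fun t ht =>
    Subgroup.mem_normalizer_fintype fun d hd => hnorm t ht d hd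
  have hidx : (S.lev 0).relIndex D = S.T.relIndex D := by
    rw [← Subgroup.inf_relIndex_right S.T D, show S.T ⊓ D = S.lev 0 from
      le_antisymm (fun t ht => hTD t ht.1 ht.2) (le_inf S.lev_le hBD)]
  have hfix : ∀ d ∈ D, S.x * d * S.x⁻¹ * d⁻¹ ∈ S.lev 0 → d ∈ S.lev 0 := by
    intro d hd hc
    have hdx : d * S.x * d⁻¹ ∈ S.T := by
      have := mul_mem (inv_mem (S.lev_le hc)) S.x_mem
      rwa [show (S.x * d * S.x⁻¹ * d⁻¹)⁻¹ * S.x = d * S.x * d⁻¹ by group] at this
    set h : ↥(Subgroup.normalizer (S.T : Set X)) := ⟨d, S.mem_normalizer_T hd.1 hdx⟩ with hh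
    have hlev : ∀ l, l < 2 → S.Scal d l 1 := by
      intro l hl v _
      haveI : Fact (1 < p) := ⟨hp.out.one_lt⟩
      rw [ZMod.val_one, one_smul]
      exact S.W_anti (by omega) (hd.2 v)
    have e0 := S.scal_unique (l := 0) (by omega) (S.wt_scal h 0) (hlev 0 (by omega))
    have e1 := S.scal_unique (l := 1) (by omega) (S.wt_scal h 1) (hlev 1 (by omega))
    rw [Units.val_eq_one] at e0 e1
    rw [Nat.add_zero] at e0
    rw [pow_succ, e0, one_mul] at e1
    exact hTD d ((S.wt_eq_one_iff h).1 e1) hd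
  have hxp : S.x ^ p = 1 := S.pow_p_eq_one (S.unip_eq.symm ▸ S.x_mem)
  have hsum : ∀ v : V, ∑ j ∈ Finset.range p, S.x ^ j • v = 0 := by
    intro v
    have hp0 : (p : AddMonoid.End V) = 0 := by
      refine AddMonoidHom.ext fun z => ?_
      exact (AddMonoid.End.natCast_apply p z).trans (S.tors z)
    have hdec : ∀ (k : ℕ) (u : V),
        ((SpeTrace.smulEnd S.x - 1) ^ k : AddMonoid.End V) u ∈ S.W k := by
      intro k
      induction k with
      | zero => intro u; rw [S.W_zero]; exact AddSubgroup.mem_top _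
      | succ k ih => intro u; rw [pow_succ']; exact S.stab S.x S.x_mem k _ (ih u)
    have h0 := hdec (p - 1) v
    rw [S.W_bot (p - 1) (by have := S.d_lt; omega), AddSubgroup.mem_bot,
      ← SpeTrace.geom_sum_eq_sub_one_pow hp0] at h0
    have happ : ∀ (A : Finset ℕ) (f : ℕ → AddMonoid.End V) (z : V),
        (∑ k ∈ A, f k : AddMonoid.End V) z = ∑ k ∈ A, f k z := fun A f z => by
      induction A using Finset.induction_on with
      | empty => simp
      | insert a A ha ih => rw [Finset.sum_insert ha, Finset.sum_insert ha, ← ih]; rfl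
    rw [happ] at h0
    simpa [SpeTrace.smulEnd_pow] using h0
  have hstab : ∀ (j : ℕ), ∀ d ∈ D, ∀ v ∈ S.fixSeries (j + 1), d • v - v ∈ S.fixSeries j := by
    intro j
    refine dif_mem_of_fpf S.tors (D := D) (B := S.lev 0) (g := S.x) (U₂ := S.fixSeries (j + 1))
      (fun d hd b hb => (Subgroup.mem_normalizer_iff.1 hd.1 b).1 hb) (fun d hd => hnorm _ S.x_mem d hd)
      (fun b hb => (Subgroup.mem_normalizer_iff.1 (hTn S.x_mem) b).1 hb) hxp ?_ hfix
      (fun d hd v hv => S.smul_mem_fixSeries hd.1 hv) (fun d hd v hv => S.smul_mem_fixSeries hd.1 hv)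
      (fun v hv => S.smul_mem_fixSeries (hTn S.x_mem) hv)
      (fun b hb v hv => S.mem_fixSeries.1 hv b hb) (fun v _ => by rw [hsum]; exact zero_mem _)
    rw [hidx]
    exact S.not_dvd_relIndex hTND
  have hpg : IsPGroup p D := by
    intro d
    refine ⟨1, Subtype.ext ?_⟩
    rw [pow_one, SubmonoidClass.coe_pow, OneMemClass.coe_one]
    refine S.faithful _ fun v => ?_
    have hp0 : (p : AddMonoid.End V) = 0 := by
      refine AddMonoidHom.ext fun z => ?_
      exact (AddMonoid.End.natCast_apply p z).trans (S.tors z)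
    have hdec : ∀ (k j : ℕ) (u : V), u ∈ S.fixSeries (j + k) →
        ((SpeTrace.smulEnd (d : X) - 1) ^ k : AddMonoid.End V) u ∈ S.fixSeries j := by
      intro k
      induction k with
      | zero => intro j u hu; simpa using hu
      | succ k ih =>
        intro j u hu
        rw [pow_succ']
        exact hstab j d d.2 _ (ih (j + 1) u (by rwa [show j + 1 + k = j + (k + 1) by omega]))
    have hv : v ∈ S.fixSeries (0 + p) := by
      refine S.W_le_fixSeries _ ?_
      rw [Nat.sub_eq_zero_of_le (by have := S.d_lt; omega), S.W_zero]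
      exact AddSubgroup.mem_top v
    have h0 := hdec p 0 v hv
    rw [fixSeries, AddSubgroup.mem_bot] at h0
    rcases subsingleton_or_nontrivial V with hV | hV
    · exact Subsingleton.elim _ _
    haveI : Nontrivial (AddMonoid.End V) := by
      obtain ⟨u, hu⟩ := exists_ne (0 : V)
      exact ⟨1, 0, fun e => hu (congrArg (fun f : AddMonoid.End V => f u) e)⟩
    haveI : CharP (AddMonoid.End V) p := (CharP.charP_iff_prime_eq_zero hp.out).2 hp0
    rw [sub_pow_char_of_commute p (Commute.one_right _), one_pow] at h0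
    have h1 : (SpeTrace.smulEnd (d : X) ^ p : AddMonoid.End V) v - v = 0 := h0
    rw [SpeTrace.smulEnd_pow] at h1
    exact sub_eq_zero.1 h1
  obtain ⟨n, hn⟩ := IsPGroup.iff_card.1 hpg
  have h1 : S.T.relIndex D = 1 := by
    have hdvd : S.T.relIndex D ∣ p ^ n := hn ▸ Subgroup.index_dvd_card _
    obtain ⟨m, -, hm⟩ := (Nat.dvd_prime_pow hp.out).1 hdvd
    rcases Nat.eq_zero_or_pos m with h0 | h0
    · rw [hm, h0, pow_zero]
    · exact absurd (hm ▸ dvd_pow_self p h0.ne') (S.not_dvd_relIndex hTND)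
  exact hTD g (Subgroup.relIndex_eq_one.1 h1 ⟨hg, h⟩) ⟨hg, h⟩

end Sys

end Cfsg.Agent.MaxClassLin
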