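import Cfsg.Agent.Lib.MaxClassLin.LocMod
import Cfsg.Agent.Lib.SpeTrace.Wedge

/-!
# The invariance of `W mt` by a power of the determinant

If the normalizer `M` of `lev 0` meets its other conjugates trivially on `T`, every character of
`M` has trivial `t`-th power and `t * mt * (d - mt)` is below the budget of `T`, then the `t`-th
power of the determinant of `V / W mt` is fixed by the whole group, so `W mt` is invariant.
-/

set_option autoImplicit false
set_option linter.unusedSectionVars false
set_option linter.style.haveILetI false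

namespace Cfsg.Agent.MaxClassLin

open Cfsg.Agent.SpeTrace

/-- The coordinate of a vector as a determinant. -/
theorem det_update_repr {K U ι : Type*} [CommRing K] [AddCommGroup U] [Module K U] [Fintype ι]
    [DecidableEq ι] (b : Module.Basis ι K U) (j : ι) (w : U) :
    b.det (Function.update (⇑b) j w) = b.repr w j := by
  rw [Module.Basis.det_apply, Module.Basis.toMatrix_update, Module.Basis.toMatrix_self,
    ← Matrix.cramer_apply, Matrix.cramer_one]
  rfl

variable {p : ℕ} [hp : Fact p.Prime] {X : Type*} [Group X] [Finite X] {V : Type*} [AddCommGroup V]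
  [DistribMulAction X V]

namespace Sys

variable (S : Sys p X V)

omit [Finite X] in
theorem pow_notMem_of_notMem {H : Subgroup X} {a : X} (ha : a ∈ S.T) (haH : a ∉ H) {j : ℕ}
    (hj : 0 < j) (hjp : j < p) : a ^ j ∉ H := by
  intro hmem
  have hap : a ^ p ∈ H := (S.pow_p_eq_one (S.unip_eq.symm ▸ ha)).symm ▸ one_mem H
  have hg : a ^ Nat.gcd j p ∈ H := by
    rw [← zpow_natCast, Nat.gcd_eq_gcd_ab, zpow_add, zpow_mul, zpow_mul, zpow_natCast, zpow_natCast]
    exact mul_mem (zpow_mem hmem _) (zpow_mem hap _)
  rw [(Nat.coprime_of_lt_prime hj.ne' hjp hp.out).symm.gcd_eq_one, pow_one] at hg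
  exact haH hg

/-- The budget of `T`. -/
noncomputable def budget : ℕ := 1 + S.L + ∑ k ∈ Finset.range (S.i - 2), (k + 2)

omit [Finite X] in
/-- The chain from the trivial subgroup to `T` with its shifts. -/
theorem exists_chain : ∃ (C : ℕ → Subgroup X) (t : ℕ → X) (s : ℕ → ℕ), C 0 = ⊥ ∧ C S.i = S.T ∧
    (∀ k < S.i, C k ≤ C (k + 1) ∧ t k ∈ C (k + 1) ∧ (C k).relIndex (C (k + 1)) = p ∧
      (∀ j, 0 < j → j < p → t k ^ j ∉ C k) ∧ Moves (t k) S.W (s k)) ∧
    ∑ k ∈ Finset.range S.i, s k = S.budget := by
  classical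
  have hi := S.two_le
  let C : ℕ → Subgroup X := fun k => if k < S.i then S.lev (S.i - 1 - k) else S.T
  let s : ℕ → ℕ := fun k => if k + 1 = S.i then 1 else if k = 0 then S.L else S.i - k
  have hex : ∀ k, ∃ a : X, k < S.i →
      a ∈ C (k + 1) ∧ a ∉ C k ∧ Moves a S.W (s k) := by
    intro k
    by_cases hk : k < S.i
    swap
    · exact ⟨1, fun h => absurd h hk⟩
    by_cases hk1 : k + 1 = S.i
    · refine ⟨S.x, fun _ => ⟨?_, ?_, ?_⟩⟩
      · simp only [C, hk1, lt_irrefl, if_false]; exact S.x_mem
      · simp only [C, hk, if_true, show S.i - 1 - k = 0 by omega]; exact S.x_notMem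
      · intro l v hv
        simp only [s, hk1, if_true]
        exact S.stab _ S.x_mem l v hv
    · obtain ⟨a, ha, ha1⟩ := S.exists_lev_exact (k := S.i - 2 - k) (by omega)
      refine ⟨a, fun _ => ⟨?_, ?_, ?_⟩⟩
      · simp only [C, show k + 1 < S.i by omega, if_true, show S.i - 1 - (k + 1) = S.i - 2 - k by omega]
        exact ha
      · simp only [C, hk, if_true]
        rwa [show S.i - 1 - k = S.i - 2 - k + 1 by omega]
      · intro l v hv
        simp only [s, hk1, if_false]
        by_cases hk0 : k = 0
        · simp only [hk0, if_true]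
          exact S.last_shift (by rwa [hk0, Nat.sub_zero] at ha) l v hv
        · simp only [hk0, if_false]
          have := S.shift _ a ha l v hv
          rwa [show l + (S.i - 2 - k) + 2 = l + (S.i - k) by omega] at this
  choose t ht using hex
  have hCT : ∀ k, C k ≤ S.T := fun k => by
    simp only [C]
    split_ifs
    · exact S.lev_le_T _
    · exact le_rfl
  refine ⟨C, t, s, ?_, ?_, fun k hk => ?_, ?_⟩
  · simp only [C, show 0 < S.i by omega, if_true]
    exact S.lev_bot _ (by omega)
  · simp only [C, lt_irrefl, if_false]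
  · obtain ⟨h1, h2, h3⟩ := ht k hk
    refine ⟨?_, h1, ?_, fun j hj hjp => S.pow_notMem_of_notMem (hCT _ h1) h2 hj hjp, h3⟩
    · simp only [C, hk, if_true]
      split_ifs
      · exact S.lev_anti (by omega)
      · exact S.lev_le_T _
    · simp only [C, hk, if_true]
      split_ifs with hk1
      · rw [show S.i - 1 - k = S.i - 1 - (k + 1) + 1 by omega]
        exact S.lev_index _ (by omega)
      · rw [show S.i - 1 - k = 0 by omega]
        exact S.lev_index_zero
  · obtain ⟨n, hn⟩ := Nat.exists_eq_add_of_le hi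
    rw [hn, show 2 + n = n + 1 + 1 by ring, Finset.sum_range_succ, Finset.sum_range_succ', budget,
      hn, Nat.add_sub_cancel_left, ← Finset.sum_range_reflect (fun k => k + 2) n]
    have h0 : s 0 = S.L := by
      simp only [s, show ¬(0 + 1 = S.i) by omega, if_false, if_true]
    have h1 : s (n + 1) = 1 := by
      simp only [s, show n + 1 + 1 = S.i by omega, if_true]
    have h2 : ∀ k ∈ Finset.range n, s (k + 1) = n - 1 - k + 2 := fun k hk => by
      have := Finset.mem_range.1 hk
      simp only [s, show ¬(k + 1 + 1 = S.i) by omega, if_false, show ¬(k + 1 = 0) by omega]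
      omega
    rw [h0, h1, Finset.sum_congr rfl h2]
    ring

/-- `W mt` is invariant. -/
theorem dsp_invariant_of_budget
    (hTI : ∀ g, g ∉ Subgroup.normalizer (S.lev 0 : Set X) → ∀ t ∈ S.T,
      g⁻¹ * t * g ∈ Subgroup.normalizer (S.lev 0 : Set X) → t = 1) (n : ℕ) (hn : n ≠ 0)
    (hχ : ∀ χ : ↥(Subgroup.normalizer (S.lev 0 : Set X)) →* (ZMod p)ˣ, ∀ g, χ g ^ n = 1)
    (hlt : n * (S.mt * (S.d - S.mt)) < (p - 1) * S.budget) :
    ∀ g : X, ∀ v ∈ S.W S.mt, g • v ∈ S.W S.mt := by
  classical
  set M := Subgroup.normalizer (S.lev 0 : Set X) with hM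
  set m := S.mt with hm
  have hd3 := S.three_le_d
  have hmd := S.mt_le
  have hinv : S.SecInv M 0 m := fun g hg =>
    ⟨fun v _ => by rw [S.W_zero]; exact AddSubgroup.mem_top _, fun v hv => S.smul_mem_W_mt hg hv⟩
  -- the basis of the top section
  let mk : V →+ S.Sec hinv := (secMk hinv).comp
    { toFun := fun v => ⟨v, by rw [S.W_zero]; exact AddSubgroup.mem_top v⟩
      map_zero' := rfl
      map_add' := fun _ _ => rfl }
  have hmk : ∀ v, mk v = 0 ↔ v ∈ S.W m := fun v => secMk_eq_zero hinv
  have hmks : Function.Surjective mk := fun w => by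
    obtain ⟨v, rfl⟩ := secMk_surjective hinv w
    exact ⟨v, rfl⟩
  haveI := S.finite_V
  haveI : Finite (S.Sec hinv) := Finite.of_surjective _ hmks
  have hcard : Nat.card (S.Sec hinv) = p ^ m := by
    have h1 := AddSubgroup.card_eq_card_quotient_mul_card_addSubgroup ((S.W m).addSubgroupOf (S.W 0))
    rw [Nat.card_congr (AddSubgroup.addSubgroupOfEquivOfLe (S.W_anti (Nat.zero_le m))).toEquiv,
      S.card_W (Nat.zero_le _), S.card_W hmd, Nat.sub_zero] at h1
    refine mul_right_cancel₀ (pow_ne_zero (S.d - m) hp.out.ne_zero) ?_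
    show Nat.card (↥(S.W 0) ⧸ (S.W m).addSubgroupOf (S.W 0)) * _ = _
    rw [← h1, ← pow_add, Nat.add_sub_cancel' hmd]
  have hrank : Module.finrank (ZMod p) (S.Sec hinv) = m := by
    have := Module.natCard_eq_pow_finrank (K := ZMod p) (V := S.Sec hinv)
    rw [Nat.card_zmod, hcard] at this
    exact (Nat.pow_right_injective hp.out.two_le this).symm
  let b := Module.finBasisOfFinrankEq (ZMod p) (S.Sec hinv) hrank
  -- the determinant as a functional on the exterior power
  let A : V [⋀^Fin m]→ₗ[ℤ] ZMod p :=
    { toFun := fun v => b.det fun k => mk (v k)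
      map_update_add' := fun v j x y => by
        have e : ∀ z, (fun k => mk (Function.update v j z k)) = Function.update (fun k => mk (v k)) j (mk z) :=
          fun z => funext fun k => Function.apply_update (fun _ => mk) v j z k
        rw [e, e, e, map_add, AlternatingMap.map_update_add]
      map_update_smul' := fun v j c x => by
        have e : ∀ z, (fun k => mk (Function.update v j z k)) = Function.update (fun k => mk (v k)) j (mk z) :=
          fun z => funext fun k => Function.apply_update (fun _ => mk) v j z k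
        rw [e, e, map_zsmul, ← Int.cast_smul_eq_zsmul (ZMod p), AlternatingMap.map_update_smul,
          Int.cast_smul_eq_zsmul]
      map_eq_zero_of_eq' := fun v k l hkl hne => b.det.map_eq_zero_of_eq _ (by rw [hkl]) hne }
  let ψ : Wedge.Pow m V →ₗ[ℤ] ZMod p := exteriorPower.alternatingMapLinearEquiv A
  have hψ : ∀ v, ψ (Wedge.wedge v) = b.det fun k => mk (v k) := fun v =>
    exteriorPower.alternatingMapLinearEquiv_apply_ιMulti A v
  -- the character of the determinant
  let lin : ↥M →* (S.Sec hinv →ₗ[ZMod p] S.Sec hinv) :=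
    { toFun := fun g => (DistribSMul.toAddMonoidHom (S.Sec hinv) g).toZModLinearMap p
      map_one' := LinearMap.ext fun w => one_smul _ w
      map_mul' := fun g g' => LinearMap.ext fun w => mul_smul g g' w }
  let χ : ↥M →* (ZMod p)ˣ := ((LinearMap.det).comp lin).toHomUnits
  have hψχ : ∀ (g : ↥M) (w : Wedge.Pow m V), ψ ((g : X) • w) = (χ g : ZMod p) * ψ w := by
    intro g w
    have hcomp : ψ.comp (exteriorPower.map m (Wedge.linMap (g : X))) =
        ((χ g : ZMod p).val : ℤ) • ψ := by
      refine exteriorPower.linearMap_ext (AlternatingMap.ext fun v => ?_)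
      show ψ ((g : X) • Wedge.wedge v) = ((χ g : ZMod p).val : ℤ) • ψ (Wedge.wedge v)
      rw [Wedge.smul_wedge, hψ, hψ, natCast_zsmul, nsmul_eq_mul, ZMod.natCast_zmod_val]
      exact Module.Basis.det_comp b (lin g) fun k => mk (v k)
    have := LinearMap.congr_fun hcomp w
    rw [LinearMap.smul_apply, natCast_zsmul, nsmul_eq_mul, ZMod.natCast_zmod_val] at this
    exact this
  -- the form
  let y : Form p (fun _ : Fin n => Wedge.Pow m V) :=
    { toFun := fun w => ∏ j, ψ (w j)
      map_update_add' := by
        intro inst w j x z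
        have e : ∀ u, ∏ k, ψ (Function.update w j u k) = ψ u * ∏ k ∈ Finset.univ.erase j, ψ (w k) := fun u => by
          rw [← Finset.mul_prod_erase _ _ (Finset.mem_univ j), Function.update_self]
          congr 1
          exact Finset.prod_congr rfl fun k hk => by rw [Function.update_of_ne (Finset.mem_erase.1 hk).1]
        rw [e, e, e, map_add, add_mul] }
  have hyM : ∀ g ∈ M, g • y = y := by
    intro g hg
    refine Form.ext fun w => ?_
    show ∏ j, ψ (g⁻¹ • w j) = ∏ j, ψ (w j)
    have e : ∀ j, ψ (g⁻¹ • w j) = (χ (⟨g, hg⟩⁻¹ : ↥M) : ZMod p) * ψ (w j) := fun j =>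
      hψχ (⟨g, hg⟩⁻¹ : ↥M) (w j)
    rw [Finset.prod_congr rfl fun j _ => e j, Finset.prod_mul_distrib, Finset.prod_const,
      Finset.card_univ, Fintype.card_fin, ← Units.val_pow_eq_pow_val, hχ, Units.val_one, one_mul]
  -- the trace
  obtain ⟨C, t, s, hC0, hCi, hC, hsum⟩ := S.exists_chain
  have hfix : ∀ g : X, g • y = y := fun g =>
    rel_fixed ⊤ M S.T ⊥ (fun a _ q hq => by
        rw [Subgroup.mem_bot] at hq
        simp [hq]) bot_le (S.lev_normal 0) le_top
      (fun a _ ha t ht hat => Subgroup.mem_bot.2 (hTI a ha t ht hat)) y hyM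
      (fun z hz => by
        have := Form.relSum_eq_zero (p := p) (W := fun _ : Fin n => Wedge.flag S.W m)
          (d := fun _ => m * (S.d - m) + 1)
          (fun _ l hl => Wedge.flag_eq_bot S.W_anti S.W_bot S.W_index hl)
          (fun _ => Wedge.flag_zero S.W_anti S.W_zero S.W_bot S.W_index)
          (fun _ => Wedge.flag_anti S.W m) C t s S.i
          (fun k hk => by
            obtain ⟨h1, h2, h3, h4, h5⟩ := hC k hk
            exact ⟨h1, h2, h3, h4, fun _ => Wedge.moves S.W_anti h5⟩)
          (by simpa [hsum] using hlt) z (by rwa [hC0])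
        rwa [hC0, hCi] at this)
      g (Subgroup.mem_top g)
  -- the kernel
  intro g v hv
  rw [← hmk]
  refine b.repr.injective (Finsupp.ext fun j => ?_)
  rw [map_zero, Finsupp.zero_apply]
  choose e he using hmks
  let u : Fin m → V := Function.update (fun k => g⁻¹ • e (b k)) j v
  have h1 : ψ (g • Wedge.wedge u) = b.repr (mk (g • v)) j := by
    rw [Wedge.smul_wedge, hψ, ← det_update_repr b j (mk (g • v))]
    congr 1
    funext k
    rcases eq_or_ne k j with rfl | hkj
    · simp [u]
    · simp [u, hkj, he]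
  have h2 : ψ (Wedge.wedge u) = 0 := by
    rw [hψ]
    exact b.det.map_coord_zero j (by simp [u, (hmk v).2 hv])
  have h3 := congrArg (fun f : Form p (fun _ : Fin n => Wedge.Pow m V) => f fun _ => Wedge.wedge u) (hfix g⁻¹)
  simp only [Form.smul_apply, inv_inv] at h3
  change ∏ _j : Fin n, ψ (g • Wedge.wedge u) = ∏ _j : Fin n, ψ (Wedge.wedge u) at h3
  rw [h1, h2, Finset.prod_const, Finset.prod_const, Finset.card_univ, Fintype.card_fin, zero_pow hn] at h3
  exact (pow_eq_zero_iff hn).1 h3

end Sys

end Cfsg.Agent.MaxClassLin
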