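import Cfsg.Agent.Lib.MaxClassLin.LocCentral
import Cfsg.Agent.Lib.MaxClassLin.LocDet

/-!
# The local analysis: `W mt` is invariant

When the normalizer `M` of `lev 0` is larger than the normalizer of `T`, the irreducible top of
`V / W mt` and the deepest layer normalized by the subgroup generated by the `p`-elements of `M`
are small compared with the budget of `T`, so the determinant argument applies.
-/

set_option autoImplicit false
set_option linter.unusedSectionVars false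
set_option linter.style.haveILetI false

namespace Cfsg.Agent.MaxClassLin

open scoped commutatorElement

theorem two_mul_sum_add_two : ∀ n : ℕ, 2 * ∑ k ∈ Finset.range n, (k + 2) = n * (n + 3)
  | 0 => rfl
  | n + 1 => by
    have := two_mul_sum_add_two n
    rw [Finset.sum_range_succ, Nat.mul_add, this]
    ring

/-- The arithmetic of the budget. -/
theorem budget_bound {p d L i mt u r e : ℕ} (hd : d < p) (hmtL : mt ≤ L) (hiL : i ≤ L)
    (humt : u ≤ mt) (hmtd : mt ≤ d) (hr : 2 ≤ r) (hri : r + 1 ≤ i) (he : 2 ≤ e) (hbig : p < u + 2 * r)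
    (hre : r ≤ e ∨ p ≤ r + e) (hue : u ≤ e ∨ p ≤ u + e) :
    mt * (d - mt) < e * (1 + L + ∑ k ∈ Finset.range (i - 2), (k + 2)) := by
  set B := 1 + L + ∑ k ∈ Finset.range (i - 2), (k + 2) with hB
  have hB2 : (r + 1) * (r + 2) ≤ 2 * B := by
    obtain ⟨q, rfl⟩ : ∃ q, r = q + 1 := ⟨r - 1, by omega⟩
    have h1 := two_mul_sum_add_two (i - 2)
    have h2 : q * (q + 3) ≤ (i - 2) * (i - 2 + 3) :=
      Nat.mul_le_mul (by omega) (by omega)
    rw [hB]
    nlinarith
  obtain ⟨c, rfl⟩ := Nat.exists_eq_add_of_le hmtd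
  rw [Nat.add_sub_cancel_left]
  rcases le_or_gt c e with hc | hc
  · calc mt * c ≤ L * e := Nat.mul_le_mul hmtL hc
      _ < e * B := by rw [mul_comm L e]; exact Nat.mul_lt_mul_of_pos_left (by omega) (by omega)
  have hue' : u ≤ e := hue.resolve_right (by omega)
  have h4 : 4 * (mt * c) ≤ (mt + c) * (mt + c) := by nlinarith [sq_nonneg ((mt : ℤ) - c)]
  have hkey : 4 * (mt * c) < e * (2 * ((r + 1) * (r + 2))) := by
    rcases le_or_gt r e with hr' | hr'
    · have hdb : mt + c ≤ e + 2 * r := by omega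
      have he2 : e ≤ 2 * r := by omega
      have h5 : (mt + c) * (mt + c) ≤ (e + 2 * r) * (e + 2 * r) := Nat.mul_le_mul hdb hdb
      have h6 : e * e ≤ e * (2 * r) := Nat.mul_le_mul_left e he2
      have h7 : r * r ≤ e * r := Nat.mul_le_mul_right r hr'
      have h8 : 5 * r < (r + 1) * (r + 2) := by nlinarith
      have h9 : e * (10 * r) < e * (2 * ((r + 1) * (r + 2))) :=
        Nat.mul_lt_mul_of_pos_left (by omega) (by omega)
      nlinarith
    · have hre' : p ≤ r + e := hre.resolve_left (by omega)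
      have hdb : mt + c ≤ 2 * r := by omega
      have h5 : (mt + c) * (mt + c) ≤ (2 * r) * (2 * r) := Nat.mul_le_mul hdb hdb
      have h6 : 2 * (r * r) ≤ e * (r * r) := Nat.mul_le_mul_right _ he
      have h9 : e * (r * r) < e * ((r + 1) * (r + 2)) :=
        Nat.mul_lt_mul_of_pos_left (by nlinarith) (by omega)
      nlinarith
  nlinarith [Nat.mul_le_mul_left e hB2]

variable {p : ℕ} [hp : Fact p.Prime] {X : Type*} [Group X] [Finite X] {V : Type*} [AddCommGroup V]
  [DistribMulAction X V]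

theorem units_pow_prime_pow (u : (ZMod p)ˣ) : ∀ n : ℕ, u ^ p ^ n = u
  | 0 => by rw [pow_zero, pow_one]
  | n + 1 => by
    rw [pow_succ, pow_mul, units_pow_prime_pow u n]
    exact Units.ext (by rw [Units.val_pow_eq_pow_val, ZMod.pow_card])

omit [Finite X] in
/-- A character kills the subgroup generated by the `p`-elements. -/
theorem hom_pRes_eq_one {M : Subgroup X} (χ : ↥M →* (ZMod p)ˣ) {g : X} (hg : g ∈ pRes p M) :
    χ ⟨g, pRes_le M hg⟩ = 1 := by
  induction hg using Subgroup.closure_induction with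
  | mem g hg =>
    obtain ⟨hgM, n, hn⟩ := hg
    have h := congrArg χ (show (⟨g, hgM⟩ : ↥M) ^ p ^ n = 1 from Subtype.ext hn)
    rwa [map_pow, map_one, units_pow_prime_pow] at h
  | one => exact map_one χ
  | mul a b ha hb hca hcb =>
    show χ (⟨a, pRes_le M ha⟩ * ⟨b, pRes_le M hb⟩) = 1
    rw [map_mul, hca, hcb, one_mul]
  | inv a ha hca =>
    show χ (⟨a, pRes_le M ha⟩⁻¹) = 1
    rw [map_inv, hca, inv_one]

namespace Sys

variable (S : Sys p X V)

/-- Frattini for a subgroup containing `T`. -/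
theorem exists_mul_mem_normalizer {Y : Subgroup X} (hT : S.T ≤ Y) {g : X}
    (hg : ∀ t ∈ S.T, g * t * g⁻¹ ∈ Y) :
    ∃ m ∈ Y, m * g ∈ Subgroup.normalizer (S.T : Set X) := by
  obtain ⟨P, hP⟩ := S.sylow
  have h1 : (P : Subgroup X) ≤ Y := hP ▸ hT
  have h2 : ((g • P : Sylow p X) : Subgroup X) ≤ Y := by
    rintro _ ⟨t, ht, rfl⟩
    exact hg t (hP ▸ ht)
  obtain ⟨m, hm⟩ := MulAction.exists_smul_eq ↥Y ((g • P).subtype h2) (P.subtype h1)
  simp_rw [Sylow.smul_subtype, Subgroup.smul_def, smul_smul] at hm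
  refine ⟨m, m.2, ?_⟩
  have := Sylow.smul_eq_iff_mem_normalizer.1 (Sylow.subtype_injective hm)
  rw [← hP]
  exact this

omit [Finite X] in
/-- The commutator subgroup of normalized subgroups is normalized. -/
theorem conj_commutator_mem {H K Y : Subgroup X} (hH : Y ≤ Subgroup.normalizer (H : Set X))
    (hK : Y ≤ Subgroup.normalizer (K : Set X)) {g : X} (hg : g ∈ Y) {q : X} (hq : q ∈ ⁅H, K⁆) :
    g * q * g⁻¹ ∈ ⁅H, K⁆ := by
  have hle : ⁅H, K⁆ ≤ (⁅H, K⁆).comap (MulAut.conj g).toMonoidHom := by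
    rw [Subgroup.commutator_le]
    intro a ha b hb
    show MulAut.conj g ⁅a, b⁆ ∈ ⁅H, K⁆
    rw [show MulAut.conj g ⁅a, b⁆ = ⁅g * a * g⁻¹, g * b * g⁻¹⁆ by
      simp [commutatorElement_def, MulAut.conj_apply, mul_assoc]]
    exact Subgroup.commutator_mem_commutator ((Subgroup.mem_normalizer_iff.1 (hH hg) a).1 ha)
      ((Subgroup.mem_normalizer_iff.1 (hK hg) b).1 hb)
  exact hle hq

omit [Finite X] in
/-- A subgroup of order `p` normalized by `Y` is centralized by its `p`-elements. -/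
theorem conj_last_eq {Y : Subgroup X} (hY : Y ≤ Subgroup.normalizer (S.lev (S.i - 2) : Set X))
    {y : X} (hy : y ∈ pRes p Y) {z : X} (hz : z ∈ S.lev (S.i - 2)) : y * z * y⁻¹ = z := by
  induction hy using Subgroup.closure_induction generalizing z with
  | mem y hy =>
    obtain ⟨hyY, n, hn⟩ := hy
    rcases eq_or_ne z 1 with rfl | hz1
    · simp
    have hle : S.lev (S.i - 2) ≤ Subgroup.zpowers z := by
      refine S.lev_le_of_mem hz ?_ (Subgroup.mem_zpowers z) ?_
      · rw [S.lev_bot _ (by have := S.two_le; omega), Subgroup.mem_bot]; exact hz1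
      · rw [S.lev_bot _ (by have := S.two_le; omega)]; exact bot_le
    have hzT := S.lev_le_T _ hz
    obtain ⟨c, hc⟩ : ∃ c : ℕ, y * z * y⁻¹ = z ^ c := by
      obtain ⟨a, ha⟩ := Subgroup.mem_zpowers_iff.1 (hle ((Subgroup.mem_normalizer_iff.1 (hY hyY) z).1 hz))
      have ho : orderOf z = p := orderOf_eq_prime (S.pow_p_eq_one (S.unip_eq.symm ▸ hzT)) hz1
      refine ⟨(a % (p : ℤ)).toNat, ?_⟩
      rw [← ha, ← zpow_natCast,
        Int.toNat_of_nonneg (Int.emod_nonneg _ (by exact_mod_cast hp.out.ne_zero)), ← ho, zpow_mod_orderOf]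
    have hiter : ∀ m : ℕ, y ^ m * z * (y ^ m)⁻¹ = z ^ c ^ m := by
      intro m
      induction m with
      | zero => simp
      | succ m ih =>
        calc y ^ (m + 1) * z * (y ^ (m + 1))⁻¹ = y ^ m * (y * z * y⁻¹) * (y ^ m)⁻¹ := by
              rw [pow_succ]; group
          _ = (y ^ m * z * (y ^ m)⁻¹) ^ c := by rw [hc, conj_pow]
          _ = z ^ c ^ (m + 1) := by rw [ih, ← pow_mul, pow_succ]
    have h1 := hiter (p ^ n)
    rw [hn, inv_one, one_mul, mul_one] at h1
    have h2 : (((c ^ p ^ n : ℕ) : ℕ) : ZMod p) = (c : ZMod p) := by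
      rw [Nat.cast_pow]
      induction n with
      | zero => rw [pow_zero, pow_one]
      | succ n ih => rw [pow_succ, pow_mul, ZMod.pow_card] ; exact ZMod.pow_card_pow _
    rw [hc, ← S.pow_congr hzT h2, ← h1]
  | one => simp
  | mul a b ha hb hca hcb =>
    have hb' : b * z * b⁻¹ = z := hcb hz
    calc a * b * z * (a * b)⁻¹ = a * (b * z * b⁻¹) * a⁻¹ := by group
      _ = z := by rw [hb', hca hz]
  | inv a ha hca =>
    calc a⁻¹ * z * a⁻¹⁻¹ = a⁻¹ * (a * z * a⁻¹) * a⁻¹⁻¹ := by rw [hca hz]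
      _ = z := by group

/-- **The local analysis.** -/
theorem dsp_invariant
    (hne : ¬ Subgroup.normalizer (S.lev 0 : Set X) ≤ Subgroup.normalizer (S.T : Set X))
    (hTI : ∀ g, g ∉ Subgroup.normalizer (S.lev 0 : Set X) → ∀ t ∈ S.T,
      g⁻¹ * t * g ∈ Subgroup.normalizer (S.lev 0 : Set X) → t = 1) :
    ∀ g : X, ∀ v ∈ S.W S.mt, g • v ∈ S.W S.mt := by
  classical
  haveI : Fact (1 < p) := ⟨hp.out.one_lt⟩
  set M := Subgroup.normalizer (S.lev 0 : Set X) with hM
  set N := Subgroup.normalizer (S.T : Set X) with hN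
  set M₀ := pRes p M with hM₀
  have hTM : S.T ≤ M := S.lev_normal 0
  have hNM : N ≤ M := S.normalizer_T_le_lev 0
  have hM₀M : M₀ ≤ M := pRes_le M
  have hTM₀ : S.T ≤ M₀ := le_pRes S.isPGroup_T hTM
  have hTN : S.T ≤ N := Subgroup.le_normalizer
  have hconj : ∀ m ∈ M, ∀ g ∈ M₀, m * g * m⁻¹ ∈ M₀ := fun m hm g hg =>
    conj_mem_pRes (Subgroup.le_normalizer hm) hg
  -- the indices
  set e₀ := S.T.relIndex (N ⊓ M₀) with he₀
  set n := (N ⊓ M₀).relIndex N with hn
  have he₀0 : e₀ ≠ 0 := Subgroup.FiniteIndex.index_ne_zero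
  have hn0 : n ≠ 0 := Subgroup.FiniteIndex.index_ne_zero
  have hen : e₀ * n ≤ p - 1 := by
    rw [he₀, hn, Subgroup.relIndex_mul_relIndex _ _ _ (le_inf hTN hTM₀) inf_le_left]
    have hker : (S.wt).ker = S.T.subgroupOf N := by
      ext h
      exact S.wt_eq_one_iff h
    show (S.T.subgroupOf N).index ≤ p - 1
    rw [← hker, Subgroup.index_ker]
    refine (Subgroup.card_le_card_group _).trans ?_
    rw [Nat.card_eq_fintype_card, ZMod.card_units]
  have hwe : ∀ h ∈ M₀, h ∈ N → S.wtX h ^ e₀ = 1 := by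
    intro h hh hhN
    haveI : (S.T.subgroupOf (N ⊓ M₀)).Normal :=
      ⟨fun a ha k => (Subgroup.mem_normalizer_iff.1 k.2.1 (a : X)).1 ha⟩
    have hmem := (S.T.subgroupOf (N ⊓ M₀)).pow_index_mem ⟨h, hhN, hh⟩
    have hmem' : h ^ e₀ ∈ S.T := hmem
    rw [S.wtX_eq hhN, ← map_pow]
    exact (S.wt_eq_one_iff _).2 hmem'
  have he2 : 2 ≤ e₀ := by
    by_contra hlt
    have he1 : e₀ = 1 := by omega
    have hN₀ := S.le_normalizer_T_of_wt hM₀M hTM₀ fun h hh hhN => by
      simpa [he1] using hwe h hh hhN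
    refine hne fun g hg => ?_
    refine Subgroup.mem_normalizer_fintype fun t ht => ?_
    exact S.mem_T_of_pow (hN₀ (hconj g hg t (hTM₀ ht)))
      (by rw [conj_pow, S.pow_p_eq_one (S.unip_eq.symm ▸ ht)]; group)
  -- the characters
  have hχ : ∀ χ : ↥M →* (ZMod p)ˣ, ∀ g, χ g ^ n = 1 := by
    intro χ g
    obtain ⟨m, hm, hmg⟩ := S.exists_mul_mem_normalizer hTM₀ (g := (g : X))
      fun t ht => hconj g g.2 t (hTM₀ ht)
    haveI : ((N ⊓ M₀).subgroupOf N).Normal := ⟨fun a ha k => ⟨(k * a * k⁻¹).2, hconj _ (hNM k.2) _ ha.2⟩⟩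
    have hmem := ((N ⊓ M₀).subgroupOf N).pow_index_mem ⟨m * g, hmg⟩
    have hmem' : (m * (g : X)) ^ n ∈ M₀ := (Subgroup.mem_subgroupOf.1 hmem).2
    have h1 : χ (⟨m, hM₀M hm⟩ * g) ^ n = 1 := by
      rw [← map_pow]
      exact (congrArg χ (Subtype.ext (by simp) : (⟨m, hM₀M hm⟩ * g) ^ n = (⟨_, pRes_le M hmem'⟩ : ↥M))).trans
        (hom_pRes_eq_one χ hmem')
    rwa [map_mul, hom_pRes_eq_one χ hm, one_mul] at h1
  -- the deepest normalized layer
  have hi := S.two_le
  set k₀ := Nat.findGreatest (fun k => M₀ ≤ Subgroup.normalizer (S.lev k : Set X)) (S.i - 2) with hk₀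
  have hk₀i : k₀ + 2 ≤ S.i := by
    have : k₀ ≤ S.i - 2 := Nat.findGreatest_le _
    omega
  have hk₀N : M₀ ≤ Subgroup.normalizer (S.lev k₀ : Set X) :=
    Nat.findGreatest_spec (P := fun k => M₀ ≤ Subgroup.normalizer (S.lev k : Set X)) (Nat.zero_le _) hM₀M
  have hk₀max : ∀ l, k₀ < l → l + 2 ≤ S.i → ¬ M₀ ≤ Subgroup.normalizer (S.lev l : Set X) :=
    fun l h1 h2 => Nat.findGreatest_is_greatest (P := fun k => M₀ ≤ Subgroup.normalizer (S.lev k : Set X))
      h1 (by omega)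
  have hdeep : ∀ Q : Subgroup X, Q ≤ S.lev (k₀ + 1) → (∀ g ∈ M₀, ∀ q ∈ Q, g * q * g⁻¹ ∈ Q) → Q = ⊥ := by
    intro Q hQ hQn
    obtain ⟨j, hj, hQj⟩ := S.eq_lev (Q := Q) (hQ.trans (S.lev_anti (Nat.zero_le _))) fun q hq => by
      rw [commutatorElement_def, show q * S.x * q⁻¹ * S.x⁻¹ = q * (S.x * q⁻¹ * S.x⁻¹) by group]
      exact mul_mem hq (hQn _ (hTM₀ S.x_mem) _ (inv_mem hq))
    rcases le_or_gt j k₀ with hjk | hjk
    · obtain ⟨c, hc, hc1⟩ := S.exists_lev_exact hk₀i
      exact absurd (hQ (hQj ▸ S.lev_anti hjk hc)) hc1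
    · rcases le_or_gt (j + 2) S.i with hji | hji
      · exact absurd (fun g hg => Subgroup.mem_normalizer_fintype fun q hq => by
          rw [← hQj, SetLike.mem_coe] at hq ⊢
          exact hQn g hg q hq) (hk₀max j hjk hji)
      · rw [hQj, S.lev_bot j (by omega)]
  have hcomm : ∀ a, (M₀ ≤ Subgroup.normalizer (S.lev a : Set X)) → ∀ c ∈ S.lev a, ∀ c' ∈ S.lev k₀,
      c * c' = c' * c := by
    intro a ha c hc c' hc'
    have hbot : ⁅S.lev a, S.lev k₀⁆ = ⊥ := by
      refine hdeep _ (Subgroup.commutator_le.2 fun x hx y hy => S.lev_anti (by omega) (S.comm a k₀ x hx y hy))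
        fun g hg q hq => conj_commutator_mem ha hk₀N hg hq
    have := Subgroup.commutator_mem_commutator hc hc'
    rw [hbot, Subgroup.mem_bot, commutatorElement_eq_one_iff_mul_comm] at this
    exact this
  have hLay : S.LayInv M₀ k₀ := ⟨hk₀N, hcomm k₀ hk₀N⟩
  have hBlkR := layBlk hLay hM₀M hTM₀ hk₀i (hcomm 0 hM₀M) hk₀max
  -- the irreducible top
  obtain ⟨u, hu1, hud, hinv, hmin⟩ := S.exists_least M₀
  have hmt2 := S.two_le_mt
  have humt : u ≤ S.mt := hmin S.mt (by omega) fun g hg v hv => S.smul_mem_W_mt (hM₀M hg) hv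
  have hSec := S.top_sec hinv
  have hBlkU := secBlk hSec hM₀M hTM₀ hu1 hud
    (fun c hc v => S.W_anti humt (S.dsp_mt ▸ S.mem_dsp hc v)) hmin
  have hd := S.d_lt
  have hiL := S.i_le_L
  set r := S.i - 1 - k₀ with hr
  have hre : r ≤ e₀ ∨ p ≤ r + e₀ := by
    refine or_iff_not_imp_right.2 fun hlt => ?_
    have := Gr.top_lt hBlkR (k := e₀) (by omega) (fun h hh => hwe _ h.2 hh)
      (show S.i - 2 - k₀ + e₀ + 1 ≤ p - 1 by omega)
    change S.i - 2 - k₀ < e₀ at this
    omega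
  have hue : u ≤ e₀ ∨ p ≤ u + e₀ := by
    refine or_iff_not_imp_right.2 fun hlt => ?_
    have := Gr.top_lt hBlkU (k := e₀) (by omega) (fun h hh => hwe _ h.2 hh)
      (show u - 0 - 1 + e₀ + 1 ≤ p - 1 by omega)
    change u - 0 - 1 < e₀ at this
    omega
  -- the deepest layer is not cyclic
  have hr2 : 2 ≤ r := by
    by_contra hlt
    have hk : k₀ = S.i - 2 := by omega
    rw [hk] at hk₀N
    have hN₀ := S.le_normalizer_T_of_central hM₀M hTM₀ fun y hy z hz => by
      have hyy : y ∈ pRes p M₀ := by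
        have : M₀ ≤ pRes p M₀ := (Subgroup.closure_le _).2 fun g hg =>
          Subgroup.subset_closure ⟨Subgroup.subset_closure hg, hg.2⟩
        exact this hy
      exact S.conj_last_eq hk₀N hyy hz
    refine hne fun g hg => ?_
    refine Subgroup.mem_normalizer_fintype fun t ht => ?_
    exact S.mem_T_of_pow (hN₀ (hconj g hg t (hTM₀ ht)))
      (by rw [conj_pow, S.pow_p_eq_one (S.unip_eq.symm ▸ ht)]; group)
  -- the pairing
  have hbig : p < u + 2 * r := by
    by_contra hle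
    obtain ⟨z, hzl, hz1⟩ := S.exists_last
    have hzk : z ∈ S.lev k₀ := S.lev_anti (show k₀ ≤ S.i - 2 by omega) hzl
    set P := (layGr hLay hM₀M hTM₀).hom (secGr hSec hM₀M hTM₀) with hP
    obtain ⟨e, he, he1⟩ := S.exists_exact (l := 0) (by omega)
    obtain ⟨φ, hφe, hφ⟩ := exists_functional (p := p) (secF hSec 1) (e := secMk hSec ⟨e, he⟩)
      fun hmem => he1 (by simpa using (secMk_mem hSec (by omega)).1 hmem)
    obtain ⟨χz, hχz, -⟩ := exists_functional (p := p) (⊥ : AddSubgroup (S.Lay hLay))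
      (e := layMk hLay ⟨z, hzk⟩) (by
        rw [AddSubgroup.mem_bot]
        intro h
        exact hz1 (congrArg Subtype.val ((layMk_inj hLay).1 (h.trans rfl : _ = layMk hLay 1))))
    let ev : HomRep (S.Lay hLay) (S.Sec hSec) →+ ZMod p :=
      { toFun := fun f => φ (f (layMk hLay ⟨z, hzk⟩))
        map_zero' := map_zero φ
        map_add' := fun f g => map_add φ _ _ }
    let ψ₀ : HomRep (S.Lay hLay) (S.Sec hSec) := HomRep.of
      { toFun := fun w => χz w • secMk hSec ⟨e, he⟩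
        map_zero' := by rw [map_zero, zero_smul]
        map_add' := fun v w => by rw [map_add, add_smul] }
    refine Gr.pairing_false hBlkR P ev (fun f hf => hφ _ ?_) (ψ := ψ₀) ?_ (fun h hh => ?_)
      (show 1 ≤ S.i - 2 - k₀ by omega) (show S.i - 2 - k₀ + (u - 0 - 1) + (S.i - 2 - k₀) + 2 ≤ p - 1 by omega)
    · have hztop : layMk hLay ⟨z, hzk⟩ ∈ layF hLay (S.i - 2 - k₀) := by
        rw [layMk_mem, show k₀ + (S.i - 2 - k₀) = S.i - 2 by omega]
        exact hzl
      have := Gr.mem_hom.1 hf (S.i - 2 - k₀) _ hztop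
      change _ ∈ secF hSec (S.i - 2 - k₀ + 1 - (S.i - 2 - k₀)) at this
      rwa [Nat.add_sub_cancel_left] at this
    · show φ (χz _ • secMk hSec ⟨e, he⟩) = 1
      rw [hχz, one_smul, hφe]
    · show S.wtX (h : X) ^ (S.L + 1 + 0) *
        (S.wtX (h : X) ^ (S.L + k₀ + 2 - S.i) * S.wtX (h : X) ^ (S.i - 2 - k₀))⁻¹ = S.wtX (h : X)
      rw [← pow_add, show S.L + k₀ + 2 - S.i + (S.i - 2 - k₀) = S.L by omega, Nat.add_zero, pow_succ,
        mul_right_comm, mul_inv_cancel, one_mul]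
  -- the determinant
  refine S.dsp_invariant_of_budget hTI n hn0 hχ ?_
  have hb := budget_bound hd S.mt_le_L hiL humt S.mt_le hr2 (by omega : r + 1 ≤ S.i) he2 hbig hre hue
  calc n * (S.mt * (S.d - S.mt)) < n * (e₀ * S.budget) :=
        Nat.mul_lt_mul_of_pos_left hb (Nat.pos_of_ne_zero hn0)
    _ = e₀ * n * S.budget := by ring
    _ ≤ (p - 1) * S.budget := Nat.mul_le_mul_right _ hen

end Sys

end Cfsg.Agent.MaxClassLin
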