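import Cfsg.Agent.Lib.MaxClassLin.LocMod

/-!
# Subgroups centralizing the last layer

A subgroup between `T` and the normalizer of `lev 0` that centralizes the last layer normalizes
`T`; in particular so does one whose part normalizing `T` has trivial weights.
-/

set_option autoImplicit false
set_option linter.unusedSectionVars false
set_option linter.style.haveILetI false

namespace Cfsg.Agent.MaxClassLin

open scoped commutatorElement

/-- A functional equal to one at a given vector outside a subgroup and zero on the subgroup. -/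
theorem exists_functional {p : ℕ} [Fact p.Prime] {U : Type*} [AddCommGroup U] [Module (ZMod p) U]
    (P : AddSubgroup U) {e : U} (he : e ∉ P) : ∃ φ : U →+ ZMod p, φ e = 1 ∧ ∀ v ∈ P, φ v = 0 := by
  obtain ⟨f, hfe, hf⟩ := Submodule.exists_dual_map_eq_bot_of_notMem (R := ZMod p)
    (p := AddSubgroup.toZModSubmodule p P) (x := e) he inferInstance
  refine ⟨((f e)⁻¹ • f).toAddMonoidHom, ?_, fun v hv => ?_⟩
  · show (f e)⁻¹ * f e = 1
    rw [inv_mul_cancel₀ hfe]
  · show (f e)⁻¹ * f v = 0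
    have : f v = 0 := by
      have h := Submodule.mem_map_of_mem (f := f) (show v ∈ AddSubgroup.toZModSubmodule p P from hv)
      rwa [hf, Submodule.mem_bot] at h
    rw [this, mul_zero]

variable {p : ℕ} [hp : Fact p.Prime] {X : Type*} [Group X] [Finite X] {V : Type*} [AddCommGroup V]
  [DistribMulAction X V]

namespace Sys

variable (S : Sys p X V) {Y : Subgroup X}

omit [Finite X] in
/-- The part of a group normalizing `T` and inside `T` modulo weights. -/
theorem wtX_eq_one {g : X} (hg : g ∈ Subgroup.normalizer (S.T : Set X)) (h : S.wtX g = 1) : g ∈ S.T := by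
  rw [S.wtX_eq hg] at h
  exact (S.wt_eq_one_iff _).1 h

/-- With trivial weights the flag is invariant. -/
theorem le_normalizer_T_of_wt (hY : Y ≤ Subgroup.normalizer (S.lev 0 : Set X)) (hT : S.T ≤ Y)
    (hw : ∀ h ∈ Y, h ∈ Subgroup.normalizer (S.T : Set X) → S.wtX h = 1) :
    Y ≤ Subgroup.normalizer (S.T : Set X) := by
  suffices hinv : ∀ l, ∀ g ∈ Y, ∀ v ∈ S.W l, g • v ∈ S.W l from fun g hg =>
    S.mem_normalizer_of_flag (fun l => hinv l g hg) fun l => hinv l g⁻¹ (inv_mem hg)
  intro l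
  induction l with
  | zero => intro g _ v _; rw [S.W_zero]; exact AddSubgroup.mem_top _
  | succ l ih =>
    intro g hg v hv
    rcases le_or_gt S.d (l + 1) with hl | hl
    · rw [S.W_bot _ hl, AddSubgroup.mem_bot] at hv
      rw [hv, smul_zero]
      exact zero_mem _
    have h : S.SecInv Y l S.d := fun g' hg' => ⟨ih g' hg', fun u hu => by
      rw [S.W_bot _ le_rfl, AddSubgroup.mem_bot] at hu ⊢
      rw [hu, smul_zero]⟩
    obtain ⟨e, he, he1⟩ := S.exists_exact (l := l) (by omega)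
    obtain ⟨φ, hφe, hφ⟩ := exists_functional (p := p) (secF h 1) (e := secMk h ⟨e, he⟩)
      fun hmem => he1 ((secMk_mem h (by omega)).1 hmem)
    have hinv := (secGr h hY hT).functional_fixed φ hφ (fun k hk => by
      show S.wtX (k : X) ^ (S.L + 1 + l) = 1
      rw [hw k k.2 hk, one_pow]) (by
      show S.d - l - 1 + 1 ≤ p - 1
      have := S.d_lt; omega) ⟨g, hg⟩ (secMk h ⟨v, S.W_succ_le l hv⟩)
    rw [hφ _ ((secMk_mem h (by omega)).2 hv), smul_secMk] at hinv
    obtain ⟨c, hc⟩ := S.exists_nsmul he he1 (ih g hg v (S.W_succ_le l hv))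
    have h1 : φ (secMk h (secHom h ⟨g, hg⟩ ⟨v, S.W_succ_le l hv⟩ - c • (⟨e, he⟩ : ↥(S.W l)))) = 0 :=
      hφ _ ((secMk_mem h (by omega)).2 hc)
    rw [map_sub, map_sub, hinv, map_nsmul, map_nsmul, hφe, nsmul_one, zero_sub, neg_eq_zero] at h1
    rwa [S.nsmul_eq (a := c) (b := 0) (by simpa using h1), zero_smul, sub_zero] at hc

omit [Finite X] in
/-- The least invariant proper layer. -/
theorem exists_least (Y : Subgroup X) : ∃ u, 1 ≤ u ∧ u ≤ S.d ∧
    (∀ g ∈ Y, ∀ v ∈ S.W u, g • v ∈ S.W u) ∧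
    ∀ l, 1 ≤ l → (∀ g ∈ Y, ∀ v ∈ S.W l, g • v ∈ S.W l) → u ≤ l := by
  classical
  have hex : ∃ u, 1 ≤ u ∧ ∀ g ∈ Y, ∀ v ∈ S.W u, g • v ∈ S.W u := ⟨S.d,
    by have := S.three_le_d; omega, fun g _ v hv => by
      rw [S.W_bot _ le_rfl, AddSubgroup.mem_bot] at hv ⊢
      rw [hv, smul_zero]⟩
  exact ⟨Nat.find hex, (Nat.find_spec hex).1, Nat.find_min' hex
    ⟨by have := S.three_le_d; omega, fun g _ v hv => by
      rw [S.W_bot _ le_rfl, AddSubgroup.mem_bot] at hv ⊢
      rw [hv, smul_zero]⟩, (Nat.find_spec hex).2,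
    fun l hl h => Nat.find_min' hex ⟨hl, h⟩⟩

omit [Finite X] in
/-- The top section as a block. -/
theorem top_sec {u : ℕ} (hinv : ∀ g ∈ Y, ∀ v ∈ S.W u, g • v ∈ S.W u) : S.SecInv Y 0 u :=
  fun g hg => ⟨fun v _ => by rw [S.W_zero]; exact AddSubgroup.mem_top _, hinv g hg⟩

omit [Finite X] in
/-- The weight fixes an element of the last layer only when its `L`-th power is trivial. -/
theorem wtX_pow_L {h z : X} (hh : h ∈ Subgroup.normalizer (S.T : Set X)) (hz : z ∈ S.lev (S.i - 2))
    (hz1 : z ≠ 1) (hfix : h * z * h⁻¹ = z) : S.wtX h ^ S.L = 1 := by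
  haveI : Fact (1 < p) := ⟨hp.out.one_lt⟩
  have := S.wt_lev ⟨h, hh⟩ hz
  rw [← S.wtX_eq hh, hfix, show S.L + (S.i - 2) + 2 - S.i = S.L by have := S.two_le; omega,
    S.lev_bot _ (by omega), Subgroup.mem_bot, mul_inv_eq_one] at this
  set c := ((S.wtX h ^ S.L : (ZMod p)ˣ) : ZMod p)
  have ho : orderOf z = p :=
    orderOf_eq_prime (S.pow_p_eq_one (S.unip_eq.symm ▸ S.lev_le_T _ hz)) hz1
  have h1 : z ^ 1 = z ^ c.val := by rw [pow_one]; exact this
  rw [pow_eq_pow_iff_modEq, ho, ← ZMod.natCast_eq_natCast_iff, Nat.cast_one, ZMod.natCast_zmod_val] at h1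
  exact Units.val_eq_one.1 h1.symm

/-- A subgroup centralizing the last layer normalizes `T`. -/
theorem le_normalizer_T_of_central (hY : Y ≤ Subgroup.normalizer (S.lev 0 : Set X)) (hT : S.T ≤ Y)
    (hz : ∀ y ∈ Y, ∀ z ∈ S.lev (S.i - 2), y * z * y⁻¹ = z) :
    Y ≤ Subgroup.normalizer (S.T : Set X) := by
  haveI : Fact (1 < p) := ⟨hp.out.one_lt⟩
  obtain ⟨z, hzl, hz1⟩ := S.exists_last
  have hwL : ∀ h ∈ Y, h ∈ Subgroup.normalizer (S.T : Set X) → S.wtX h ^ S.L = 1 :=
    fun h hh hn => S.wtX_pow_L hn hzl hz1 (hz h hh z hzl)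
  obtain ⟨u, hu1, hud, hinv, hmin⟩ := S.exists_least Y
  have humt : u ≤ S.mt :=
    hmin S.mt (by have := S.two_le_mt; omega) fun g hg v hv => S.smul_mem_W_mt (hY hg) hv
  -- the fixed points of `z`
  let K : AddSubgroup V :=
    { carrier := {v | z • v = v}
      zero_mem' := smul_zero z
      add_mem' := fun {v w} hv hw => by
        show z • (v + w) = v + w
        rw [smul_add, hv, hw]
      neg_mem' := fun {v} hv => by
        show z • -v = -v
        rw [smul_neg, hv] }
  have hKinv : ∀ g ∈ Y, ∀ v ∈ K, g • v ∈ K := fun g hg v hv => by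
    show z • g • v = g • v
    conv_lhs => rw [← hz g hg z hzl]
    rw [mul_smul, mul_smul, inv_smul_smul, show z • v = v from hv]
  obtain ⟨j, hjd, hKj⟩ := S.eq_W (U := K) fun v hv => hKinv _ (hT S.x_mem) v hv
  have hj : j ≤ S.d - S.L := by
    refine S.le_of_W_le hjd ?_
    rw [← hKj]
    intro v hv
    have := S.last_shift hzl (S.d - S.L) v hv
    rw [S.W_bot _ (by have := S.L_lt; omega), AddSubgroup.mem_bot, sub_eq_zero] at this
    exact this
  have hj1 : 1 ≤ j := by
    rcases Nat.eq_zero_or_pos j with h0 | h0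
    · refine absurd (S.faithful z fun v => ?_) hz1
      have : v ∈ K := by rw [hKj, h0, S.W_zero]; exact AddSubgroup.mem_top v
      exact this
    · exact h0
  have huL : u ≤ S.d - S.L :=
    (hmin j hj1 fun g hg v hv => by rw [← hKj] at hv ⊢; exact hKinv g hg v hv).trans hj
  rcases eq_or_lt_of_le hu1 with h1 | h2
  · -- `W 1` is invariant
    subst h1
    let Y' : Subgroup X :=
      { carrier := {g | g ∈ Y ∧ ∀ v : V, g • v - v ∈ S.W 1}
        one_mem' := ⟨one_mem Y, fun v => by simp⟩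
        mul_mem' := fun {a b} ha hb => ⟨mul_mem ha.1 hb.1, fun v => by
          have := add_mem (ha.2 (b • v)) (hb.2 v)
          rwa [sub_add_sub_cancel, ← mul_smul] at this⟩
        inv_mem' := fun {a} ha => ⟨inv_mem ha.1, fun v => by
          have := neg_mem (ha.2 (a⁻¹ • v))
          rwa [smul_inv_smul, neg_sub] at this⟩ }
    have hstab0 : ∀ t ∈ S.T, ∀ v : V, t • v - v ∈ S.W 1 := fun t ht v =>
      S.stab t ht 0 v (by rw [S.W_zero]; exact AddSubgroup.mem_top v)
    have hY' : Y' ≤ Subgroup.normalizer (S.T : Set X) := by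
      refine S.le_normalizer_T_of_wt (fun g hg => hY hg.1) (fun t ht => ⟨hT ht, hstab0 t ht⟩) fun h hh hn => ?_
      have e1 := S.scal_unique (l := 0) (by have := S.three_le_d; omega) (S.wt_scal ⟨h, hn⟩ 0)
        (b := 1) fun v _ => by rw [ZMod.val_one, one_smul]; exact hh.2 v
      rw [Units.val_eq_one, Nat.add_zero, ← S.wtX_eq hn, pow_succ, hwL h hh.1 hn, one_mul] at e1
      exact e1
    intro g hg
    refine Subgroup.mem_normalizer_fintype fun t ht => ?_
    refine S.mem_T_of_pow (hY' ⟨mul_mem (mul_mem hg (hT ht)) (inv_mem hg), fun v => ?_⟩) ?_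
    · have := hinv g hg _ (hstab0 t ht (g⁻¹ • v))
      rwa [smul_sub, smul_inv_smul, ← mul_smul, ← mul_smul] at this
    · rw [conj_pow, S.pow_p_eq_one (S.unip_eq.symm ▸ ht)]
      group
  · exfalso
    have h := S.top_sec hinv
    have hB := secBlk h hY hT hu1 hud
      (fun c hc v => S.W_anti humt (S.dsp_mt ▸ S.mem_dsp hc v)) hmin
    obtain ⟨e, he, he1⟩ := S.exists_exact (l := 0) (by omega)
    obtain ⟨φ, hφe, hφ⟩ := exists_functional (p := p) (secF h 1) (e := secMk h ⟨e, he⟩)
      fun hmem => he1 (by simpa using (secMk_mem h (by omega)).1 hmem)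
    have hL := S.mt_le_L
    have hd := S.d_lt
    exact Gr.pairing_false hB (secGr h hY hT) φ hφ hφe (fun k hk => by
      show S.wtX (k : X) ^ (S.L + 1 + 0) = S.wtX (k : X)
      rw [Nat.add_zero, pow_succ, hwL k k.2 hk, one_mul])
      (show 1 ≤ u - 0 - 1 by omega) (show u - 0 - 1 + (u - 0 - 1) + 2 ≤ p - 1 by omega)

end Sys

end Cfsg.Agent.MaxClassLin
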