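import Cfsg.Agent.Lib.MaxClassLin.LocRep
import Cfsg.Agent.Lib.MaxClassLin.Layer

/-!
# The local modules of a uniserial system

The frame of a subgroup `Y` between `T` and the normalizer of `lev 0`, the sections of `V` and
the abelian layers `lev k` as graded modules.
-/

set_option autoImplicit false
set_option linter.unusedSectionVars false
set_option linter.style.haveILetI false

namespace Cfsg.Agent.MaxClassLin

open scoped commutatorElement

variable {p : ℕ} [hp : Fact p.Prime] {X : Type*} [Group X] [Finite X] {V : Type*} [AddCommGroup V]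
  [DistribMulAction X V]

namespace Sys

variable (S : Sys p X V)

open Classical in
/-- The weight, extended to the whole group. -/
noncomputable def wtX (g : X) : (ZMod p)ˣ :=
  if h : g ∈ Subgroup.normalizer (S.T : Set X) then S.wt ⟨g, h⟩ else 1

omit [Finite X] in
theorem wtX_eq {g : X} (h : g ∈ Subgroup.normalizer (S.T : Set X)) : S.wtX g = S.wt ⟨g, h⟩ := by
  rw [wtX, dif_pos h]

omit [Finite X] in
theorem wtX_T {t : X} (ht : t ∈ S.T) : S.wtX t = 1 := by
  rw [S.wtX_eq (Subgroup.le_normalizer ht)]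
  exact (S.wt_eq_one_iff _).2 ht

omit [Finite X] in
theorem wtX_scal {h : X} (hh : h ∈ Subgroup.normalizer (S.T : Set X)) (l : ℕ) {v : V} (hv : v ∈ S.W l) :
    h • v - ((S.wtX h ^ (S.L + 1 + l) : (ZMod p)ˣ) : ZMod p).val • v ∈ S.W (l + 1) := by
  rw [S.wtX_eq hh]
  exact S.wt_scal ⟨h, hh⟩ l v hv

omit [Finite X] in
/-- A `p`-element of the normalizer of `T` lies in `T`. -/
theorem mem_T_of_pow {g : X} (hg : g ∈ Subgroup.normalizer (S.T : Set X)) (hgp : g ^ p = 1) :
    g ∈ S.T := by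
  refine (S.wt_eq_one_iff ⟨g, hg⟩).1 ?_
  have h1 : S.wt ⟨g, hg⟩ ^ p = 1 := by
    rw [← map_pow, show (⟨g, hg⟩ : ↥(Subgroup.normalizer (S.T : Set X))) ^ p = 1 from Subtype.ext hgp,
      map_one]
  have h2 : S.wt ⟨g, hg⟩ ^ (p - 1) = 1 := ZMod.units_pow_card_sub_one_eq_one p _
  have h3 : orderOf (S.wt ⟨g, hg⟩) ∣ Nat.gcd p (p - 1) :=
    Nat.dvd_gcd (orderOf_dvd_of_pow_eq_one h1) (orderOf_dvd_of_pow_eq_one h2)
  have h4 : Nat.gcd p (p - 1) = 1 :=
    (hp.out.coprime_iff_not_dvd.2 (Nat.not_dvd_of_pos_of_lt (by have := S.five_le; omega)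
      (by have := S.five_le; omega))).gcd_eq_one
  rw [h4, Nat.dvd_one, orderOf_eq_one_iff] at h3
  exact h3

variable {Y : Subgroup X}

/-- The frame of a subgroup between `T` and the normalizer of `lev 0`. -/
noncomputable def frame (hY : Y ≤ Subgroup.normalizer (S.lev 0 : Set X)) (hT : S.T ≤ Y) :
    Frame p Y where
  T := S.T.subgroupOf Y
  A := (S.lev 0).subgroupOf Y
  N := (Subgroup.normalizer (S.T : Set X)).subgroupOf Y
  x := ⟨S.x, hT S.x_mem⟩
  ω g := S.wtX g
  A_le _ ha := S.lev_le ha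
  T_le _ ht := Subgroup.le_normalizer (H := S.T) ht
  A_normal g a ha := by
    have := (Subgroup.mem_normalizer_iff.1 (inv_mem (hY g.2)) (a : X)).1 ha
    rw [inv_inv] at this
    exact this
  idx := (Subgroup.relIndex_subgroupOf hT).trans S.lev_index_zero
  x_mem := S.x_mem
  x_notMem := S.x_notMem
  ω_T t ht := S.wtX_T ht
  ti := by
    intro g hg t ht hgt
    by_contra ht0
    refine hg ?_
    have hmem : (g : X)⁻¹ * t * g ∈ S.T := by
      refine S.mem_T_of_pow hgt ?_
      rw [show ((g : X)⁻¹ * t * g) = (g : X)⁻¹ * t * ((g : X)⁻¹)⁻¹ by group, conj_pow,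
        S.pow_p_eq_one (S.unip_eq.symm ▸ (ht : (t : X) ∈ S.T))]
      group
    have hA : S.lev 0 ≤ S.T.comap (MulAut.conj (g : X)⁻¹).toMonoidHom := fun a ha =>
      S.lev_le ((Subgroup.mem_normalizer_iff.1 (inv_mem (hY g.2)) a).1 ha)
    have htA : (t : X) ∈ S.T.comap (MulAut.conj (g : X)⁻¹).toMonoidHom := by
      simpa using hmem
    have h2 := Subgroup.relIndex_mul_relIndex (S.lev 0)
      (S.T.comap (MulAut.conj (g : X)⁻¹).toMonoidHom ⊓ S.T) S.T (le_inf hA S.lev_le) inf_le_right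
    rw [S.lev_index_zero] at h2
    rcases hp.out.eq_one_or_self_of_dvd _ (Dvd.intro _ h2) with h | h
    · exact absurd (Subgroup.relIndex_eq_one.1 h ⟨htA, ht⟩) ht0
    · rw [h] at h2
      have h1 := mul_left_cancel₀ hp.out.ne_zero (h2.trans (mul_one p).symm)
      have hginv : (g : X)⁻¹ ∈ Subgroup.normalizer (S.T : Set X) :=
        Subgroup.mem_normalizer_fintype fun n hn => (Subgroup.relIndex_eq_one.1 h1 hn).1
      have := inv_mem hginv
      rwa [inv_inv] at this
  cop := by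
    rw [Ne, ZMod.natCast_eq_zero_iff]
    intro hdvd
    obtain ⟨P, hP⟩ := S.sylow
    refine P.not_dvd_index ?_
    rw [hP]
    refine hdvd.trans ?_
    rw [← Subgroup.inf_subgroupOf_right (Subgroup.normalizer (S.T : Set X)) Y,
      Subgroup.relIndex_subgroupOf inf_le_right]
    exact Subgroup.relIndex_dvd_index_of_le (le_inf Subgroup.le_normalizer hT)

/-! ### The sections of the module -/

/-- Two layers invariant under `Y`. -/
def SecInv (Y : Subgroup X) (a b : ℕ) : Prop :=
  ∀ g ∈ Y, (∀ v ∈ S.W a, g • v ∈ S.W a) ∧ ∀ v ∈ S.W b, g • v ∈ S.W b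

variable {a b : ℕ}

/-- The section of two invariant layers. -/
def Sec (_ : S.SecInv Y a b) := ↥(S.W a) ⧸ (S.W b).addSubgroupOf (S.W a)

variable {S} (h : S.SecInv Y a b)

instance : AddCommGroup (S.Sec h) :=
  inferInstanceAs (AddCommGroup (↥(S.W a) ⧸ (S.W b).addSubgroupOf (S.W a)))

instance : Module (ZMod p) (S.Sec h) :=
  QuotientAddGroup.zmodModule (n := p) (H := (S.W b).addSubgroupOf (S.W a)) fun v => by
    rw [AddSubgroup.mem_addSubgroupOf, AddSubgroup.coe_nsmul, S.tors]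
    exact zero_mem _

/-- The projection to the section. -/
def secMk : ↥(S.W a) →+ S.Sec h := QuotientAddGroup.mk' _

omit [Finite X] in
theorem secMk_surjective : Function.Surjective (secMk h) := QuotientAddGroup.mk'_surjective _

omit [Finite X] in
theorem secMk_eq_zero {v : ↥(S.W a)} : secMk h v = 0 ↔ (v : V) ∈ S.W b :=
  (QuotientAddGroup.eq_zero_iff v).trans AddSubgroup.mem_addSubgroupOf

/-- The action on the larger layer. -/
def secHom (g : Y) : ↥(S.W a) →+ ↥(S.W a) where
  toFun v := ⟨(g : X) • (v : V), (h g g.2).1 v v.2⟩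
  map_zero' := Subtype.ext (smul_zero _)
  map_add' v w := Subtype.ext (smul_add _ _ _)

instance : SMul Y (S.Sec h) :=
  ⟨fun g => QuotientAddGroup.map _ _ (secHom h g) fun v hv => (h g g.2).2 _ hv⟩

omit [Finite X] in
theorem smul_secMk (g : Y) (v : ↥(S.W a)) : g • secMk h v = secMk h (secHom h g v) := rfl

instance : DistribMulAction Y (S.Sec h) where
  one_smul w := by
    obtain ⟨v, rfl⟩ := secMk_surjective h w
    exact congrArg (secMk h) (Subtype.ext (one_smul X (v : V)))
  mul_smul g g' w := by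
    obtain ⟨v, rfl⟩ := secMk_surjective h w
    exact congrArg (secMk h) (Subtype.ext (mul_smul (g : X) (g' : X) (v : V)))
  smul_zero g := map_zero (QuotientAddGroup.map _ _ (secHom h g) fun v hv => (h g g.2).2 _ hv)
  smul_add g := map_add (QuotientAddGroup.map _ _ (secHom h g) fun v hv => (h g g.2).2 _ hv)

omit [Finite X] in
theorem zmod_smul_secMk (c : ZMod p) (v : ↥(S.W a)) : c • secMk h v = secMk h (c.val • v) := by
  conv_lhs => rw [← ZMod.natCast_zmod_val c]
  rw [Nat.cast_smul_eq_nsmul, map_nsmul]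

/-- The filtration of a section. -/
def secF (l : ℕ) : AddSubgroup (S.Sec h) :=
  ((S.W (a + l)).addSubgroupOf (S.W a)).map (secMk h)

omit [Finite X] in
theorem secMk_mem {l : ℕ} (hl : a + l ≤ b) {v : ↥(S.W a)} :
    secMk h v ∈ secF h l ↔ (v : V) ∈ S.W (a + l) := by
  refine ⟨fun hv => ?_, fun hv => ⟨v, hv, rfl⟩⟩
  obtain ⟨w, hw, e⟩ := hv
  have h0 : secMk h (v - w) = 0 := by rw [map_sub, e, sub_self]
  have := add_mem (S.W_anti hl ((secMk_eq_zero h).1 h0)) (AddSubgroup.mem_addSubgroupOf.1 hw)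
  rwa [AddSubgroupClass.coe_sub, sub_add_cancel] at this

/-- The graded module of a section. -/
noncomputable def secGr (hY : Y ≤ Subgroup.normalizer (S.lev 0 : Set X)) (hT : S.T ≤ Y) :
    Gr (S.frame hY hT) (S.Sec h) where
  F := secF h
  top := b - a - 1
  μ g := S.wtX g ^ (S.L + 1 + a)
  F_zero := by
    refine eq_top_iff.2 fun w _ => ?_
    obtain ⟨v, rfl⟩ := secMk_surjective h w
    exact ⟨v, v.2, rfl⟩
  F_bot l hl := by
    refine eq_bot_iff.2 ?_
    rintro _ ⟨v, hv, rfl⟩
    exact (secMk_eq_zero h).2 (S.W_anti (by omega) hv)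
  anti l l' hll := AddSubgroup.map_mono fun v hv => S.W_anti (by omega) hv
  μ_T t ht := by rw [S.wtX_T (t := (t : X)) ht, one_pow]
  scal g hg l := by
    rintro _ ⟨v, hv, rfl⟩
    rw [smul_secMk, zmod_smul_secMk, ← map_sub,
      show (S.frame hY hT).ω g = S.wtX (g : X) from rfl, ← pow_add]
    refine ⟨_, ?_, rfl⟩
    show (g : X) • (v : V) - _ ∈ S.W (a + (l + 1))
    rw [AddSubgroup.coe_nsmul]
    have := S.wtX_scal hg (a + l) (v := (v : V)) hv
    rwa [show S.L + 1 + (a + l) = S.L + 1 + a + l by ring] at this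

/-- The graded module of `V` over an invariant layer has one irreducible block. -/
theorem secBlk {u : ℕ} (h : S.SecInv Y 0 u) (hY : Y ≤ Subgroup.normalizer (S.lev 0 : Set X))
    (hT : S.T ≤ Y) (hu : 1 ≤ u) (hud : u ≤ S.d) (hA : ∀ c ∈ S.lev 0, ∀ v : V, c • v - v ∈ S.W u)
    (hmin : ∀ l, 1 ≤ l → (∀ g ∈ Y, ∀ v ∈ S.W l, g • v ∈ S.W l) → u ≤ l) :
    (secGr h hY hT).Blk where
  triv c hc w := by
    obtain ⟨v, rfl⟩ := secMk_surjective h w
    rw [smul_secMk, ← sub_eq_zero, ← map_sub, secMk_eq_zero]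
    exact hA _ hc _
  proper htop := by
    obtain ⟨e, he, he1⟩ := S.exists_exact (l := 0) (by omega)
    have : secMk h ⟨e, he⟩ ∈ secF h 1 := by
      show _ ∈ (secGr h hY hT).F 1
      rw [htop]; exact AddSubgroup.mem_top _
    exact he1 ((secMk_mem h (by omega)).1 this)
  top_ne hbot := by
    obtain ⟨e, he, he1⟩ := S.exists_exact (l := u - 1) (by omega)
    have : secMk h ⟨e, S.W_anti (Nat.zero_le _) he⟩ ∈ secF h (u - 0 - 1) :=
      (secMk_mem h (by omega)).2 (by simpa using he)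
    rw [show secF h (u - 0 - 1) = ⊥ from hbot, AddSubgroup.mem_bot, secMk_eq_zero] at this
    rw [Nat.sub_add_cancel hu] at he1
    exact he1 this
  exact_lev l hl w hw hxw := by
    obtain ⟨v, rfl⟩ := secMk_surjective h w
    have hl' : l + 2 ≤ u := by
      have : l < u - 0 - 1 := hl
      omega
    rw [smul_secMk, ← map_sub] at hxw
    have h1 := (secMk_mem h (by omega)).1 hw
    have h2 := (secMk_mem h (by omega)).1 hxw
    refine (secMk_mem h (by omega)).2 ?_
    rw [Nat.zero_add] at h1 h2 ⊢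
    exact S.x_exact l (hl'.trans hud) _ h1 h2
  irred P hP hP0 := by
    let P' : AddSubgroup V := (P.comap (secMk h)).map (S.W 0).subtype
    obtain ⟨l, hl, hPl⟩ := S.eq_W (U := P') (by
      rintro _ ⟨v, hv, rfl⟩
      exact ⟨secHom h ⟨S.x, hT S.x_mem⟩ v, hP ⟨S.x, hT S.x_mem⟩ _ hv, rfl⟩)
    have hle : S.W u ≤ P' := fun v hv =>
      ⟨⟨v, by rw [S.W_zero]; exact AddSubgroup.mem_top v⟩,
        by rw [SetLike.mem_coe, AddSubgroup.mem_comap, (secMk_eq_zero h).2 hv]; exact zero_mem P, rfl⟩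
    have hlu : l ≤ u := S.le_of_W_le hl (hPl ▸ hle)
    rcases Nat.eq_zero_or_pos l with h0 | h0
    · refine eq_top_iff.2 fun w _ => ?_
      obtain ⟨v, rfl⟩ := secMk_surjective h w
      obtain ⟨v', hv', e⟩ : (v : V) ∈ P' := by rw [hPl, h0]; exact v.2
      rwa [show v' = v from Subtype.ext e] at hv'
    · exfalso
      have hlu' : u ≤ l := hmin l h0 fun g hg v hv => by
        rw [← hPl] at hv ⊢
        obtain ⟨w, hw, rfl⟩ := hv
        exact ⟨secHom h ⟨g, hg⟩ w, hP ⟨g, hg⟩ _ hw, rfl⟩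
      refine hP0 (eq_bot_iff.2 fun w hw => ?_)
      obtain ⟨v, rfl⟩ := secMk_surjective h w
      rw [AddSubgroup.mem_bot, secMk_eq_zero]
      exact S.W_anti hlu' (hPl ▸ ⟨v, hw, rfl⟩)

/-! ### The abelian layers -/

variable (S)

/-- An abelian layer normalized by `Y`. -/
structure LayInv (Y : Subgroup X) (k : ℕ) : Prop where
  norm : Y ≤ Subgroup.normalizer (S.lev k : Set X)
  comm : ∀ c ∈ S.lev k, ∀ c' ∈ S.lev k, c * c' = c' * c

variable {k : ℕ}

/-- The layer, written additively. -/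
def Lay (_ : S.LayInv Y k) := Additive ↥(S.lev k)

variable {S} (hk : S.LayInv Y k)

instance : AddCommGroup (S.Lay hk) :=
  { (inferInstanceAs (AddGroup (Additive ↥(S.lev k))) : AddGroup (S.Lay hk)) with
    add_comm := fun c c' => Additive.toMul.injective
      (Subtype.ext (hk.comm _ (Additive.toMul c).2 _ (Additive.toMul c').2)) }

/-- An element of the layer. -/
def layMk (c : ↥(S.lev k)) : S.Lay hk := Additive.ofMul c

omit [Finite X] in
theorem layMk_surjective : Function.Surjective (layMk hk) := Additive.ofMul.surjective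

omit [Finite X] in
theorem layMk_inj {c c' : ↥(S.lev k)} : layMk hk c = layMk hk c' ↔ c = c' :=
  Additive.ofMul.injective.eq_iff

omit [Finite X] in
theorem layMk_mul (c c' : ↥(S.lev k)) : layMk hk (c * c') = layMk hk c + layMk hk c' := rfl

omit [Finite X] in
theorem layMk_div (c c' : ↥(S.lev k)) : layMk hk c - layMk hk c' = layMk hk (c * c'⁻¹) := by
  rw [sub_eq_iff_eq_add, ← layMk_mul, inv_mul_cancel_right]

omit [Finite X] in
theorem layMk_nsmul (n : ℕ) (c : ↥(S.lev k)) : n • layMk hk c = layMk hk (c ^ n) := by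
  induction n with
  | zero => rw [zero_nsmul, pow_zero]; rfl
  | succ n ih => rw [succ_nsmul, ih, pow_succ, layMk_mul]

instance : Module (ZMod p) (S.Lay hk) := AddCommGroup.zmodModule fun w => by
  obtain ⟨c, rfl⟩ := layMk_surjective hk w
  rw [layMk_nsmul, show c ^ p = 1 from Subtype.ext (by
    simpa using S.pow_p_eq_one (S.unip_eq.symm ▸ S.lev_le_T k c.2))]
  rfl

/-- Conjugation on the layer. -/
def layConj (g : Y) (c : ↥(S.lev k)) : ↥(S.lev k) :=
  ⟨(g : X) * c * (g : X)⁻¹, (Subgroup.mem_normalizer_iff.1 (hk.norm g.2) _).1 c.2⟩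

instance : SMul Y (S.Lay hk) := ⟨fun g w => layMk hk (layConj hk g (Additive.toMul (α := ↥(S.lev k)) w))⟩

omit [Finite X] in
theorem smul_layMk (g : Y) (c : ↥(S.lev k)) : g • layMk hk c = layMk hk (layConj hk g c) := rfl

instance : DistribMulAction Y (S.Lay hk) where
  one_smul w := by
    obtain ⟨c, rfl⟩ := layMk_surjective hk w
    rw [smul_layMk, layMk_inj]
    exact Subtype.ext (by simp [layConj])
  mul_smul g g' w := by
    obtain ⟨c, rfl⟩ := layMk_surjective hk w
    rw [smul_layMk, smul_layMk, smul_layMk, layMk_inj]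
    exact Subtype.ext (by simp [layConj, mul_assoc])
  smul_zero g := by
    show g • layMk hk 1 = layMk hk 1
    rw [smul_layMk, layMk_inj]
    exact Subtype.ext (by simp [layConj])
  smul_add g w w' := by
    obtain ⟨c, rfl⟩ := layMk_surjective hk w
    obtain ⟨c', rfl⟩ := layMk_surjective hk w'
    rw [← layMk_mul, smul_layMk, smul_layMk, smul_layMk, ← layMk_mul, layMk_inj]
    exact Subtype.ext (by simp [layConj, mul_assoc])

omit [Finite X] in
theorem zmod_smul_layMk (z : ZMod p) (c : ↥(S.lev k)) : z • layMk hk c = layMk hk (c ^ z.val) := by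
  conv_lhs => rw [← ZMod.natCast_zmod_val z]
  rw [Nat.cast_smul_eq_nsmul, layMk_nsmul]

/-- The filtration of a layer. -/
def layF (l : ℕ) : AddSubgroup (S.Lay hk) where
  carrier := {w | ((Additive.toMul (α := ↥(S.lev k)) w : ↥(S.lev k)) : X) ∈ S.lev (k + l)}
  zero_mem' := one_mem (S.lev (k + l))
  add_mem' := fun hc hc' => (S.lev (k + l)).mul_mem hc hc'
  neg_mem' := fun hc => (S.lev (k + l)).inv_mem hc

omit [Finite X] in
theorem layMk_mem {l : ℕ} {c : ↥(S.lev k)} : layMk hk c ∈ layF hk l ↔ (c : X) ∈ S.lev (k + l) := Iff.rfl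

/-- The graded module of a layer. -/
noncomputable def layGr (hY : Y ≤ Subgroup.normalizer (S.lev 0 : Set X)) (hT : S.T ≤ Y) :
    Gr (S.frame hY hT) (S.Lay hk) where
  F := layF hk
  top := S.i - 2 - k
  μ g := S.wtX g ^ (S.L + k + 2 - S.i)
  F_zero := eq_top_iff.2 fun w _ => by
    obtain ⟨c, rfl⟩ := layMk_surjective hk w
    exact c.2
  F_bot l hl := by
    refine eq_bot_iff.2 fun w hw => ?_
    obtain ⟨c, rfl⟩ := layMk_surjective hk w
    rw [layMk_mem, S.lev_bot (k + l) (by omega), Subgroup.mem_bot] at hw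
    rw [show c = 1 from Subtype.ext hw]
    exact AddSubgroup.mem_bot.2 rfl
  anti l l' hll w hw := S.lev_anti (show k + l ≤ k + l' by omega) hw
  μ_T t ht := by rw [S.wtX_T (t := (t : X)) ht, one_pow]
  scal g hg l w hw := by
    obtain ⟨c, rfl⟩ := layMk_surjective hk w
    rw [layMk_mem] at hw
    rw [smul_layMk, zmod_smul_layMk, layMk_div, layMk_mem]
    have := S.wt_lev ⟨(g : X), hg⟩ (k := k + l) hw
    rw [← S.wtX_eq (g := (g : X)) hg, show k + l + 1 = k + (l + 1) by ring,
      show S.L + (k + l) + 2 - S.i = S.L + k + 2 - S.i + l by have := S.i_le_L; omega, pow_add] at this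
    simpa [layConj, frame] using this

/-- A layer central in `lev 0` and minimal invariant is one irreducible block. -/
theorem layBlk (hY : Y ≤ Subgroup.normalizer (S.lev 0 : Set X)) (hT : S.T ≤ Y) (hki : k + 2 ≤ S.i)
    (hA : ∀ c ∈ S.lev 0, ∀ c' ∈ S.lev k, c * c' = c' * c)
    (hmax : ∀ l, k < l → l + 2 ≤ S.i → ¬ Y ≤ Subgroup.normalizer (S.lev l : Set X)) :
    (layGr hk hY hT).Blk where
  triv g hg w := by
    obtain ⟨c, rfl⟩ := layMk_surjective hk w
    rw [smul_layMk, layMk_inj]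
    refine Subtype.ext ?_
    show (g : X) * (c : X) * (g : X)⁻¹ = c
    rw [hA (g : X) hg _ c.2, mul_inv_cancel_right]
  proper htop := by
    obtain ⟨c, hc, hc1⟩ := S.exists_lev_exact hki
    have : layMk hk ⟨c, hc⟩ ∈ layF hk 1 := by
      show _ ∈ (layGr hk hY hT).F 1
      rw [htop]; exact AddSubgroup.mem_top _
    exact hc1 this
  top_ne hbot := by
    obtain ⟨c, hc, hc1⟩ := S.exists_lev_exact (k := S.i - 2) (by omega)
    have : layMk hk ⟨c, S.lev_anti (show k ≤ S.i - 2 by omega) hc⟩ ∈ layF hk (S.i - 2 - k) := by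
      rw [layMk_mem, show k + (S.i - 2 - k) = S.i - 2 by omega]
      exact hc
    rw [show layF hk (S.i - 2 - k) = ⊥ from hbot, AddSubgroup.mem_bot] at this
    have h1 : c = 1 := congrArg Subtype.val ((layMk_inj hk).1 (this.trans rfl : _ = layMk hk 1))
    exact hc1 (h1 ▸ one_mem _)
  exact_lev l hl w hw hxw := by
    obtain ⟨c, rfl⟩ := layMk_surjective hk w
    change layMk hk c ∈ layF hk l at hw
    change _ ∈ layF hk (l + 2) at hxw
    show _ ∈ layF hk (l + 1)
    rw [layMk_mem] at hw ⊢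
    rw [smul_layMk, layMk_div, layMk_mem] at hxw
    have hl' : l < S.i - 2 - k := hl
    refine S.x_comm_exact (k + l) (by omega) _ hw ?_
    have := inv_mem hxw
    simpa [commutatorElement_def, layConj, frame, mul_assoc, Nat.add_assoc] using this
  irred P hP hP0 := by
    let Q : Subgroup X :=
      { carrier := {g | ∃ hg : g ∈ S.lev k, layMk hk ⟨g, hg⟩ ∈ P}
        one_mem' := ⟨one_mem _, zero_mem P⟩
        mul_mem' := fun ⟨hg, hg'⟩ ⟨hf, hf'⟩ => ⟨mul_mem hg hf, add_mem hg' hf'⟩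
        inv_mem' := fun ⟨hg, hg'⟩ => ⟨inv_mem hg, neg_mem hg'⟩ }
    have hQk : Q ≤ S.lev k := fun g ⟨hg, _⟩ => hg
    have hQn : ∀ g ∈ Y, ∀ q ∈ Q, g * q * g⁻¹ ∈ Q := by
      rintro g hg q ⟨hq, hq'⟩
      exact ⟨_, hP ⟨g, hg⟩ _ hq'⟩
    obtain ⟨j, hj, hQj⟩ := S.eq_lev (Q := Q) (hQk.trans (S.lev_anti (Nat.zero_le k))) fun q hq => by
      rw [commutatorElement_def, show q * S.x * q⁻¹ * S.x⁻¹ = q * (S.x * q⁻¹ * S.x⁻¹) by group]
      exact mul_mem hq (hQn _ (hT S.x_mem) _ (inv_mem hq))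
    rcases le_or_gt j k with hjk | hjk
    · refine eq_top_iff.2 fun w _ => ?_
      obtain ⟨c, rfl⟩ := layMk_surjective hk w
      obtain ⟨_, hc'⟩ : (c : X) ∈ Q := hQj ▸ S.lev_anti hjk c.2
      exact hc'
    · exfalso
      refine hP0 (eq_bot_iff.2 fun w hw => ?_)
      obtain ⟨c, rfl⟩ := layMk_surjective hk w
      have hcQ : (c : X) ∈ Q := ⟨c.2, hw⟩
      rcases le_or_gt (j + 2) S.i with hji | hji
      · exact absurd (fun g hg => Subgroup.mem_normalizer_fintype fun q hq => by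
          rw [← hQj, SetLike.mem_coe] at hq ⊢
          exact hQn g hg q hq) (hmax j hjk hji)
      · rw [hQj, S.lev_bot j (by omega), Subgroup.mem_bot] at hcQ
        rw [show c = 1 from Subtype.ext hcQ]
        exact AddSubgroup.mem_bot.2 rfl

end Sys

end Cfsg.Agent.MaxClassLin
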