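import Cfsg.Agent.Lib.SpeTrace.Rel

/-!
# Local modules: fixed elements by traces

A frame is a finite group `G` with a normal subgroup `A` of index `p` in a subgroup `T`, a
subgroup `N ≥ T` meeting its conjugates in `A` on `T`, and a weight of `N`.  A graded module has
a filtration on which `N` acts by `μ * ω ^ l` in level `l`; homomorphisms between graded modules
form a graded module, and an element of weight one in a low level is congruent to a fixed one.
-/

set_option autoImplicit false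
set_option linter.unusedSectionVars false
set_option linter.style.haveILetI false

namespace Cfsg.Agent.MaxClassLin

open Cfsg.Agent.SpeTrace

/-- The data for the trace. -/
structure Frame (p : ℕ) (G : Type*) [Group G] where
  /-- The `p`-subgroup. -/
  T : Subgroup G
  /-- Its subgroup of index `p`. -/
  A : Subgroup G
  /-- The subgroup whose fixed points are traced. -/
  N : Subgroup G
  /-- An element of `T` outside `A`. -/
  x : G
  /-- The weight. -/
  ω : G → (ZMod p)ˣ
  A_le : A ≤ T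
  T_le : T ≤ N
  A_normal : ∀ g : G, ∀ a ∈ A, g⁻¹ * a * g ∈ A
  idx : A.relIndex T = p
  x_mem : x ∈ T
  x_notMem : x ∉ A
  ω_T : ∀ t ∈ T, ω t = 1
  ti : ∀ g, g ∉ N → ∀ t ∈ T, g⁻¹ * t * g ∈ N → t ∈ A
  cop : ((T.relIndex N : ℕ) : ZMod p) ≠ 0

/-- Additive homomorphisms, acted on by conjugation. -/
def HomRep (A B : Type*) [AddCommGroup A] [AddCommGroup B] := A →+ B

namespace HomRep

variable {A B : Type*} [AddCommGroup A] [AddCommGroup B]

instance : AddCommGroup (HomRep A B) := inferInstanceAs (AddCommGroup (A →+ B))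

instance : FunLike (HomRep A B) A B := inferInstanceAs (FunLike (A →+ B) A B)

instance : AddMonoidHomClass (HomRep A B) A B := inferInstanceAs (AddMonoidHomClass (A →+ B) A B)

instance {p : ℕ} [Module (ZMod p) B] : Module (ZMod p) (HomRep A B) :=
  inferInstanceAs (Module (ZMod p) (A →+ B))

/-- A homomorphism, as an element of the module. -/
def of (f : A →+ B) : HomRep A B := f

@[simp] theorem of_apply (f : A →+ B) (a : A) : of f a = f a := rfl

theorem ext {f g : HomRep A B} (h : ∀ a, f a = g a) : f = g := DFunLike.ext f g h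

@[simp] theorem add_apply (f g : HomRep A B) (a : A) : (f + g) a = f a + g a := rfl
@[simp] theorem sub_apply (f g : HomRep A B) (a : A) : (f - g) a = f a - g a := rfl
@[simp] theorem zero_apply (a : A) : (0 : HomRep A B) a = 0 := rfl
@[simp] theorem neg_apply (f : HomRep A B) (a : A) : (-f) a = -f a := rfl
@[simp] theorem smul_apply' {p : ℕ} [Module (ZMod p) B] (c : ZMod p) (f : HomRep A B) (a : A) :
    (c • f) a = c • f a := rfl

variable {G : Type*} [Group G] [DistribMulAction G A] [DistribMulAction G B]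

instance : SMul G (HomRep A B) :=
  ⟨fun g f => of (((DistribSMul.toAddMonoidHom B g).comp (f : A →+ B)).comp
    (DistribSMul.toAddMonoidHom A g⁻¹))⟩

@[simp] theorem conj_apply (g : G) (f : HomRep A B) (a : A) : (g • f) a = g • f (g⁻¹ • a) := rfl

instance : DistribMulAction G (HomRep A B) where
  one_smul f := ext fun a => by simp
  mul_smul g h f := ext fun a => by simp [mul_smul]
  smul_zero g := ext fun a => by simp
  smul_add g f f' := ext fun a => by simp

end HomRep

theorem smul_zmod_comm {p : ℕ} {G U : Type*} [Group G] [AddCommGroup U] [Module (ZMod p) U]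
    [DistribMulAction G U] (g : G) (c : ZMod p) (v : U) : g • (c • v) = c • (g • v) :=
  ZMod.map_smul (DistribSMul.toAddMonoidHom U g) c v

/-- A graded module of a frame. -/
structure Gr {p : ℕ} {G : Type*} [Group G] (Φ : Frame p G) (U : Type*) [AddCommGroup U]
    [Module (ZMod p) U] [DistribMulAction G U] where
  /-- The filtration. -/
  F : ℕ → AddSubgroup U
  /-- The last level. -/
  top : ℕ
  /-- The weight of the first level. -/
  μ : G → (ZMod p)ˣ
  F_zero : F 0 = ⊤
  F_bot : ∀ l, top < l → F l = ⊥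
  anti : Antitone F
  μ_T : ∀ t ∈ Φ.T, μ t = 1
  scal : ∀ h ∈ Φ.N, ∀ l, ∀ v ∈ F l,
    h • v - ((μ h * Φ.ω h ^ l : (ZMod p)ˣ) : ZMod p) • v ∈ F (l + 1)

namespace Gr

variable {p : ℕ} {G : Type*} [Group G] {Φ : Frame p G} {U : Type*} [AddCommGroup U]
  [Module (ZMod p) U] [DistribMulAction G U] {W : Type*} [AddCommGroup W]
  [Module (ZMod p) W] [DistribMulAction G W]

theorem smul_mem (M : Gr Φ U) {h : G} (hh : h ∈ Φ.N) {l : ℕ} {v : U} (hv : v ∈ M.F l) :
    h • v ∈ M.F l := by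
  have := add_mem (M.anti (Nat.le_succ l) (M.scal h hh l v hv))
    (ZMod.smul_mem hv ((M.μ h * Φ.ω h ^ l : (ZMod p)ˣ) : ZMod p))
  rwa [sub_add_cancel] at this

theorem stab (M : Gr Φ U) {t : G} (ht : t ∈ Φ.T) {l : ℕ} {v : U} (hv : v ∈ M.F l) :
    t • v - v ∈ M.F (l + 1) := by
  have := M.scal t (Φ.T_le ht) l v hv
  rwa [M.μ_T t ht, Φ.ω_T t ht, one_pow, mul_one, Units.val_one, one_smul] at this

/-- The homomorphisms moving every level `a` into the level `a + n - c`. -/
def homF (P : ℕ → AddSubgroup U) (Q : ℕ → AddSubgroup W) (c n : ℕ) :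
    AddSubgroup (HomRep U W) where
  carrier := {f | ∀ a, ∀ v ∈ P a, f v ∈ Q (a + n - c)}
  zero_mem' := fun _ _ _ => zero_mem _
  add_mem' := fun hf hg a v hv => add_mem (hf a v hv) (hg a v hv)
  neg_mem' := fun hf a v hv => neg_mem (hf a v hv)

/-- The graded module of homomorphisms. -/
def hom (M : Gr Φ U) (K : Gr Φ W) : Gr Φ (HomRep U W) where
  F := homF M.F K.F M.top
  top := M.top + K.top
  μ g := K.μ g * (M.μ g * Φ.ω g ^ M.top)⁻¹
  F_zero := by
    refine eq_top_iff.2 fun f _ a v hv => ?_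
    rcases le_or_gt a M.top with ha | ha
    · rw [show a + 0 - M.top = 0 by omega, K.F_zero]
      exact AddSubgroup.mem_top _
    · rw [M.F_bot a ha, AddSubgroup.mem_bot] at hv
      rw [hv, map_zero]
      exact zero_mem _
  F_bot := fun n hn => by
    refine eq_bot_iff.2 fun f hf => ?_
    rw [AddSubgroup.mem_bot]
    refine HomRep.ext fun v => ?_
    have := hf 0 v (by rw [M.F_zero]; exact AddSubgroup.mem_top v)
    rwa [K.F_bot _ (by omega), AddSubgroup.mem_bot] at this
  anti := fun n n' h f hf a v hv => K.anti (by omega) (hf a v hv)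
  μ_T := fun t ht => by simp [M.μ_T t ht, K.μ_T t ht, Φ.ω_T t ht]
  scal := fun h hh n f hf a v hv => by
    rcases lt_or_ge (a + n) M.top with hlt | hge
    · rw [show a + (n + 1) - M.top = 0 by omega, K.F_zero]
      exact AddSubgroup.mem_top _
    rw [show a + (n + 1) - M.top = a + n - M.top + 1 by omega]
    set b := a + n - M.top with hb
    set k : (ZMod p)ˣ := M.μ h * Φ.ω h ^ a with hk
    set κ : (ZMod p)ˣ := K.μ h * Φ.ω h ^ b with hκ
    have hlevel : K.μ h * (M.μ h * Φ.ω h ^ M.top)⁻¹ * Φ.ω h ^ n = k⁻¹ * κ := by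
      have e : Φ.ω h ^ a * Φ.ω h ^ n = Φ.ω h ^ M.top * Φ.ω h ^ b := by
        rw [← pow_add, ← pow_add, hb, Nat.add_sub_cancel' hge]
      rw [hk, hκ, eq_inv_mul_iff_mul_eq]
      calc M.μ h * Φ.ω h ^ a * (K.μ h * (M.μ h * Φ.ω h ^ M.top)⁻¹ * Φ.ω h ^ n)
          = K.μ h * ((M.μ h * Φ.ω h ^ M.top)⁻¹ * (M.μ h * (Φ.ω h ^ a * Φ.ω h ^ n))) := by ac_rfl
        _ = K.μ h * Φ.ω h ^ b := by rw [e, ← mul_assoc (M.μ h), inv_mul_cancel_left]
    set v' := ((k⁻¹ : (ZMod p)ˣ) : ZMod p) • v with hv'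
    have hv'm : v' ∈ M.F a := ZMod.smul_mem hv _
    have hw : v - h • v' ∈ M.F (a + 1) := by
      have := neg_mem (M.scal h hh a v' hv'm)
      rwa [← hk, hv', ← mul_smul, Units.mul_inv, one_smul, neg_sub, ← hv'] at this
    have hinv : h⁻¹ • v - v' ∈ M.F (a + 1) := by
      have := M.smul_mem (Φ.N.inv_mem hh) hw
      rwa [smul_sub, inv_smul_smul] at this
    have h1 : h • f (h⁻¹ • v - v') ∈ K.F (b + 1) := by
      refine K.smul_mem hh ?_
      have := hf (a + 1) _ hinv
      rwa [show a + 1 + n - M.top = b + 1 by omega] at this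
    have h2 : h • f v' - ((κ : (ZMod p)ˣ) : ZMod p) • f v' ∈ K.F (b + 1) := by
      rw [hκ]
      exact K.scal h hh b _ (hf a v' hv'm)
    have := add_mem h1 h2
    rw [map_sub, smul_sub, ← add_sub_assoc, sub_add_cancel] at this
    rw [HomRep.sub_apply, HomRep.conj_apply, HomRep.smul_apply', hlevel, Units.val_mul,
      mul_comm, mul_smul]
    rwa [hv', ZMod.map_smul] at this

@[simp] theorem hom_top (M : Gr Φ U) (K : Gr Φ W) : (M.hom K).top = M.top + K.top := rfl

theorem hom_μ (M : Gr Φ U) (K : Gr Φ W) (g : G) :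
    (M.hom K).μ g = K.μ g * (M.μ g * Φ.ω g ^ M.top)⁻¹ := rfl

theorem mem_hom {M : Gr Φ U} {K : Gr Φ W} {n : ℕ} {f : HomRep U W} :
    f ∈ (M.hom K).F n ↔ ∀ a, ∀ v ∈ M.F a, f v ∈ K.F (a + n - M.top) := Iff.rfl

theorem hom_apply_zero {M : Gr Φ U} {K : Gr Φ W} {n : ℕ} {f : HomRep U W} (hf : f ∈ (M.hom K).F n)
    (v : U) : f v ∈ K.F (n - M.top) := by
  simpa using mem_hom.1 hf 0 v (by rw [M.F_zero]; exact AddSubgroup.mem_top v)

/-- Fixed by `A` and `x`, hence by `T`. -/
theorem fixed_T [Fact p.Prime] {y : U} (hA : ∀ a ∈ Φ.A, a • y = y) (hx : Φ.x • y = y) :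
    ∀ t ∈ Φ.T, t • y = y := by
  have hle : Φ.A ≤ MulAction.stabilizer G y ⊓ Φ.T := le_inf hA Φ.A_le
  have h2 := Subgroup.relIndex_mul_relIndex Φ.A (MulAction.stabilizer G y ⊓ Φ.T) Φ.T hle inf_le_right
  rw [Φ.idx] at h2
  rcases (Fact.out : p.Prime).eq_one_or_self_of_dvd _ (Dvd.intro _ h2) with h | h
  · exact absurd (Subgroup.relIndex_eq_one.1 h ⟨hx, Φ.x_mem⟩) Φ.x_notMem
  · rw [h] at h2
    have h3 := mul_left_cancel₀ (Fact.out : p.Prime).ne_zero (h2.trans (mul_one p).symm)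
    exact fun t ht => (Subgroup.relIndex_eq_one.1 h3 ht).1

theorem pow_notMem [hp : Fact p.Prime] [Finite G] (k : ℕ) (hk : 0 < k) (hkp : k < p) :
    Φ.x ^ k ∉ Φ.A := by
  intro hmem
  have hxp : Φ.x ^ p ∈ Φ.A := by
    haveI : (Φ.A.subgroupOf Φ.T).Normal := ⟨fun a ha t => by
      have := Φ.A_normal ((t : G))⁻¹ a ha
      rw [inv_inv] at this
      exact this⟩
    have := (Φ.A.subgroupOf Φ.T).pow_index_mem ⟨Φ.x, Φ.x_mem⟩
    rwa [show (Φ.A.subgroupOf Φ.T).index = p from Φ.idx, Subgroup.mem_subgroupOf] at this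
  have hg : Φ.x ^ Nat.gcd k p ∈ Φ.A := by
    rw [← zpow_natCast, Nat.gcd_eq_gcd_ab, zpow_add, zpow_mul, zpow_mul, zpow_natCast, zpow_natCast]
    exact mul_mem (zpow_mem hmem _) (zpow_mem hxp _)
  rw [(Nat.coprime_of_lt_prime hk.ne' hkp hp.out).symm.gcd_eq_one, pow_one] at hg
  exact Φ.x_notMem hg

/-- An element of weight one in level `n < p - 1` fixed by `T` is congruent to a fixed element. -/
theorem exists_fixed [hp : Fact p.Prime] [Finite G] (M : Gr Φ U) {n : ℕ} {y₀ : U}
    (hy : ∀ t ∈ Φ.T, t • y₀ = y₀) (hn : y₀ ∈ M.F n) (hw : ∀ h ∈ Φ.N, M.μ h * Φ.ω h ^ n = 1)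
    (hlt : n + 1 ≤ p - 1) : ∃ y : U, (∀ g : G, g • y = y) ∧ y - y₀ ∈ M.F (n + 1) := by
  classical
  haveI := Fintype.ofFinite (Φ.N ⧸ Φ.T.subgroupOf Φ.N)
  set e : ZMod p := ((Φ.T.relIndex Φ.N : ℕ) : ZMod p) with he
  set y₁ := e⁻¹ • relSum Φ.T Φ.N y₀ with hy₁
  have hfix : ∀ m ∈ Φ.N, m • y₁ = y₁ := by
    intro m hm
    let f : Φ.N ⧸ Φ.T.subgroupOf Φ.N → U := fun r => ((r.out : Φ.N) : G) • y₀
    have hequiv : ∀ r, f ((⟨m, hm⟩ : Φ.N) • r) = m • f r := by
      intro r
      obtain ⟨u, rfl⟩ := QuotientGroup.mk_surjective r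
      rw [MulAction.Quotient.smul_coe]
      show (((QuotientGroup.mk _ : Φ.N ⧸ Φ.T.subgroupOf Φ.N).out : Φ.N) : G) • y₀ = m • _
      rw [out_smul Φ.T Φ.N _ hy]
      show _ = m • (((QuotientGroup.mk u : Φ.N ⧸ Φ.T.subgroupOf Φ.N).out : Φ.N) : G) • y₀
      rw [out_smul Φ.T Φ.N _ hy, ← mul_smul]
      rfl
    rw [hy₁, smul_zmod_comm, relSum_eq, Finset.smul_sum]
    congr 1
    exact Fintype.sum_bijective _ (MulAction.bijective (⟨m, hm⟩ : Φ.N)) _ _ fun r => (hequiv r).symm
  have hd : y₁ - y₀ ∈ M.F (n + 1) := by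
    have hsum : relSum Φ.T Φ.N y₀ - e • y₀ ∈ M.F (n + 1) := by
      rw [relSum_eq, he, Subgroup.relIndex, Subgroup.index_eq_card, Nat.card_eq_fintype_card,
        Nat.cast_smul_eq_nsmul, ← Finset.card_univ, ← Finset.sum_const, ← Finset.sum_sub_distrib]
      refine AddSubgroup.sum_mem _ fun q _ => ?_
      have := M.scal ((q.out : Φ.N) : G) (q.out : Φ.N).2 n y₀ hn
      rwa [hw _ (q.out : Φ.N).2, Units.val_one, one_smul] at this
    have := ZMod.smul_mem hsum e⁻¹
    rwa [smul_sub, ← mul_smul, inv_mul_cancel₀ Φ.cop, one_smul] at this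
  have hY : ∀ z : U, p • z = 0 := fun z => by
    rw [← Nat.cast_smul_eq_nsmul (ZMod p), ZMod.natCast_self, zero_smul]
  have hsh : RelShifts Φ.A Φ.T M.F (0 + (p - 1) * 1) :=
    relShifts_step hY le_rfl Φ.A_le Φ.x_mem Φ.idx (fun k => pow_notMem k) (relShifts_self Φ.A M.F)
      fun i z hz => M.stab Φ.x_mem hz
  have hsum : ∀ z : U, (∀ q ∈ Φ.A, q • z = z) → relSum Φ.A Φ.T z ∈ M.F (n + 1) := fun z hz =>
    M.anti (by omega) (hsh 0 z hz (by rw [M.F_zero]; exact AddSubgroup.mem_top z))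
  obtain ⟨y, h1, h2⟩ := rel_trace ⊤ Φ.N Φ.T Φ.A (fun g _ => Φ.A_normal g) Φ.A_le Φ.T_le le_top
    (fun g _ => Φ.ti g) y₁ hfix (M.F (n + 1)) hsum
  exact ⟨y, fun g => h1 g (Subgroup.mem_top g), by simpa using add_mem h2 hd⟩

end Gr

/-- The trivial module of one dimension. -/
def TrivM (p : ℕ) := ZMod p

namespace TrivM

variable {p : ℕ}

instance : AddCommGroup (TrivM p) := inferInstanceAs (AddCommGroup (ZMod p))

instance : Module (ZMod p) (TrivM p) := inferInstanceAs (Module (ZMod p) (ZMod p))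

instance {G : Type*} [Group G] : DistribMulAction G (TrivM p) where
  smul _ v := v
  one_smul _ := rfl
  mul_smul _ _ _ := rfl
  smul_zero _ := rfl
  smul_add _ _ _ := rfl

theorem smul_eq {G : Type*} [Group G] (g : G) (v : TrivM p) : g • v = v := rfl

/-- Its grading. -/
def gr {G : Type*} [Group G] (Φ : Frame p G) : Gr Φ (TrivM p) where
  F l := if l = 0 then ⊤ else ⊥
  top := 0
  μ _ := 1
  F_zero := if_pos rfl
  F_bot l hl := if_neg hl.ne'
  anti l l' h := by
    show (if l' = 0 then (⊤ : AddSubgroup (TrivM p)) else ⊥) ≤ if l = 0 then ⊤ else ⊥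
    split_ifs <;> first | exact le_top | exact bot_le | omega
  μ_T _ _ := rfl
  scal h _ l v hv := by
    rcases Nat.eq_zero_or_pos l with rfl | hl
    · simp [smul_eq]
    · rw [if_neg hl.ne', AddSubgroup.mem_bot] at hv
      simp [hv]

end TrivM

namespace Gr

variable {p : ℕ} [hp : Fact p.Prime] {G : Type*} [Group G] [Finite G] {Φ : Frame p G}
  {U : Type*} [AddCommGroup U] [Module (ZMod p) U] [DistribMulAction G U]
  {R : Type*} [AddCommGroup R] [Module (ZMod p) R] [DistribMulAction G R]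

/-- A functional on the first level of weight one is invariant. -/
theorem functional_fixed (M : Gr Φ U) (φ : U →+ ZMod p) (hφ : ∀ v ∈ M.F 1, φ v = 0)
    (hμ : ∀ h ∈ Φ.N, M.μ h = 1) (hlt : M.top + 1 ≤ p - 1) (g : G) (v : U) : φ (g • v) = φ v := by
  let y₀ : HomRep U (TrivM p) := HomRep.of φ
  have hn : y₀ ∈ (M.hom (TrivM.gr Φ)).F M.top := by
    intro a w hw
    rcases Nat.eq_zero_or_pos a with rfl | ha
    · rw [show 0 + M.top - M.top = 0 by omega, (TrivM.gr Φ).F_zero]
      exact AddSubgroup.mem_top _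
    · show φ w ∈ _
      rw [hφ w (M.anti ha hw)]
      exact zero_mem _
  have hT : ∀ t ∈ Φ.T, t • y₀ = y₀ := fun t ht => HomRep.ext fun w => by
    rw [HomRep.conj_apply, TrivM.smul_eq]
    show φ _ = φ w
    have := hφ _ (M.stab (Φ.T.inv_mem ht) (l := 0) (v := w) (by rw [M.F_zero]; exact AddSubgroup.mem_top w))
    rwa [map_sub, sub_eq_zero] at this
  obtain ⟨y, hy, hyy⟩ := (M.hom (TrivM.gr Φ)).exists_fixed hT hn
    (fun h hh => by simp [hom_μ, hμ h hh, TrivM.gr]) hlt
  rw [(M.hom (TrivM.gr Φ)).F_bot _ (by simp [TrivM.gr]), AddSubgroup.mem_bot, sub_eq_zero] at hyy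
  have := congrArg (fun f : HomRep U (TrivM p) => f (g • v)) (hy g)
  simp only [HomRep.conj_apply, inv_smul_smul, TrivM.smul_eq] at this
  rw [hyy] at this
  exact this.symm

/-- The difference of `x`. -/
def dif (Φ : Frame p G) (U : Type*) [AddCommGroup U] [DistribMulAction G U] : HomRep U U :=
  HomRep.of (DistribSMul.toAddMonoidHom U Φ.x - AddMonoidHom.id U)

omit hp [Finite G] [Module (ZMod p) U] in
theorem dif_apply (v : U) : dif Φ U v = Φ.x • v - v := rfl

/-- An irreducible module with one block. -/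
structure Blk (M : Gr Φ U) : Prop where
  triv : ∀ a ∈ Φ.A, ∀ v : U, a • v = v
  proper : M.F 1 ≠ ⊤
  top_ne : M.F M.top ≠ ⊥
  exact_lev : ∀ l, l < M.top → ∀ v ∈ M.F l, Φ.x • v - v ∈ M.F (l + 2) → v ∈ M.F (l + 1)
  irred : ∀ P : AddSubgroup U, (∀ g : G, ∀ v ∈ P, g • v ∈ P) → P ≠ ⊥ → P = ⊤

theorem Blk.exists_first {M : Gr Φ U} (hM : M.Blk) : ∃ e, e ∉ M.F 1 := by
  by_contra h
  push Not at h
  exact hM.proper (eq_top_iff.2 fun v _ => h v)

/-- The powers of the difference. -/
def difPow (Φ : Frame p G) (U : Type*) [AddCommGroup U] [DistribMulAction G U] : ℕ → HomRep U U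
  | 0 => HomRep.of (AddMonoidHom.id U)
  | k + 1 => HomRep.of ((dif Φ U : U →+ U).comp (difPow Φ U k : U →+ U))

omit hp [Finite G] [Module (ZMod p) U] in
theorem difPow_succ (k : ℕ) (v : U) : difPow Φ U (k + 1) v = Φ.x • difPow Φ U k v - difPow Φ U k v :=
  rfl

theorem difPow_mem (M : Gr Φ U) {l : ℕ} {v : U} (hv : v ∈ M.F l) :
    ∀ k, difPow Φ U k v ∈ M.F (l + k)
  | 0 => hv
  | k + 1 => by rw [difPow_succ]; exact M.stab Φ.x_mem (difPow_mem M hv k)

theorem difPow_notMem {M : Gr Φ U} (hM : M.Blk) {v : U} (hv : v ∉ M.F 1) :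
    ∀ k, k ≤ M.top → difPow Φ U k v ∉ M.F (k + 1)
  | 0, _ => hv
  | k + 1, hk => fun h => by
    refine difPow_notMem hM hv k (by omega) (hM.exact_lev k (by omega) _ ?_ h)
    simpa using M.difPow_mem (l := 0) (v := v) (by rw [M.F_zero]; exact AddSubgroup.mem_top v) k

theorem difPow_fixed {M : Gr Φ U} (hM : M.Blk) (k : ℕ) :
    ∀ t ∈ Φ.T, t • difPow Φ U k = difPow Φ U k := by
  refine fixed_T (fun a ha => HomRep.ext fun v => ?_) (HomRep.ext fun v => ?_)
  · rw [HomRep.conj_apply, hM.triv _ (Φ.A.inv_mem ha), hM.triv a ha]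
  · rw [HomRep.conj_apply]
    induction k generalizing v with
    | zero => show Φ.x • Φ.x⁻¹ • v = v; rw [smul_inv_smul]
    | succ k ih => rw [difPow_succ, difPow_succ, smul_sub, ih]

/-- A weight `ω ^ k` trivial on `N` bounds the dimension. -/
theorem top_lt {M : Gr Φ U} (hM : M.Blk) {k : ℕ} (hk0 : 0 < k)
    (hk : ∀ h ∈ Φ.N, Φ.ω h ^ k = 1) (hlt : M.top + k + 1 ≤ p - 1) : M.top < k := by
  by_contra hle
  push Not at hle
  have hn : difPow Φ U k ∈ (M.hom M).F (M.top + k) := fun a v hv => by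
    rw [show a + (M.top + k) - M.top = a + k by omega]
    exact M.difPow_mem hv k
  obtain ⟨y, hy, hyy⟩ := (M.hom M).exists_fixed (difPow_fixed hM k) hn (fun h hh => by
    rw [hom_μ, pow_add, hk h hh, mul_one, mul_assoc, mul_inv, mul_assoc, inv_mul_cancel,
      mul_one, mul_inv_cancel]) hlt
  have hyn : y ∈ (M.hom M).F (M.top + k) := by
    have := add_mem ((M.hom M).anti (Nat.le_succ _) hyy) hn
    rwa [sub_add_cancel] at this
  let K : AddSubgroup U := (y : U →+ U).ker
  have hK : K = ⊤ := by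
    refine hM.irred K (fun g v hv => ?_) fun hbot => ?_
    · have := congrArg (fun f : HomRep U U => f (g • v)) (hy g)
      simp only [HomRep.conj_apply, inv_smul_smul] at this
      show y (g • v) = 0
      rw [← this, show y v = 0 from hv, smul_zero]
    · refine hM.top_ne (eq_bot_iff.2 fun v hv => hbot ▸ ?_)
      show y v = 0
      have := mem_hom.1 hyn M.top v hv
      rwa [M.F_bot _ (by omega), AddSubgroup.mem_bot] at this
  obtain ⟨e, he⟩ := hM.exists_first
  have h0 : y e = 0 := show e ∈ K from hK ▸ AddSubgroup.mem_top e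
  have h1 := hom_apply_zero hyy e
  rw [HomRep.sub_apply, h0, zero_sub, show M.top + k + 1 - M.top = k + 1 by omega] at h1
  exact difPow_notMem hM he k hle (neg_mem_iff.1 h1)

/-- There is no pairing of weight `ω` with an irreducible block of dimension above one. -/
theorem pairing_false {M : Gr Φ R} (hM : M.Blk) (P : Gr Φ U) (φ : U →+ ZMod p)
    (hφ : ∀ v ∈ P.F 1, φ v = 0) {ψ : U} (hψ : φ ψ = 1) (hμ : ∀ h ∈ Φ.N, P.μ h = Φ.ω h)
    (hM1 : 1 ≤ M.top) (hlt : P.top + M.top + 2 ≤ p - 1) : False := by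
  let y₀ : HomRep U (HomRep R R) := HomRep.of
    { toFun := fun v => φ v • difPow Φ R 1
      map_zero' := by rw [map_zero, zero_smul]
      map_add' := fun v w => by rw [map_add, add_smul] }
  have hy₀ : ∀ v, y₀ v = φ v • difPow Φ R 1 := fun v => rfl
  have hD : difPow Φ R 1 ∈ (M.hom M).F (M.top + 1) := fun a v hv => by
    rw [show a + (M.top + 1) - M.top = a + 1 by omega]
    exact M.difPow_mem hv 1
  have hn : y₀ ∈ (P.hom (M.hom M)).F (P.top + (M.top + 1)) := fun a v hv => by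
    rcases Nat.eq_zero_or_pos a with rfl | ha
    · rw [hy₀, show 0 + (P.top + (M.top + 1)) - P.top = M.top + 1 by omega]
      exact ZMod.smul_mem hD _
    · rw [hy₀, hφ v (P.anti ha hv), zero_smul]
      exact zero_mem _
  have hT : ∀ t ∈ Φ.T, t • y₀ = y₀ := fun t ht => HomRep.ext fun v => by
    rw [HomRep.conj_apply, hy₀, hy₀, smul_zmod_comm, difPow_fixed hM 1 t ht]
    have := hφ _ (P.stab (Φ.T.inv_mem ht) (l := 0) (v := v) (by rw [P.F_zero]; exact AddSubgroup.mem_top v))
    rw [map_sub, sub_eq_zero] at this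
    rw [this]
  obtain ⟨y, hy, hyy⟩ := (P.hom (M.hom M)).exists_fixed hT hn (fun h hh => by
    rw [hom_μ, hom_μ, hμ h hh, show P.top + (M.top + 1) = M.top + (P.top + 1) by ring, pow_add,
      pow_succ', mul_inv (M.μ h), ← mul_assoc (M.μ h), mul_inv_cancel, one_mul, ← mul_assoc,
      mul_right_comm _ (Φ.ω h * Φ.ω h ^ P.top)⁻¹, inv_mul_cancel, one_mul, inv_mul_cancel])
    (by omega)
  have hyn : y ∈ (P.hom (M.hom M)).F (P.top + (M.top + 1)) := by
    have := add_mem ((P.hom (M.hom M)).anti (Nat.le_succ _) hyy) hn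
    rwa [sub_add_cancel] at this
  let K : AddSubgroup R :=
    { carrier := {v | ∀ u, y u v = 0}
      zero_mem' := fun u => map_zero _
      add_mem' := fun hv hw u => by rw [map_add, hv u, hw u, add_zero]
      neg_mem' := fun hv u => by rw [map_neg, hv u, neg_zero] }
  have hK : K = ⊤ := by
    refine hM.irred K (fun g v hv u => ?_) fun hbot => ?_
    · have := congrArg (fun f : HomRep U (HomRep R R) => f u (g • v)) (hy g)
      simp only [HomRep.conj_apply, inv_smul_smul] at this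
      rw [← this, hv (g⁻¹ • u), smul_zero]
    · refine hM.top_ne (eq_bot_iff.2 fun v hv => hbot ▸ fun u => ?_)
      have := mem_hom.1 (hom_apply_zero hyn u) M.top v hv
      rwa [M.F_bot _ (by omega), AddSubgroup.mem_bot] at this
  obtain ⟨e, he⟩ := hM.exists_first
  have h0 : y ψ e = 0 := (show e ∈ K from hK ▸ AddSubgroup.mem_top e) ψ
  have h1 := hom_apply_zero (hom_apply_zero hyy ψ) e
  rw [HomRep.sub_apply, HomRep.sub_apply, h0, zero_sub, hy₀, hψ, one_smul,
    show P.top + (M.top + 1) + 1 - P.top - M.top = 1 + 1 by omega] at h1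
  exact difPow_notMem hM he 1 hM1 (neg_mem_iff.1 h1)

end Gr

end Cfsg.Agent.MaxClassLin
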