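import Cfsg.Agent.Lib.MaxClassLin.LocRep

/-!
# Relative traces over a subgroup of order `p` with a short filtration

A filtration of length `k` moved one step by `T`; homomorphisms between two such modules carry one
of length `k + k' - 1`.  For `k ≤ p - 1` the sums over the powers of an element of `T` vanish, so
that a fixed point of a trivial intersection subgroup is fixed by the whole group.
-/

set_option autoImplicit false
set_option linter.unusedSectionVars false

namespace Cfsg.Agent.MaxClassLin.QuadPair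

open Cfsg.Agent.SpeTrace

variable {X : Type*} [Group X] {A B Y : Type*} [AddCommGroup A] [AddCommGroup B] [AddCommGroup Y]
  [DistribMulAction X A] [DistribMulAction X B] [DistribMulAction X Y]

/-- A filtration of length `k` moved by `T`. -/
structure Fil (T : Subgroup X) (k : ℕ) (F : ℕ → AddSubgroup Y) : Prop where
  zero : F 0 = ⊤
  bot : ∀ i, k ≤ i → F i = ⊥
  anti : Antitone F
  step : ∀ t ∈ T, ∀ i, ∀ y ∈ F i, t • y - y ∈ F (i + 1)

theorem Fil.smul_mem {T : Subgroup X} {k : ℕ} {F : ℕ → AddSubgroup Y} (h : Fil T k F) {t : X}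
    (ht : t ∈ T) {i : ℕ} {y : Y} (hy : y ∈ F i) : t • y ∈ F i := by
  have := add_mem (h.anti (Nat.le_succ i) (h.step t ht i y hy)) hy
  rwa [sub_add_cancel] at this

/-- Homomorphisms between two filtered modules. -/
theorem Fil.hom {T : Subgroup X} {k k' : ℕ} {P : ℕ → AddSubgroup A} {Q : ℕ → AddSubgroup B}
    (hP : Fil T k P) (hQ : Fil T k' Q) (hk : 1 ≤ k) :
    Fil T (k + k' - 1) (Gr.homF P Q (k - 1)) where
  zero := by
    refine eq_top_iff.2 fun f _ a v hv => ?_
    rcases le_or_gt k a with ha | ha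
    · rw [hP.bot a ha, AddSubgroup.mem_bot] at hv
      rw [hv, map_zero]
      exact zero_mem _
    · rw [show a + 0 - (k - 1) = 0 by omega, hQ.zero]
      exact AddSubgroup.mem_top _
  bot n hn := by
    refine eq_bot_iff.2 fun f hf => ?_
    rw [AddSubgroup.mem_bot]
    refine HomRep.ext fun v => ?_
    have := hf 0 v (by rw [hP.zero]; exact AddSubgroup.mem_top v)
    rwa [hQ.bot _ (by omega), AddSubgroup.mem_bot] at this
  anti n n' h f hf a v hv := hQ.anti (by omega) (hf a v hv)
  step t ht n f hf a v hv := by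
    have h1 : t⁻¹ • v - v ∈ P (a + 1) := hP.step _ (T.inv_mem ht) a v hv
    have h2 := hf a _ (hP.smul_mem (T.inv_mem ht) hv)
    rw [HomRep.sub_apply, HomRep.conj_apply, ← sub_add_sub_cancel _ (f (t⁻¹ • v)) (f v), ← map_sub]
    refine add_mem (hQ.anti (by omega) (hQ.step t ht _ _ h2)) ?_
    exact hQ.anti (by omega) (hf (a + 1) _ h1)

theorem Fil.pow_mem {T : Subgroup X} {k : ℕ} {F : ℕ → AddSubgroup Y} (h : Fil T k F) {t : X}
    (ht : t ∈ T) (y : Y) : ∀ m, ((smulEnd t - 1) ^ m : AddMonoid.End Y) y ∈ F m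
  | 0 => by rw [h.zero]; exact AddSubgroup.mem_top _
  | m + 1 => by
    rw [pow_succ']
    exact h.step t ht m _ (h.pow_mem ht y m)

variable {p : ℕ} [hp : Fact p.Prime]

/-- The powers of an element of `T` sum to zero. -/
theorem Fil.sum_pow [Finite X] {T : Subgroup X} {k : ℕ} {F : ℕ → AddSubgroup Y} (h : Fil T k F) (hk : k ≤ p - 1)
    (hY : ∀ y : Y, p • y = 0) {t : X} (ht : t ∈ T) (y : Y) :
    ∑ j ∈ Finset.range p, t ^ j • y = 0 := by
  have hp0 : (p : AddMonoid.End Y) = 0 := by
    refine AddMonoidHom.ext fun z => ?_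
    show (p : AddMonoid.End Y) z = 0
    exact (AddMonoid.End.natCast_apply p z).trans (hY z)
  have happ : ∀ (s : Finset ℕ), (∑ j ∈ s, smulEnd t ^ j : AddMonoid.End Y) y = ∑ j ∈ s, t ^ j • y :=
    fun s => by
      classical
      induction s using Finset.induction_on with
      | empty => simp
      | insert a s ha ih =>
        rw [Finset.sum_insert ha, Finset.sum_insert ha, ← ih, ← smulEnd_pow]
        rfl
  rw [← happ, geom_sum_eq_sub_one_pow hp0]
  have := h.pow_mem ht y (p - 1)
  rwa [h.bot _ hk, AddSubgroup.mem_bot] at this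

/-- **Trace over a subgroup of order `p`.** -/
theorem fixed_of_short [Finite X] {G M : Subgroup X} {z : X} (hzp : z ^ p = 1) (hz1 : z ≠ 1)
    (hzM : z ∈ M) (hMG : M ≤ G)
    (hTI : ∀ g ∈ G, g ∉ M → ∀ t ∈ Subgroup.zpowers z, g⁻¹ * t * g ∈ M → t = 1)
    {k : ℕ} {F : ℕ → AddSubgroup Y} (hF : Fil (Subgroup.zpowers z) k F) (hk : k ≤ p - 1)
    (hY : ∀ y : Y, p • y = 0) (y : Y) (hy : ∀ m ∈ M, m • y = y) : ∀ g ∈ G, g • y = y := by
  have hidx : (⊥ : Subgroup X).relIndex (Subgroup.zpowers z) = p := by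
    rw [Subgroup.relIndex_bot_left, Nat.card_zpowers, orderOf_eq_prime hzp hz1]
  have hinj : ∀ j, 0 < j → j < p → z ^ j ∉ (⊥ : Subgroup X) := fun j hj hjp h => by
    have hd := orderOf_dvd_of_pow_eq_one (Subgroup.mem_bot.1 h)
    rw [orderOf_eq_prime hzp hz1] at hd
    exact absurd (Nat.le_of_dvd hj hd) (by omega)
  have hsh : RelShifts (⊥ : Subgroup X) (Subgroup.zpowers z) F (0 + (p - 1) * 1) :=
    relShifts_step hY le_rfl bot_le (Subgroup.mem_zpowers z) hidx hinj (relShifts_self ⊥ F)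
      fun i v hv => hF.step z (Subgroup.mem_zpowers z) i v hv
  intro g hg
  refine rel_fixed G M (Subgroup.zpowers z) ⊥ (fun g _ q hq => ?_) bot_le
    (Subgroup.zpowers_le.2 hzM) hMG (fun g hg hgM t ht htM => ?_) y hy (fun v hv => ?_) g hg
  · rw [Subgroup.mem_bot] at hq ⊢
    rw [hq, mul_one, inv_mul_cancel]
  · exact Subgroup.mem_bot.2 (hTI g hg hgM t ht htM)
  · have := hsh 0 v hv (by rw [hF.zero]; exact AddSubgroup.mem_top v)
    rwa [hF.bot _ (by omega), AddSubgroup.mem_bot] at this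

end Cfsg.Agent.MaxClassLin.QuadPair
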