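import Cfsg.Agent.Lib.MaxClassLin.QuadAlg
import Cfsg.Agent.Lib.MaxClassLin.QuadTrace
import Cfsg.Agent.Lib.MaxClassLin.Coprime
import Cfsg.Agent.Lib.Fusion.Saturation

/-!
# A quadratic element and a conjugate not generating a `p`-group

`z` of order `p` is quadratic on `V` and rigid: an element moving `V` into the image of `z - 1` and
fixing its kernel is a power of `z`.  If `z` and a conjugate do not generate a `p`-group then some
element raises `z` to a power other than itself, trivially on the middle section and, for `p ≥ 7`,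
by a scalar on the image.
-/

set_option autoImplicit false
set_option linter.unusedSectionVars false
set_option linter.style.haveILetI false

namespace Cfsg.Agent.MaxClassLin.QuadPair

open Subgroup

variable {p : ℕ} [hp : Fact p.Prime] {X : Type*} [Group X] [Finite X] {V : Type*} [AddCommGroup V]
  [DistribMulAction X V]

/-- The representation. -/
def rho (V : Type*) [AddCommGroup V] [DistribMulAction X V] : X →* AddMonoid.End V :=
  DistribMulAction.toAddMonoidEnd X V

theorem rho_apply (g : X) (v : V) : rho V g v = g • v := rfl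

/-- The image of a subgroup under an endomorphism. -/
def imE (x : AddMonoid.End V) (W : AddSubgroup V) : AddSubgroup V := W.map (x : V →+ V)

theorem mem_imE {x : AddMonoid.End V} {W : AddSubgroup V} {v : V} (hv : v ∈ W) : x v ∈ imE x W :=
  ⟨v, hv, rfl⟩

theorem imE_mono (x : AddMonoid.End V) {W W' : AddSubgroup V} (h : W ≤ W') : imE x W ≤ imE x W' :=
  AddSubgroup.map_mono h

theorem imE_sup (x : AddMonoid.End V) (W W' : AddSubgroup V) :
    imE x (W ⊔ W') = imE x W ⊔ imE x W' := AddSubgroup.map_sup _ _ _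

theorem imE_imE (x y : AddMonoid.End V) (W : AddSubgroup V) : imE x (imE y W) = imE (x * y) W :=
  AddSubgroup.map_map _ _ _

theorem imE_zero (W : AddSubgroup V) : imE (0 : AddMonoid.End V) W = ⊥ :=
  (AddSubgroup.map_eq_bot_iff _).2 fun _ _ => rfl

theorem rho_inj (hfaith : ∀ g : X, (∀ v : V, g • v = v) → g = 1) {g h : X}
    (hgh : rho V g = rho V h) : g = h := by
  refine inv_mul_eq_one.1 (hfaith _ fun v => ?_) |>.symm |>.symm
  rw [mul_smul]
  exact inv_smul_eq_iff.2 (DFunLike.congr_fun hgh v).symm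

theorem rho_inv_mul (h : X) : rho V h⁻¹ * rho V h = 1 := by rw [← map_mul, inv_mul_cancel, map_one]

theorem rho_mul_inv (h : X) : rho V h * rho V h⁻¹ = 1 := by rw [← map_mul, mul_inv_cancel, map_one]

theorem commute_rho_inv {h : X} {x : AddMonoid.End V} (hc : Commute (rho V h) x) :
    Commute (rho V h⁻¹) x := by
  show rho V h⁻¹ * x = x * rho V h⁻¹
  calc rho V h⁻¹ * x = rho V h⁻¹ * (x * (rho V h * rho V h⁻¹)) := by rw [rho_mul_inv, mul_one]
    _ = rho V h⁻¹ * (rho V h * x) * rho V h⁻¹ := by rw [hc.eq]; simp only [mul_assoc]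
    _ = x * rho V h⁻¹ := by rw [← mul_assoc (rho V h⁻¹), rho_inv_mul, one_mul]

theorem nsmul_congr_zmod {W : Type*} [AddCommGroup W] (hW : ∀ v : W, p • v = 0) {m m' : ℕ}
    (h : (m : ZMod p) = m') (v : W) : m • v = m' • v := by
  have h' := (ZMod.natCast_eq_natCast_iff' _ _ _).1 h
  rw [← Nat.mod_add_div m p, ← Nat.mod_add_div m' p, h', add_nsmul, add_nsmul, mul_nsmul, mul_nsmul,
    hW, nsmul_zero, nsmul_zero]

theorem end_tors (htors : ∀ v : V, p • v = 0) (x : AddMonoid.End V) : p • x = 0 :=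
  AddMonoidHom.ext fun v => htors (x v)

theorem homRep_tors {A B : Type*} [AddCommGroup A] [AddCommGroup B] (hB : ∀ v : B, p • v = 0)
    (x : HomRep A B) : p • x = 0 :=
  HomRep.ext fun v => hB (x v)

/-- A finite monoid has an idempotent power. -/
theorem exists_idem_pow {R : Type*} [Monoid R] [Finite R] (w : R) :
    ∃ n, 0 < n ∧ w ^ n * w ^ n = w ^ n := by
  obtain ⟨i, j, hij, h⟩ := Finite.exists_ne_map_eq_of_infinite fun n : ℕ => w ^ n
  wlog hlt : i < j generalizing i j
  · exact this j i hij.symm h.symm (by omega)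
  obtain ⟨d, rfl⟩ : ∃ d, j = i + d := ⟨j - i, by omega⟩
  have key : ∀ t m, i ≤ m → w ^ (m + t * d) = w ^ m := by
    intro t
    induction t with
    | zero => simp
    | succ t ih =>
      intro m hm
      obtain ⟨r, rfl⟩ := Nat.exists_eq_add_of_le hm
      rw [show i + r + (t + 1) * d = (i + d) + (r + t * d) by ring, pow_add, ← h, ← pow_add,
        ← Nat.add_assoc]
      exact ih (i + r) (Nat.le_add_right i r)
  refine ⟨(i + 1) * d, Nat.mul_pos (by omega) (by omega), ?_⟩
  rw [← pow_add]
  refine key (i + 1) _ ?_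
  calc i ≤ i + 1 := Nat.le_succ i
    _ ≤ (i + 1) * d := Nat.le_mul_of_pos_right _ (by omega)

/-- The filtration of a quadratic element. -/
def quadF (a : AddMonoid.End V) (l : ℕ) : AddSubgroup V :=
  if l = 0 then ⊤ else if l = 1 then (a : V →+ V).ker else ⊥

theorem fil_quad {z : X} (hquad : ∀ v : V, z • (z • v - v) = z • v - v) :
    Fil (zpowers z) 2 (quadF (rho V z - 1)) where
  zero := rfl
  bot i hi := by rw [quadF, if_neg (by omega), if_neg (by omega)]
  anti i j hij := by
    rcases i with _ | _ | i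
    · exact le_top
    · rcases j with _ | _ | j
      · omega
      · exact le_rfl
      · exact bot_le
    · rcases j with _ | _ | j
      · omega
      · omega
      · exact le_rfl
  step t ht i v hv := by
    have hfix : ∀ u : V, z • u = u → t • u = u := fun u hu =>
      (zpowers_le.2 (MulAction.mem_stabilizer_iff.2 hu) : zpowers z ≤ MulAction.stabilizer X u) ht
    rcases i with _ | _ | i
    · show (rho V z - 1) (t • v - v) = 0
      show z • (t • v - v) - (t • v - v) = 0
      obtain ⟨k, rfl⟩ := ht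
      have hc : z • (z ^ k • v) = z ^ k • (z • v) := by
        rw [← mul_smul, ← mul_smul, (Commute.self_zpow z k).eq]
      have h1 := hfix _ (hquad v)
      rw [smul_sub] at h1
      rw [smul_sub, hc, sub_eq_zero, ← sub_eq_zero]
      calc z ^ k • z • v - z • v - (z ^ k • v - v)
          = z ^ k • z • v - z ^ k • v - (z • v - v) := by abel
        _ = 0 := by rw [h1, sub_self]
    · have hu : z • v = v := sub_eq_zero.1 hv
      rw [hfix v hu, sub_self]
      exact zero_mem _
    · rw [quadF, if_neg (by omega), if_neg (by omega), AddSubgroup.mem_bot] at hv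
      rw [hv, smul_zero, sub_self]
      exact zero_mem _

/-- An endomorphism as a module element and back. -/
def toE (F : HomRep V V) : AddMonoid.End V := F

theorem toE_smul (h : X) (F : HomRep V V) : toE (h • F) = rho V h * toE F * rho V h⁻¹ := rfl

theorem toE_inj {F G : HomRep V V} (h : toE F = toE G) : F = G := h

/-- The data of a pair. -/
structure Pair (p : ℕ) (V : Type*) [AddCommGroup V] [DistribMulAction X V] (z g : X) : Prop where
  five : 5 ≤ p
  faith : ∀ g : X, (∀ v : V, g • v = v) → g = 1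
  tors : ∀ v : V, p • v = 0
  fin : Finite V
  zp : z ^ p = 1
  quad : ∀ v : V, z • (z • v - v) = z • v - v
  rig : ∀ c : X, (∀ v : V, ∃ u : V, c • v - v = z • u - u) → (∀ v : V, z • v = v → c • v = v) →
    c ∈ zpowers z
  np : ¬ IsPGroup p (closure {z, g * z * g⁻¹})

namespace Pair

variable {z g : X}

local notation "𝖺" => rho V z - 1
local notation "𝖻" => rho V (g * z * g⁻¹) - 1
local notation "𝔾" => closure ({z, g * z * g⁻¹} : Set X)

variable (P : Pair p V z g)
include P

theorem aa : (rho V z - 1) * (rho V z - 1) = 0 :=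
  AddMonoidHom.ext fun v => show z • (z • v - v) - (z • v - v) = 0 from sub_eq_zero.2 (P.quad v)

omit P in
theorem b_eq : 𝖻 = rho V g * 𝖺 * rho V g⁻¹ := by
  rw [map_mul, map_mul, mul_sub, sub_mul, mul_one, rho_mul_inv]

theorem bb : 𝖻 * 𝖻 = 0 := by
  rw [b_eq, show rho V g * 𝖺 * rho V g⁻¹ * (rho V g * 𝖺 * rho V g⁻¹) =
    rho V g * (𝖺 * ((rho V g⁻¹ * rho V g) * (𝖺 * rho V g⁻¹))) by simp only [mul_assoc], rho_inv_mul,
    one_mul, ← mul_assoc 𝖺, P.aa, zero_mul, mul_zero]

theorem z_ne : z ≠ 1 := fun h => P.np (by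
  have h1 : 𝔾 = ⊥ := by rw [h]; simp
  rw [h1]
  exact IsPGroup.of_bot)

theorem zp' : (g * z * g⁻¹) ^ p = 1 := by rw [conj_pow, P.zp, mul_one, mul_inv_cancel]

omit P in
theorem commute_gen {x : AddMonoid.End V} (hxa : Commute 𝖺 x) (hxb : Commute 𝖻 x) {h : X}
    (hh : h ∈ 𝔾) : Commute (rho V h) x := by
  induction hh using closure_induction with
  | mem y hy =>
    rcases hy with rfl | rfl
    · have := hxa.add_left (Commute.one_left x); rwa [sub_add_cancel] at this
    · have := hxb.add_left (Commute.one_left x); rwa [sub_add_cancel] at this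
  | one => rw [map_one]; exact Commute.one_left x
  | mul a b _ _ ha hb => rw [map_mul]; exact ha.mul_left hb
  | inv a _ ha => exact commute_rho_inv ha

theorem not_commute : ¬ Commute z (g * z * g⁻¹) := fun hc => P.np fun ⟨h, hh⟩ => by
  refine ⟨1, Subtype.ext ?_⟩
  have hcen : 𝔾 ≤ centralizer {z, g * z * g⁻¹} := by
    rw [closure_le]
    rintro _ (rfl | rfl) <;> rw [SetLike.mem_coe, mem_centralizer_iff] <;> rintro _ (rfl | rfl)
    exacts [rfl, hc.eq.symm, hc.eq, rfl]
  have hall : ∀ x ∈ 𝔾, ∀ y ∈ 𝔾, Commute x y := fun x hx y hy =>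
    ((closure_le (K := centralizer {x})).2 (by
      intro t ht
      rw [SetLike.mem_coe, mem_centralizer_singleton_iff]
      exact mem_centralizer_iff.1 (hcen hx) t ht) hy |> mem_centralizer_singleton_iff.1).symm
  show h ^ p ^ 1 = 1
  rw [pow_one]
  induction hh using closure_induction with
  | mem y hy =>
    rcases hy with rfl | rfl
    · exact P.zp
    · exact P.zp'
  | one => rw [one_pow]
  | mul a b ha hb iha ihb => rw [(hall a ha b hb).mul_pow, iha, ihb, mul_one]
  | inv a _ iha => rw [inv_pow, iha, inv_one]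

/-- The elements of the group are combinations with inverse the adjugate. -/
theorem exists_quad {h : X} (hh : h ∈ 𝔾) :
    ∃ q : Quad, rho V h = evalQ 𝖺 𝖻 q ∧ rho V h⁻¹ = evalQ 𝖺 𝖻 (adjP q) := by
  have gen : ∀ y : X, ∀ c : AddMonoid.End V, c = rho V y - 1 → c * c = 0 →
      rho V y = 1 + c ∧ rho V y⁻¹ = 1 - c := fun y c hc hcc => by
    have h1 : rho V y = 1 + c := by rw [hc, add_sub_cancel]
    refine ⟨h1, ?_⟩
    calc rho V y⁻¹ = rho V y⁻¹ * ((1 + c) * (1 - c)) := by
          rw [add_mul, mul_sub, mul_sub, one_mul, one_mul, mul_one, hcc, sub_zero, sub_add_cancel, mul_one]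
      _ = 1 - c := by rw [← mul_assoc, ← h1, rho_inv_mul, one_mul]
  have eA : ∀ x y : AddMonoid.End V, evalQ x y ⟨1, 1, 0, 0⟩ = 1 + x ∧
      evalQ x y (adjP ⟨1, 1, 0, 0⟩) = 1 - x := fun x y => by simp [evalQ, adjP, sub_eq_add_neg]
  have eB : ∀ x y : AddMonoid.End V, evalQ x y ⟨1, 0, 1, 0⟩ = 1 + y ∧
      evalQ x y (adjP ⟨1, 0, 1, 0⟩) = 1 - y := fun x y => by simp [evalQ, adjP, sub_eq_add_neg]
  have e1 : ∀ x y : AddMonoid.End V, evalQ x y ⟨1, 0, 0, 0⟩ = 1 ∧
      evalQ x y (adjP ⟨1, 0, 0, 0⟩) = 1 := fun x y => by simp [evalQ, adjP]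
  induction hh using closure_induction with
  | mem y hy =>
    rcases hy with rfl | rfl
    · obtain ⟨h1, h2⟩ := gen _ _ rfl P.aa
      exact ⟨⟨1, 1, 0, 0⟩, h1.trans (eA _ _).1.symm, h2.trans (eA _ _).2.symm⟩
    · obtain ⟨h1, h2⟩ := gen _ _ rfl P.bb
      exact ⟨⟨1, 0, 1, 0⟩, h1.trans (eB _ _).1.symm, h2.trans (eB _ _).2.symm⟩
  | one => exact ⟨⟨1, 0, 0, 0⟩, by rw [map_one, (e1 _ _).1], by rw [inv_one, map_one, (e1 _ _).2]⟩
  | mul a b _ _ iha ihb =>
    obtain ⟨q, hq, hq'⟩ := iha
    obtain ⟨r, hr, hr'⟩ := ihb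
    exact ⟨mulP q r, by rw [map_mul, hq, hr, evalQ_mul P.aa P.bb],
      by rw [mul_inv_rev, map_mul, hq', hr', evalQ_mul P.aa P.bb, adjP_mulP]⟩
  | inv a _ iha =>
    obtain ⟨q, hq, hq'⟩ := iha
    exact ⟨adjP q, hq', by rw [inv_inv, adjP_adjP, hq]⟩

/-- The idempotent where the symmetrised product is invertible. -/
theorem exists_idem : ∃ (e w' : AddMonoid.End V) (n : ℕ), Commute e 𝖺 ∧ Commute e 𝖻 ∧ e * e = e ∧
    w' * omg 𝖺 𝖻 = e ∧ Commute w' 𝖺 ∧ omg 𝖺 𝖻 ^ n * (1 - e) = 0 := by
  haveI := P.fin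
  haveI : Finite (AddMonoid.End V) :=
    Finite.of_injective (fun f => (f : V → V)) DFunLike.coe_injective
  obtain ⟨n, hn, hnn⟩ := exists_idem_pow (omg 𝖺 𝖻)
  set w := omg 𝖺 𝖻 with hw
  have hwa : Commute w 𝖺 := omg_comm_left P.aa P.bb
  refine ⟨w ^ n, w ^ (n - 1) * w ^ n, n, hwa.pow_left n, (omg_comm_right P.aa P.bb).pow_left n, hnn, ?_,
    (hwa.pow_left _).mul_left (hwa.pow_left n), by rw [mul_sub, mul_one, hnn, sub_self]⟩
  rw [mul_assoc, ← pow_succ, ← pow_add, show n - 1 + (n + 1) = n + n by omega, pow_add, hnn]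

section Split

variable {e w' : AddMonoid.End V} {n : ℕ} (hea : Commute e (rho V z - 1))
  (heb : Commute e (rho V (g * z * g⁻¹) - 1)) (he : e * e = e)
  (hw' : w' * omg (rho V z - 1) (rho V (g * z * g⁻¹) - 1) = e)
  (hn : omg (rho V z - 1) (rho V (g * z * g⁻¹) - 1) ^ n * (1 - e) = 0)
include hea heb he hw' hn

theorem comm_f {h : X} (hh : h ∈ 𝔾) : Commute (rho V h) (1 - e) :=
  (Commute.one_right _).sub_right (commute_gen hea.symm heb.symm hh)

/-- Every element of the group has a `p`-power trivial on the null part. -/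
theorem pow_trivial {h : X} (hh : h ∈ 𝔾) :
    ∃ k : ℕ, rho V (h ^ p ^ k) * (1 - e) = 1 - e := by
  set a := 𝖺 with ha'
  set b := 𝖻 with hb'
  set f := 1 - e with hf
  obtain ⟨U, hU0, hU⟩ : ∃ U : ℕ → AddSubgroup V, U 0 = AddMonoidHom.range (f : V →+ V) ∧
      ∀ m, U (m + 1) = imE a (U m) ⊔ imE b (U m) :=
    ⟨fun m => Nat.rec (AddMonoidHom.range (f : V →+ V)) (fun _ W => imE a W ⊔ imE b W) m, rfl,
      fun _ => rfl⟩
  have hanti : ∀ m, U (m + 1) ≤ U m := by
    intro m
    induction m with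
    | zero =>
      rw [hU, hU0]
      refine sup_le ?_ ?_ <;> rintro _ ⟨_, ⟨v, rfl⟩, rfl⟩
      · exact ⟨a v, DFunLike.congr_fun ((Commute.one_left a).sub_left hea).eq v⟩
      · exact ⟨b v, DFunLike.congr_fun ((Commute.one_left b).sub_left heb).eq v⟩
    | succ m ih =>
      rw [hU (m + 1)]
      conv_rhs => rw [hU m]
      exact sup_le_sup (imE_mono a ih) (imE_mono b ih)
  set w := omg a b with hw
  have hwa : Commute w a := omg_comm_left P.aa P.bb
  have hwb : Commute w b := omg_comm_right P.aa P.bb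
  have h3 : ∀ m, U (m + 3) ≤ imE w (U (m + 1)) := by
    intro m
    induction m with
    | zero =>
      have e1 : a * (b * a) = w * a := by
        rw [hw, omg, add_mul, mul_assoc b a a, P.aa, mul_zero, add_zero, mul_assoc]
      have e2 : b * (a * b) = w * b := by
        rw [hw, omg, add_mul, mul_assoc a b b, P.bb, mul_zero, zero_add, mul_assoc]
      have z1 : a * (a * a) = 0 := by rw [P.aa, mul_zero]
      have z2 : a * (a * b) = 0 := by rw [← mul_assoc, P.aa, zero_mul]
      have z3 : a * (b * b) = 0 := by rw [P.bb, mul_zero]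
      have z4 : b * (a * a) = 0 := by rw [P.aa, mul_zero]
      have z5 : b * (b * a) = 0 := by rw [← mul_assoc, P.bb, zero_mul]
      have z6 : b * (b * b) = 0 := by rw [P.bb, mul_zero]
      rw [show (0 + 3 : ℕ) = 0 + 1 + 1 + 1 from rfl, hU (0 + 1 + 1), hU (0 + 1), hU 0]
      simp only [imE_sup, imE_imE, e1, e2, z1, z2, z3, z4, z5, z6, imE_zero,
        bot_sup_eq, sup_bot_eq, le_refl]
    | succ m ih =>
      rw [show m + 1 + 3 = m + 3 + 1 from rfl, hU (m + 3), hU (m + 1), imE_sup, imE_imE, imE_imE,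
        hwa.eq, hwb.eq, ← imE_imE, ← imE_imE]
      exact sup_le_sup (imE_mono a ih) (imE_mono b ih)
  have hodd : ∀ m, U (2 * m + 1) ≤ imE (w ^ m) (U 1) := by
    intro m
    induction m with
    | zero => intro v hv; exact ⟨v, hv, by rw [pow_zero]; rfl⟩
    | succ m ih =>
      refine (h3 (2 * m)).trans ?_
      rw [pow_succ', ← imE_imE]
      exact imE_mono w ih
  have hbot : ∀ N, 2 * n + 1 ≤ N → U N = ⊥ := by
    have h0 : U (2 * n + 1) = ⊥ := by
      refine le_bot_iff.1 ((hodd n).trans ?_)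
      rw [hU 0, hU0, imE_sup, imE_imE, imE_imE]
      refine sup_le ?_ ?_ <;> rintro _ ⟨_, ⟨v, rfl⟩, rfl⟩ <;> rw [AddSubgroup.mem_bot]
      · show (w ^ n * a * f : AddMonoid.End V) v = 0
        rw [(hwa.pow_left n).eq, mul_assoc, hn, mul_zero]; rfl
      · show (w ^ n * b * f : AddMonoid.End V) v = 0
        rw [(hwb.pow_left n).eq, mul_assoc, hn, mul_zero]; rfl
    intro N hN
    exact le_bot_iff.1 ((antitone_nat_of_succ_le hanti hN).trans h0.le)
  have hmove : ∀ m, ∀ v ∈ U m, h • v - v ∈ U (m + 1) := by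
    have hgen : ∀ x ∈ Submonoid.closure ({z, g * z * g⁻¹} : Set X), ∀ m, ∀ v ∈ U m,
        x • v - v ∈ U (m + 1) := by
      intro x hx
      induction hx using Submonoid.closure_induction with
      | mem y hy =>
        intro m v hv
        rcases hy with rfl | rfl
        · rw [hU]; exact AddSubgroup.mem_sup_left ⟨v, hv, rfl⟩
        · rw [hU]; exact AddSubgroup.mem_sup_right ⟨v, hv, rfl⟩
      | one => intro m v _; rw [one_smul, sub_self]; exact zero_mem _
      | mul x y _ _ hx hy =>
        intro m v hv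
        have hyv : y • v ∈ U m := by
          simpa using add_mem (hanti m (hy m v hv)) hv
        simpa [mul_smul] using add_mem (hx m _ hyv) (hy m v hv)
    refine hgen h ?_
    rwa [← closure_toSubmonoid_of_finite]
  have hit : ∀ (v : V) (N : ℕ), ((rho V h - 1) ^ N : AddMonoid.End V) (f v) ∈ U N := by
    intro v N
    induction N with
    | zero => rw [hU0]; exact ⟨v, by rw [pow_zero]; rfl⟩
    | succ N ih => rw [pow_succ']; exact hmove N _ ih
  haveI : Nontrivial V := by
    by_contra hV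
    rw [not_nontrivial_iff_subsingleton] at hV
    exact P.z_ne (P.faith z fun v => Subsingleton.elim _ _)
  haveI : Nontrivial (AddMonoid.End V) := by
    obtain ⟨v, hv⟩ := exists_ne (0 : V)
    exact ⟨1, 0, fun h => hv (DFunLike.congr_fun h v)⟩
  haveI : CharP (AddMonoid.End V) p := (CharP.charP_iff_prime_eq_zero hp.out).2 (AddMonoidHom.ext
    fun v => by exact (AddMonoid.End.natCast_apply p v).trans (P.tors v))
  refine ⟨2 * n + 1, AddMonoidHom.ext fun v => ?_⟩
  have h1 := hit v (p ^ (2 * n + 1))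
  rw [hbot _ (Nat.lt_pow_self hp.out.one_lt).le, AddSubgroup.mem_bot,
    sub_pow_char_pow_of_commute _ _ (Commute.one_right _), one_pow, ← map_pow] at h1
  exact sub_eq_zero.1 h1

/-- The square of an element commuting with `z` and trivial on the null part. -/
theorem sq_centralizing {h : X} (hh : h ∈ 𝔾) (hz : Commute h z)
    (hf : rho V h * (1 - e) = 1 - e) :
    h * h ∈ zpowers z ∧ (h * h = 1 → Commute h (g * z * g⁻¹)) := by
  obtain ⟨q, hq, hq'⟩ := P.exists_quad hh
  have hca : Commute (rho V h) 𝖺 := (hz.map (rho V)).sub_right (Commute.one_right _)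
  obtain ⟨F, hF, hF'⟩ := of_commute P.aa P.bb hea heb he hw' hq hq' (rho_inv_mul h) hca
  set u := phi' 𝖺 𝖻 F * (𝖺 * e) with hu
  have hsplit : rho V (h * h) = 1 + (u + u) := by
    have h0 : rho V (h * h) * (1 - e) = 1 - e := by rw [map_mul, mul_assoc, hf, hf]
    calc rho V (h * h) = rho V (h * h) * e + rho V (h * h) * (1 - e) := by
          rw [← mul_add, add_sub_cancel, mul_one]
      _ = e + (u + u) + (1 - e) := by rw [h0, map_mul, mul_assoc, hF]
      _ = 1 + (u + u) := by abel
  have hval : ∀ v, (h * h) • v - v = (u + u : AddMonoid.End V) v := fun v => by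
    show rho V (h * h) v - v = _
    rw [hsplit]
    show v + (u + u : AddMonoid.End V) v - v = _
    abel
  refine ⟨P.rig _ (fun v => ?_) (fun v hv => ?_), fun h1 => ?_⟩
  · refine ⟨(phi' 𝖺 𝖻 F * e + phi' 𝖺 𝖻 F * e : AddMonoid.End V) v, ?_⟩
    rw [hval]
    show _ = (𝖺 * (phi' 𝖺 𝖻 F * e + phi' 𝖺 𝖻 F * e) : AddMonoid.End V) v
    rw [mul_add, move_a P.aa P.bb]
  · have h0 : 𝖺 v = 0 := sub_eq_zero.2 hv
    rw [← sub_eq_zero, hval, hu, ← hea.eq, ← mul_assoc]
    show (phi' 𝖺 𝖻 F * e : AddMonoid.End V) (𝖺 v) + (phi' 𝖺 𝖻 F * e : AddMonoid.End V) (𝖺 v) = 0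
    rw [h0, map_zero, add_zero]
  · have h2 : u + u = 0 := by simpa [h1] using hsplit
    have hu0 : u = 0 := by
      rw [← one_nsmul u, nsmul_congr_zmod (end_tors P.tors) (m := 1) (m' := 2 * ((p + 1) / 2)) ?_,
        mul_comm, mul_nsmul', two_nsmul, h2, nsmul_zero]
      rw [show 2 * ((p + 1) / 2) = p + 1 by
        obtain ⟨r, hr⟩ := hp.out.odd_of_ne_two (by have := P.five; omega); omega]
      simp
    have hc : Commute (rho V h) 𝖻 := by
      have hs : rho V h = rho V h * e + (1 - e) := by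
        rw [← hf, ← mul_add, add_sub_cancel, mul_one]
      rw [hs]
      exact (hF' hu0).add_left ((Commute.one_left _).sub_left heb)
    have hc' := hc.add_right (Commute.one_right _)
    rw [sub_add_cancel] at hc'
    exact rho_inj P.faith (((rho V).map_mul _ _).trans (hc'.eq.trans ((rho V).map_mul _ _).symm))

/-- `z` is trivial on the null part. -/
theorem z_null : rho V z * (1 - e) = 1 - e := by
  set K : Subgroup X :=
    { carrier := {h | h ∈ 𝔾 ∧ rho V h * (1 - e) = 1 - e}
      one_mem' := ⟨one_mem _, by rw [map_one, one_mul]⟩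
      mul_mem' := fun {x y} hx hy => ⟨mul_mem hx.1 hy.1, by rw [map_mul, mul_assoc, hy.2, hx.2]⟩
      inv_mem' := fun {x} hx => ⟨inv_mem hx.1, by
        rw [← hx.2, ← mul_assoc, rho_inv_mul, one_mul, hx.2]⟩ } with hK
  have hKG : ∀ x ∈ K, x ∈ 𝔾 := fun x hx => hx.1
  have hKn : ∀ x ∈ 𝔾, ∀ y ∈ K, x * y * x⁻¹ ∈ K := fun x hx y hy =>
    ⟨mul_mem (mul_mem hx hy.1) (inv_mem hx), by
      rw [map_mul, map_mul, mul_assoc, (P.comm_f hea heb he hw' hn (inv_mem hx)).eq, ← mul_assoc,
        mul_assoc (rho V x), hy.2, (P.comm_f hea heb he hw' hn hx).eq, mul_assoc, rho_mul_inv,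
        mul_one]⟩
  have hzG : z ∈ 𝔾 := subset_closure (Or.inl rfl)
  have hzG' : g * z * g⁻¹ ∈ 𝔾 := subset_closure (Or.inr rfl)
  have hsq : ∀ y ∈ K, Commute y z → y * y ∈ zpowers z ∧ (y * y = 1 → Commute y (g * z * g⁻¹)) :=
    fun y hy hc => P.sq_centralizing hea heb he hw' hn hy.1 hc hy.2
  by_cases hdvd : p ∣ Nat.card K
  · letI act : MulAction (zpowers z) K :=
      { smul := fun t y => ⟨(t : X) * y * (t : X)⁻¹, hKn _ (zpowers_le.2 hzG t.2) _ y.2⟩
        one_smul := fun y => Subtype.ext (show (1 : X) * (y : X) * (1 : X)⁻¹ = y by group)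
        mul_smul := fun s t y => Subtype.ext (show ((s : X) * t) * (y : X) * ((s : X) * t)⁻¹ =
          (s : X) * ((t : X) * y * (t : X)⁻¹) * (s : X)⁻¹ by group) }
    have hzp : IsPGroup p (zpowers z) := IsPGroup.of_card (n := 1) (by
      rw [Nat.card_zpowers, orderOf_eq_prime P.zp P.z_ne, pow_one])
    have hmod := hzp.card_modEq_card_fixedPoints K
    let C : Subgroup K :=
      { carrier := {y | Commute (y : X) z}
        one_mem' := Commute.one_left z
        mul_mem' := fun hx hy => Commute.mul_left hx hy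
        inv_mem' := fun hx => Commute.inv_left hx }
    have hfix : Nat.card (MulAction.fixedPoints (zpowers z) K) = Nat.card C := by
      refine Nat.card_congr (Equiv.subtypeEquivRight fun y => ?_)
      rw [MulAction.mem_fixedPoints]
      constructor
      · intro hy
        have := congrArg Subtype.val (hy ⟨z, mem_zpowers z⟩)
        exact (mul_inv_eq_iff_eq_mul.1 this).symm
      · rintro hy ⟨_, j, rfl⟩
        refine Subtype.ext ?_
        show z ^ j * (y : X) * (z ^ j)⁻¹ = y
        rw [← (Commute.zpow_right hy j).eq, mul_inv_cancel_right]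
    have hC : p ∣ Nat.card C := by
      rw [← hfix]
      exact (Nat.modEq_zero_iff_dvd.1 (hmod.symm.trans (Nat.modEq_zero_iff_dvd.2 hdvd)))
    obtain ⟨y, hy⟩ := exists_prime_orderOf_dvd_card' p hC
    have hyo : orderOf ((y : K) : X) = p := by rw [orderOf_coe, orderOf_coe, hy]
    have h2 := (hsq _ (y : K).2 y.2).1
    have hy1 : ((y : K) : X) ∈ zpowers z := by
      have h3 := pow_mem h2 ((p + 1) / 2)
      rw [← pow_two, ← pow_mul, show 2 * ((p + 1) / 2) = p + 1 by
        obtain ⟨r, hr⟩ := hp.out.odd_of_ne_two (by have := P.five; omega); omega, pow_succ] at h3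
      nth_rewrite 1 [← hyo] at h3
      rwa [pow_orderOf_eq_one, one_mul] at h3
    have hle : zpowers ((y : K) : X) = zpowers z := by
      refine eq_of_le_of_card_ge (zpowers_le.2 hy1) ?_
      rw [Nat.card_zpowers, Nat.card_zpowers, hyo, orderOf_eq_prime P.zp P.z_ne]
    exact ((zpowers_le.2 (y : K).2) (hle.ge (mem_zpowers z)) : z ∈ K).2
  · exfalso
    have hone : ∀ x ∈ K, x ^ p = 1 → x = 1 := fun x hx hxp => by
      rcases (Nat.dvd_prime hp.out).1 (orderOf_dvd_of_pow_eq_one hxp) with h1 | h1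
      · exact orderOf_eq_one_iff.1 h1
      · exact absurd (h1 ▸ orderOf_coe (⟨x, hx⟩ : K) ▸ orderOf_dvd_natCard _) hdvd
    set B : Subgroup X := K ⊓ centralizer {z} with hB
    have hBz : ∀ y ∈ B, Commute y z := fun y hy => mem_centralizer_singleton_iff.1 hy.2
    have hBc : ∀ y ∈ B, ∀ x ∈ 𝔾, Commute x y := by
      intro y hy x hx
      obtain ⟨h1, h2⟩ := hsq y hy.1 (hBz y hy)
      have h3 : y * y = 1 := hone _ (mul_mem hy.1 hy.1) (by
        obtain ⟨j, hj⟩ := h1
        rw [← hj, ← zpow_natCast, ← zpow_mul, mul_comm, zpow_mul, zpow_natCast, P.zp, one_zpow])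
      refine ((closure_le (K := centralizer {y})).2 ?_ hx |> mem_centralizer_singleton_iff.1)
      rintro _ (rfl | rfl) <;> rw [SetLike.mem_coe, mem_centralizer_singleton_iff]
      exacts [(hBz y hy).eq.symm, (h2 h3).eq.symm]
    let ahom : HomRep V V := HomRep.of (show AddMonoid.End V from 𝖺)
    let U₂ : AddSubgroup (HomRep V V) :=
      { carrier := {F | ∀ b ∈ B, b • F = F}
        zero_mem' := fun b _ => smul_zero b
        add_mem' := fun hF hG b hb => by rw [smul_add, hF b hb, hG b hb]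
        neg_mem' := fun hF b hb => by rw [smul_neg, hF b hb] }
    have hcent : ∀ x ∈ 𝔾, ∀ F ∈ U₂, x • F ∈ U₂ := fun x hx F hF b hb => by
      rw [← mul_smul, ← (hBc b hb x hx).eq, mul_smul, hF b hb]
    have hfil := (fil_quad P.quad).hom (fil_quad P.quad) (by norm_num)
    have hKc : ∀ d ∈ K, ∀ F ∈ U₂, d • F - F ∈ (⊥ : AddSubgroup (HomRep V V)) := by
      refine dif_mem_of_fpf (p := p) (B := B) (g := z) (homRep_tors P.tors) (fun d hd b hb => ?_)
        (fun d hd => hKn z hzG d hd) (fun b hb => ?_) P.zp (fun hd => hdvd ?_) (fun d hd hb => ?_)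
        (fun d hd F hF => ?_) (fun d hd => hcent d (hKG d hd)) (hcent z hzG) (fun b hb F hF => ?_)
        fun F hF => ?_
      · rw [(hBc b hb d (hKG d hd)).eq, mul_inv_cancel_right]; exact hb
      · rw [(hBc b hb z hzG).eq, mul_inv_cancel_right]; exact hb
      · exact hd.trans ((relIndex_dvd_of_le_left K bot_le).trans (relIndex_bot_left K).dvd)
      · obtain ⟨β, hβ⟩ : ∃ β, β = z * d * z⁻¹ * d⁻¹ := ⟨_, rfl⟩
        rw [← hβ] at hb
        have hit : ∀ j : ℕ, z ^ j * d * (z ^ j)⁻¹ = β ^ j * d := by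
          intro j
          induction j with
          | zero => simp
          | succ j ih =>
            rw [pow_succ' z, show z * z ^ j * d * (z * z ^ j)⁻¹ = z * (z ^ j * d * (z ^ j)⁻¹) * z⁻¹ by
              group, ih, show z * (β ^ j * d) * z⁻¹ = z * β ^ j * z⁻¹ * (z * d * z⁻¹) by group,
              ((hBc β hb z hzG).pow_right j).eq, mul_inv_cancel_right,
              show z * d * z⁻¹ = β * d by rw [hβ]; group, pow_succ, mul_assoc]
        have hβ1 : β = 1 := hone β hb.1 (by
          have := hit p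
          rw [P.zp, one_mul, inv_one, mul_one] at this
          exact (mul_eq_right (b := d)).1 this.symm)
        refine ⟨hd, mem_centralizer_singleton_iff.2 ?_⟩
        rw [hβ1, eq_comm, mul_inv_eq_one, mul_inv_eq_iff_eq_mul] at hβ
        exact hβ.symm
      · rw [AddSubgroup.mem_bot] at hF ⊢; rw [hF, smul_zero]
      · rw [AddSubgroup.mem_bot, hF b hb, sub_self]
      · rw [AddSubgroup.mem_bot]
        exact hfil.sum_pow (by have := P.five; omega) (homRep_tors P.tors) (mem_zpowers z) F
    have haU : ahom ∈ U₂ := fun b hb => toE_inj (by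
      rw [toE_smul, show toE ahom = 𝖺 from rfl,
        (((hBz b hb).map (rho V)).sub_right (Commute.one_right _)).eq, mul_assoc, rho_mul_inv,
        mul_one])
    have hKcen : ∀ d ∈ K, ∀ x ∈ 𝔾, Commute x d := by
      intro d hd
      refine hBc d ⟨hd, mem_centralizer_singleton_iff.2 ?_⟩
      have h1 := hKc d hd ahom haU
      rw [AddSubgroup.mem_bot, sub_eq_zero] at h1
      have h2 : rho V d * 𝖺 * rho V d⁻¹ = 𝖺 := congrArg toE h1
      refine rho_inj P.faith ?_
      have h3 := congrArg (· * rho V d) h2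
      simp only [mul_assoc, rho_inv_mul, mul_one] at h3
      rw [map_mul, map_mul]
      rw [mul_sub, sub_mul, mul_one, one_mul] at h3
      exact sub_left_inj.1 h3
    refine P.np ?_
    haveI hnor : (K.subgroupOf 𝔾).Normal := ⟨fun y hy x => hKn x x.2 y hy⟩
    have hqp : IsPGroup p (𝔾 ⧸ K.subgroupOf 𝔾) := fun q => by
      induction q using QuotientGroup.induction_on with
      | H x =>
        obtain ⟨k, hk⟩ := P.pow_trivial hea heb he hw' hn x.2
        refine ⟨k, ?_⟩
        rw [← QuotientGroup.mk_pow, QuotientGroup.eq_one_iff]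
        exact ⟨pow_mem x.2 _, hk⟩
    haveI := hqp.isNilpotent
    haveI : Group.IsNilpotent 𝔾 := Subgroup.isNilpotent_of_ker_le_center
      (QuotientGroup.mk' (K.subgroupOf 𝔾)) (by
        rw [QuotientGroup.ker_mk']
        exact fun y hy => mem_center_iff.2 fun x => Subtype.ext (hKcen y hy x x.2).eq)
    obtain ⟨S⟩ : Nonempty (Sylow p 𝔾) := inferInstance
    haveI hSn : (S : Subgroup 𝔾).Normal :=
      Sylow.normal_of_normalizerCondition Group.normalizerCondition_of_isNilpotent S
    have hin : ∀ x : 𝔾, (x : X) ^ p = 1 → x ∈ (S : Subgroup 𝔾) := fun x hx => by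
      have hpx : IsPGroup p (zpowers x) := by
        obtain ⟨i, -, hi⟩ := (Nat.dvd_prime_pow hp.out).1
          (orderOf_dvd_of_pow_eq_one (show x ^ p ^ 1 = 1 by rw [pow_one]; exact Subtype.ext hx))
        exact IsPGroup.of_card (n := i) (by rw [Nat.card_zpowers, hi])
      have h1 := S.3 (hpx.to_sup_of_normal_right S.2) le_sup_right
      exact h1.le (mem_sup_left (mem_zpowers x))
    have hSt : (S : Subgroup 𝔾) = ⊤ := by
      refine eq_top_iff.2 fun x _ => ?_
      have hle : 𝔾 ≤ (S : Subgroup 𝔾).map (Subgroup.subtype 𝔾) := by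
        rw [closure_le]
        rintro _ (rfl | rfl)
        exacts [⟨⟨_, hzG⟩, hin _ P.zp, rfl⟩, ⟨⟨_, hzG'⟩, hin _ P.zp', rfl⟩]
      obtain ⟨y, hy, hyx⟩ := hle x.2
      exact Subtype.ext hyx ▸ hy
    exact (S.2.to_le hSt.ge).of_equiv topEquiv

/-- The conjugate is trivial on the null part. -/
theorem b_null : 𝖻 * (1 - e) = 0 := by
  haveI := P.fin
  have ha : 𝖺 * (1 - e) = 0 := by
    rw [sub_mul, P.z_null hea heb he hw' hn, one_mul, sub_self]
  have hae : 𝖺 * e = 𝖺 := by rwa [mul_sub, mul_one, sub_eq_zero, eq_comm] at ha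
  set a := 𝖺 with ha'
  set b := 𝖻 with hb'
  set w := omg a b with hw
  let bE : AddMonoid.End V := b * e
  let f : AddMonoid.End V := 1 - e
  have hle : (bE : V →+ V).range ≤ (b : V →+ V).range := by rintro _ ⟨v, rfl⟩; exact ⟨e v, rfl⟩
  have hcard : Nat.card (b : V →+ V).range = Nat.card (a : V →+ V).range := by
    refine Nat.card_congr
      { toFun := fun x => ⟨g⁻¹ • (x : V), ?_⟩
        invFun := fun x => ⟨g • (x : V), ?_⟩
        left_inv := fun x => Subtype.ext (smul_inv_smul g _)
        right_inv := fun x => Subtype.ext (inv_smul_smul g _) }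
    · obtain ⟨v, hv⟩ := x.2
      refine ⟨g⁻¹ • v, ?_⟩
      rw [← hv, hb', b_eq]
      show a (g⁻¹ • v) = g⁻¹ • (g • a (g⁻¹ • v))
      rw [inv_smul_smul]
    · obtain ⟨v, hv⟩ := x.2
      refine ⟨g • v, ?_⟩
      rw [← hv, hb', b_eq]
      show g • a (g⁻¹ • g • v) = g • a v
      rw [inv_smul_smul]
  have hge : Nat.card (a : V →+ V).range ≤ Nat.card (bE : V →+ V).range := by
    refine Nat.card_le_card_of_injective (fun x => ⟨b (x : V), ?_⟩) fun x y hxy => ?_
    · obtain ⟨v, hv⟩ := x.2
      refine ⟨a v, ?_⟩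
      rw [← hv]
      show (b * e * a : AddMonoid.End V) v = (b * a : AddMonoid.End V) v
      rw [mul_assoc, hea.eq, hae]
    · obtain ⟨v, hv⟩ := (x - y).2
      have h0 : b ((x - y : (a : V →+ V).range) : V) = 0 := by
        rw [AddSubgroup.coe_sub, map_sub, sub_eq_zero]
        exact congrArg Subtype.val hxy
      rw [← sub_eq_zero]
      refine Subtype.ext ?_
      show ((x - y : (a : V →+ V).range) : V) = 0
      rw [← hv] at h0 ⊢
      have hba : (e * a : AddMonoid.End V) v = a v := by rw [hea.eq, hae]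
      show a v = 0
      rw [← hba, ← hw']
      show (w' : AddMonoid.End V) ((a * b + b * a : AddMonoid.End V) (a v)) = 0
      have : (a * b + b * a : AddMonoid.End V) (a v) = 0 := by
        show a (b (a v)) + (b * (a * a) : AddMonoid.End V) v = 0
        rw [show b (a v) = 0 from h0, map_zero, P.aa, mul_zero, zero_add]
        rfl
      rw [this, map_zero]
  have heq : (bE : V →+ V).range = (b : V →+ V).range := by
    exact SetLike.coe_injective (Set.eq_of_subset_of_ncard_le hle
      (by rw [← Nat.card_coe_set_eq, ← Nat.card_coe_set_eq]; exact hcard.le.trans hge) (Set.toFinite _))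
  refine AddMonoidHom.ext fun v => ?_
  show (b * (1 - e) : AddMonoid.End V) v = 0
  obtain ⟨u, hu⟩ := heq.ge ⟨f v, rfl⟩
  have h1 : (e * (b * (1 - e)) : AddMonoid.End V) = 0 := by
    rw [← mul_assoc, heb.eq, mul_assoc, mul_sub, mul_one, he, sub_self, mul_zero]
  have h2 := DFunLike.congr_fun h1 v
  change e (b ((1 - e : AddMonoid.End V) v)) = 0 at h2
  have hu' : b (e u) = b ((1 - e : AddMonoid.End V) v) := hu
  rw [← hu'] at h2
  show b ((1 - e : AddMonoid.End V) v) = 0
  rw [← hu', ← h2]
  show (b * e : AddMonoid.End V) u = (e * (b * e) : AddMonoid.End V) u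
  rw [← mul_assoc, heb.eq, mul_assoc, he]

/-- The whole group is trivial on the null part. -/
theorem all_null {h : X} (hh : h ∈ 𝔾) : rho V h * (1 - e) = 1 - e := by
  induction hh using closure_induction with
  | mem y hy =>
    rcases hy with rfl | rfl
    · exact P.z_null hea heb he hw' hn
    · have := P.b_null hea heb he hw' hn
      rwa [sub_mul, one_mul, sub_eq_zero] at this
  | one => rw [map_one, one_mul]
  | mul a b _ _ iha ihb => rw [map_mul, mul_assoc, ihb, iha]
  | inv a _ iha => rw [← iha, ← mul_assoc, rho_inv_mul, one_mul, iha]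

/-- The kernel of `z - 1`. -/
theorem ker_split (hwa : Commute w' (rho V z - 1)) {v : V} (hv : z • v = v) :
    ∃ u : V, v = (1 - e : AddMonoid.End V) v + (z • u - u) := by
  refine ⟨(w' * (𝖻 * e) : AddMonoid.End V) v, ?_⟩
  have h0 : 𝖺 v = 0 := sub_eq_zero.2 hv
  have h1 : e v = (w' * (omg 𝖺 𝖻 * e) : AddMonoid.End V) v := by rw [← mul_assoc, hw', he]
  have h2 : (omg 𝖺 𝖻 * e : AddMonoid.End V) v = (𝖺 * (𝖻 * e) : AddMonoid.End V) v := by
    rw [omg, add_mul, mul_assoc, mul_assoc 𝖻, ← hea.eq]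
    show _ + 𝖻 (e (𝖺 v)) = _
    rw [h0, map_zero, map_zero, add_zero]
    rfl
  have h3 : e v = 𝖺 ((w' * (𝖻 * e) : AddMonoid.End V) v) := by
    rw [h1]
    show w' ((omg 𝖺 𝖻 * e : AddMonoid.End V) v) = _
    rw [h2]
    show (w' * 𝖺 : AddMonoid.End V) ((𝖻 * e : AddMonoid.End V) v) = _
    rw [hwa.eq]
    rfl
  show v = v - e v + 𝖺 _
  rw [← h3, sub_add_cancel]

end Split

end Pair

/-- **A quadratic pair gives a power automorphism of `z`.** -/
theorem main {z g : X} (P : Pair p V z g) :
    ∃ (h : X) (c : ℕ), (c : ZMod p) ≠ 1 ∧ h * z * h⁻¹ = z ^ c ∧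
      (∀ v : V, z • v = v → ∃ u, h • v - v = z • u - u) ∧
      (7 ≤ p → ∃ s : ℕ, ∀ u : V, h • (z • u - u) = s • (z • u - u)) := by
  obtain ⟨e, w', n, hea, heb, he, hw', hwa, hn⟩ := P.exists_idem
  set z' := g * z * g⁻¹ with hz'
  set G := closure ({z, z'} : Set X) with hG
  set a : AddMonoid.End V := rho V z - 1 with ha
  set b : AddMonoid.End V := rho V z' - 1 with hb
  have hzG : z ∈ G := subset_closure (Or.inl rfl)
  have hzG' : z' ∈ G := subset_closure (Or.inr rfl)
  have hnull : ∀ h ∈ G, rho V h * (1 - e) = 1 - e := fun h hh => P.all_null hea heb he hw' hn hh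
  have hae : a * e = a := by
    have h1 : a * (1 - e) = 0 := by rw [ha, sub_mul, hnull z hzG, one_mul, sub_self]
    rwa [mul_sub, mul_one, sub_eq_zero, eq_comm] at h1
  set M : Subgroup X := G ⊓ normalizer (zpowers z : Set X) with hM
  have hzM : z ∈ M := ⟨hzG, le_normalizer (mem_zpowers z)⟩
  -- the power of a normalising element
  have hpow : ∀ h ∈ normalizer (zpowers z : Set X), ∃ k : ℕ, h * z * h⁻¹ = z ^ k := by
    intro h hh
    have h1 := (mem_normalizer_iff.1 hh z).1 (mem_zpowers z)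
    rw [← mem_powers_iff_mem_zpowers] at h1
    obtain ⟨k, hk⟩ := h1
    exact ⟨k, hk.symm⟩
  have hra : ∀ k : ℕ, rho V (z ^ k) = 1 + k • a := by
    intro k
    induction k with
    | zero => simp
    | succ k ih =>
      rw [pow_succ, map_mul, ih, succ_nsmul, show rho V z = 1 + a by rw [ha, add_sub_cancel], mul_add,
        mul_one, add_mul, one_mul, smul_mul_assoc, P.aa, nsmul_zero, add_zero, add_assoc]
  have hconj : ∀ {h : X} {k : ℕ}, h * z * h⁻¹ = z ^ k → rho V h * a * rho V h⁻¹ = k • a := by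
    intro h k hk
    have := congrArg (rho V) hk
    rw [map_mul, map_mul, hra] at this
    rw [ha, mul_sub, sub_mul, mul_one, this, rho_mul_inv, add_sub_cancel_left, ha]
  have hscal : ∀ {h : X} {k : ℕ}, h * z * h⁻¹ = z ^ k → rho V h * a = k • (a * rho V h) := by
    intro h k hk
    rw [← smul_mul_assoc, ← hconj hk, mul_assoc (rho V h * a), rho_inv_mul, mul_one]
  -- elements of order `p` of `M` are powers of `z`
  have hMp : ∀ y ∈ M, y ^ p = 1 → y ∈ zpowers z := by
    intro y hy hyp
    obtain ⟨k, hk⟩ := hpow y hy.2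
    have hit : ∀ j : ℕ, y ^ j * z * (y ^ j)⁻¹ = z ^ (k ^ j) := by
      intro j
      induction j with
      | zero => simp
      | succ j ih =>
        rw [pow_succ' y, show y * y ^ j * z * (y * y ^ j)⁻¹ = y * (y ^ j * z * (y ^ j)⁻¹) * y⁻¹ by
          group, ih, ← conj_pow, hk, ← pow_mul, ← pow_succ']
    have h1 : z ^ (k ^ p) = z := by rw [← hit, hyp, one_mul, inv_one, mul_one]
    have h2 : ((k ^ p : ℕ) : ZMod p) = ((1 : ℕ) : ZMod p) := by
      rw [ZMod.natCast_eq_natCast_iff, ← orderOf_eq_prime P.zp P.z_ne, ← pow_eq_pow_iff_modEq,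
        pow_one, orderOf_eq_prime P.zp P.z_ne]
      exact h1
    rw [Nat.cast_pow, ZMod.pow_card, Nat.cast_one] at h2
    have hc : Commute y z := by
      have h3 : z ^ k = z := by
        conv_rhs => rw [← pow_one z]
        rw [pow_eq_pow_iff_modEq, orderOf_eq_prime P.zp P.z_ne, ← ZMod.natCast_eq_natCast_iff, h2,
          Nat.cast_one]
      rw [h3, mul_inv_eq_iff_eq_mul] at hk
      exact hk
    have h3 := pow_mem (P.sq_centralizing hea heb he hw' hn hy.1 hc (hnull y hy.1)).1 ((p + 1) / 2)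
    rwa [← pow_two, ← pow_mul, show 2 * ((p + 1) / 2) = p + 1 by
      obtain ⟨r, hr⟩ := hp.out.odd_of_ne_two (by have := P.five; omega); omega, pow_succ, hyp,
      one_mul] at h3
  have hTI : ∀ x ∈ G, x ∉ M → ∀ t ∈ zpowers z, x⁻¹ * t * x ∈ M → t = 1 := by
    intro x hxG hxM t ht hm
    by_contra ht1
    have htp : t ^ p = 1 := by
      obtain ⟨j, rfl⟩ := ht
      rw [← zpow_natCast, ← zpow_mul, mul_comm, zpow_mul, zpow_natCast, P.zp, one_zpow]
    have h1 := hMp _ hm (by
      have := conj_pow (i := p) (a := x⁻¹) (b := t)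
      rw [inv_inv] at this
      rw [this, htp, mul_one, inv_mul_cancel])
    have hgen : zpowers t = zpowers z := by
      refine eq_of_le_of_card_ge (zpowers_le.2 ht) ?_
      rw [Nat.card_zpowers, Nat.card_zpowers, orderOf_eq_prime htp ht1, orderOf_eq_prime P.zp P.z_ne]
    have h2 : ∀ s ∈ zpowers z, x⁻¹ * s * x ∈ zpowers z := by
      intro s hs
      rw [← hgen] at hs
      obtain ⟨j, rfl⟩ := hs
      have := zpow_mem h1 j
      have e1 := conj_zpow (i := j) (a := x⁻¹) (b := t)
      rw [inv_inv] at e1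
      rwa [e1] at this
    have h4 : x⁻¹ ∈ normalizer (zpowers z : Set X) :=
      Fusion.Saturation.mem_normalizer_of_forall fun s hs => by rw [inv_inv]; exact h2 s hs
    exact hxM ⟨hxG, (Subgroup.inv_mem_iff _).1 h4⟩
  -- the conclusion for an element of `M`
  have hmid : ∀ {h : X} {k : ℕ}, h ∈ G → h * z * h⁻¹ = z ^ k →
      ∀ v : V, z • v = v → ∃ u, h • v - v = z • u - u := by
    intro h k hh hk v hv
    obtain ⟨u, hu⟩ := P.ker_split hea heb he hw' hn hwa hv
    refine ⟨(k • (rho V h u) - u : V), ?_⟩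
    have h1 : h • ((1 - e : AddMonoid.End V) v) = (1 - e : AddMonoid.End V) v :=
      DFunLike.congr_fun (hnull h hh) v
    have h2 : h • (z • u - u) = k • a (rho V h u) := DFunLike.congr_fun (hscal hk) u
    calc h • v - v = h • ((1 - e : AddMonoid.End V) v + (z • u - u)) -
          ((1 - e : AddMonoid.End V) v + (z • u - u)) := by rw [← hu]
      _ = k • a (rho V h u) - (z • u - u) := by rw [smul_add, h1, h2]; abel
      _ = a (k • rho V h u - u) := by rw [map_sub, map_nsmul]; rfl
      _ = _ := rfl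
  have hfil := (fil_quad P.quad).hom (fil_quad P.quad) (by norm_num)
  let ahom : HomRep V V := HomRep.of (a : V →+ V)
  -- some power is not one
  have hne : ∃ h ∈ M, ∃ k : ℕ, h * z * h⁻¹ = z ^ k ∧ (k : ZMod p) ≠ 1 := by
    by_contra hall
    push Not at hall
    have hfix : ∀ m ∈ M, m • ahom = ahom := by
      intro m hm
      obtain ⟨k, hk⟩ := hpow m hm.2
      refine toE_inj ?_
      rw [toE_smul, show toE ahom = a from rfl, hconj hk,
        nsmul_congr_zmod (end_tors P.tors) (m' := 1) (by rw [hall m hm k hk, Nat.cast_one]),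
        one_nsmul]
    have h1 := fixed_of_short (p := p) P.zp P.z_ne hzM inf_le_left hTI hfil
      (by have := P.five; omega) (homRep_tors P.tors) ahom hfix z' hzG'
    have h2 : rho V z' * a * rho V z'⁻¹ = a := congrArg toE h1
    refine P.not_commute (rho_inj P.faith ?_)
    have h3 := congrArg (· * rho V z') h2
    simp only [mul_assoc, rho_inv_mul, mul_one] at h3
    rw [ha, mul_sub, sub_mul, mul_one, one_mul] at h3
    exact ((rho V).map_mul _ _).trans ((sub_left_inj.1 h3).symm.trans ((rho V).map_mul _ _).symm)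
  by_cases hsq : ∃ h ∈ M, ∃ k : ℕ, h * z * h⁻¹ = z ^ k ∧ ((k * k : ℕ) : ZMod p) ≠ 1
  · obtain ⟨h, hhM, k, hk, hk2⟩ := hsq
    have hk2' : (h * h) * z * (h * h)⁻¹ = z ^ (k * k) := by
      rw [show h * h * z * (h * h)⁻¹ = h * (h * z * h⁻¹) * h⁻¹ by group, hk, ← conj_pow, hk,
        ← pow_mul]
    refine ⟨h * h, k * k, hk2, hk2', hmid (mul_mem hhM.1 hhM.1) hk2', fun _ => ⟨k, fun u => ?_⟩⟩
    obtain ⟨q, hq, hq'⟩ := P.exists_quad hhM.1
    have h1 := of_scaled P.aa P.bb hea heb he hw' hq hq' (rho_inv_mul h) (hscal hk)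
    rw [← ha, hae] at h1
    have h2 := DFunLike.congr_fun h1 u
    rw [mul_smul]
    exact h2
  · push Not at hsq
    obtain ⟨h, hhM, k, hk, hk1⟩ := hne
    refine ⟨h, k, hk1, hk, hmid hhM.1 hk, fun h7 => ?_⟩
    exfalso
    -- the product `F ↦ a F a` is invariant
    let Θ : HomRep (HomRep V V) (HomRep V V) := HomRep.of
      { toFun := fun F => HomRep.of ((a * toE F * a : AddMonoid.End V) : V →+ V)
        map_zero' := by
          refine toE_inj ?_
          show a * 0 * a = 0
          rw [mul_zero, zero_mul]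
        map_add' := fun F F' => by
          refine toE_inj ?_
          show a * (toE F + toE F') * a = a * toE F * a + a * toE F' * a
          rw [mul_add, add_mul] }
    have hΘ : ∀ F, toE (Θ F) = a * toE F * a := fun F => rfl
    have hact : ∀ (m : X) (F : HomRep V V), toE ((m • Θ) F) =
        rho V m * a * rho V m⁻¹ * toE F * (rho V m * a * rho V m⁻¹) := fun m F => by
      rw [HomRep.conj_apply, toE_smul, hΘ, toE_smul, inv_inv]
      simp only [mul_assoc]
    have hfix : ∀ m ∈ M, m • Θ = Θ := by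
      intro m hm
      obtain ⟨j, hj⟩ := hpow m hm.2
      refine HomRep.ext fun F => toE_inj ?_
      rw [hact, hconj hj, hΘ, smul_mul_assoc, smul_mul_assoc, mul_smul_comm, ← mul_nsmul',
        nsmul_congr_zmod (end_tors P.tors) (m' := 1) (by rw [hsq m hm j hj, Nat.cast_one]),
        one_nsmul]
    have h1 := fixed_of_short (p := p) P.zp P.z_ne hzM inf_le_left hTI (hfil.hom hfil (by norm_num))
      (by omega) (homRep_tors (homRep_tors P.tors)) Θ hfix z' hzG'
    have h2 := congrArg toE (DFunLike.congr_fun h1 (HomRep.of (b : V →+ V)))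
    rw [hact, hΘ, show toE (HomRep.of (b : V →+ V)) = b from rfl] at h2
    set r := rho V z' with hr
    set r' := rho V z'⁻¹ with hr'
    have hbr : Commute r b := (Commute.refl r).sub_right (Commute.one_right r)
    have hbr' : Commute r' b := commute_rho_inv hbr
    have habw : a * b * a = omg a b * a := by
      rw [omg, add_mul, mul_assoc b a a, P.aa, mul_zero, add_zero]
    set w := omg a b with hw
    have hwr : Commute r w :=
      Pair.commute_gen (omg_comm_left P.aa P.bb).symm (omg_comm_right P.aa P.bb).symm hzG'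
    have h3 : r * a * r' * b * (r * a * r') = w * (r * a * r') := by
      calc r * a * r' * b * (r * a * r') = r * a * ((r' * b) * r) * a * r' := by simp only [mul_assoc]
        _ = r * a * (b * (r' * r)) * a * r' := by rw [hbr'.eq, mul_assoc b]
        _ = r * (a * b * a) * r' := by rw [hr, hr', rho_inv_mul, mul_one]; simp only [mul_assoc]
        _ = _ := by rw [habw, ← mul_assoc r w, hwr.eq]; simp only [mul_assoc]
    rw [h3, habw, ← sub_eq_zero, ← mul_sub] at h2
    have h4 : r * a * r' - a = 0 := by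
      refine cancel (a := a) (b := b) he hw' h2 ?_
      have hre : Commute r e := Pair.commute_gen hea.symm heb.symm hzG'
      rw [mul_sub, hea.eq, hae, ← mul_assoc, ← mul_assoc, ← hre.eq, mul_assoc r e a, hea.eq, hae]
    refine P.not_commute (rho_inj P.faith ?_)
    have h5 := congrArg (· * r) (sub_eq_zero.1 h4)
    simp only [mul_assoc, hr, hr', rho_inv_mul, mul_one] at h5
    rw [ha, mul_sub, sub_mul, mul_one, one_mul] at h5
    exact ((rho V).map_mul _ _).trans ((sub_left_inj.1 h5).symm.trans ((rho V).map_mul _ _).symm)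

end QuadPair

/-- A quadratic element with a conjugate not generating a `p`-group with it. -/
theorem exists_scalar_conj {p : ℕ} [Fact p.Prime] (hp5 : 5 ≤ p) {X : Type*} [Group X] [Finite X]
    {V : Type*} [AddCommGroup V] [DistribMulAction X V]
    (hfaith : ∀ g : X, (∀ v : V, g • v = v) → g = 1) (htors : ∀ v : V, p • v = 0) [Finite V]
    {z g : X} (hzp : z ^ p = 1) (hquad : ∀ v : V, z • (z • v - v) = z • v - v)
    (hrig : ∀ c : X, (∀ v : V, ∃ u : V, c • v - v = z • u - u) →
      (∀ v : V, z • v = v → c • v = v) → c ∈ Subgroup.zpowers z)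
    (hnp : ¬ IsPGroup p (Subgroup.closure {z, g * z * g⁻¹})) :
    ∃ (h : X) (c : ℕ), (c : ZMod p) ≠ 1 ∧ h * z * h⁻¹ = z ^ c ∧
      (∀ v : V, z • v = v → ∃ u, h • v - v = z • u - u) ∧
      (7 ≤ p → ∃ s : ℕ, ∀ u : V, h • (z • u - u) = s • (z • u - u)) :=
  QuadPair.main ⟨hp5, hfaith, htors, inferInstance, hzp, hquad, hrig, hnp⟩

end Cfsg.Agent.MaxClassLin
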