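import Cfsg.Agent.Lib.MaxClassLin.TwoCase
import Cfsg.Agent.Lib.MaxClassLin.CaseQuad
import Cfsg.Agent.Lib.MaxClassLin.QuadPair
import Cfsg.Agent.Lib.MaxClassLin.BridgeSys

/-!
# A uniserial system has a nontrivial normal `p`-subgroup
-/

set_option autoImplicit false
set_option linter.unusedSectionVars false
set_option linter.style.haveILetI false

namespace Cfsg.Agent.MaxClassLin

universe u

variable {p : ℕ} [hp : Fact p.Prime] {X : Type*} [Group X] [Finite X] {V : Type*} [AddCommGroup V]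
  [DistribMulAction X V]

namespace Sys

theorem T_ne_bot (S : Sys p X V) : S.T ≠ ⊥ := fun h => by
  obtain ⟨z, hz, hz1⟩ := S.exists_last
  have := S.lev_le_T _ hz
  rw [h, Subgroup.mem_bot] at this
  exact hz1 this

theorem exists_normal_of_top_le (S : Sys p X V) (h : (⊤ : Subgroup X) ≤ Subgroup.normalizer (S.T : Set X)) :
    ∃ N : Subgroup X, N.Normal ∧ IsPGroup p N ∧ N ≠ ⊥ :=
  ⟨S.T, Subgroup.normalizer_eq_top_iff.1 (eq_top_iff.2 h), S.isPGroup_T, S.T_ne_bot⟩

/-- **Core theorem.** -/
theorem exists_normal_pSubgroup [Finite V] (S : Sys p X V) : ∃ N : Subgroup X, N.Normal ∧ IsPGroup p N ∧ N ≠ ⊥ := by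
  rcases (show S.i = 2 ∨ 3 ≤ S.i by have := S.two_le; omega) with hi | hi
  · exact S.exists_normal_of_top_le (S.le_normalizer_T_of_two hi)
  rcases le_or_gt S.d (2 * S.L) with hd | hd
  · exact S.exists_normal_of_quad hi hd fun z g hzp hq hrig hnp =>
      exists_scalar_conj S.five_le S.faithful S.tors hzp hq hrig hnp
  · exact S.exists_normal_of_top_le (S.top_le_normalizer_T_of_large hi hd)

end Sys

theorem coreTheorem : Bridge.CoreTheorem.{u} := fun _ _ _ _ _ _ _ _ _ S => S.exists_normal_pSubgroup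

end Cfsg.Agent.MaxClassLin
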