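import Mathlib

/-!
# The ring generated by two square-zero elements

If `a * a = b * b = 0` then `w = a * b + b * a` commutes with both, and the combinations of
`1, a, b, a * b` with coefficients polynomials in `w` are closed under products; the adjugate is an
anti-automorphism of them.  On an idempotent where `w` is invertible the combinations commuting
with `a` are upper triangular.
-/

set_option autoImplicit false
set_option linter.unusedSectionVars false

namespace Cfsg.Agent.MaxClassLin.QuadPair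

open Polynomial

/-- Coefficients. -/
@[ext]
structure Quad where
  /-- Coefficient of one. -/
  p1 : ℤ[X]
  /-- Coefficient of `a`. -/
  p2 : ℤ[X]
  /-- Coefficient of `b`. -/
  p3 : ℤ[X]
  /-- Coefficient of `a * b`. -/
  p4 : ℤ[X]

/-- The product of coefficients. -/
noncomputable def mulP (p q : Quad) : Quad :=
  ⟨p.p1 * q.p1 + p.p3 * q.p2 * X, p.p1 * q.p2 + p.p2 * q.p1 + p.p4 * q.p2 * X,
    p.p1 * q.p3 + p.p3 * q.p1 + p.p3 * q.p4 * X,
    p.p1 * q.p4 + p.p2 * q.p3 - p.p3 * q.p2 + p.p4 * q.p1 + p.p4 * q.p4 * X⟩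

/-- The adjugate. -/
noncomputable def adjP (p : Quad) : Quad := ⟨p.p1 + p.p4 * X, -p.p2, -p.p3, -p.p4⟩

theorem adjP_adjP (p : Quad) : adjP (adjP p) = p := by
  ext1 <;> simp [adjP]

theorem adjP_mulP (p q : Quad) : mulP (adjP q) (adjP p) = adjP (mulP p q) := by
  ext1 <;> simp only [mulP, adjP] <;> ring

variable {R : Type*} [Ring R]

/-- The symmetrised product. -/
def omg (a b : R) : R := a * b + b * a

/-- Evaluation of a coefficient. -/
noncomputable def phi' (a b : R) : ℤ[X] →ₐ[ℤ] R := aeval (omg a b)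

/-- Evaluation of coefficients. -/
noncomputable def evalQ (a b : R) (q : Quad) : R :=
  phi' a b q.p1 + phi' a b q.p2 * a + phi' a b q.p3 * b + phi' a b q.p4 * (a * b)

variable {a b : R}

theorem phi'_X : phi' a b X = omg a b := aeval_X _

theorem comm_phi {x : R} (h : Commute (omg a b) x) (f : ℤ[X]) : Commute (phi' a b f) x := by
  induction f using Polynomial.induction_on' with
  | add f g hf hg => rw [map_add]; exact hf.add_left hg
  | monomial n c =>
    rw [phi', aeval_monomial]
    exact Commute.mul_left (Algebra.commutes c x) (h.pow_left n)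

variable (ha : a * a = 0) (hb : b * b = 0)
include ha hb

theorem omg_comm_left : Commute (omg a b) a := by
  show (a * b + b * a) * a = a * (a * b + b * a)
  rw [add_mul, mul_add, mul_assoc b a a, ha, mul_zero, ← mul_assoc a a b, ha, zero_mul, mul_assoc]
  abel

theorem omg_comm_right : Commute (omg a b) b := by
  show (a * b + b * a) * b = b * (a * b + b * a)
  rw [add_mul, mul_add, mul_assoc a b b, hb, mul_zero, ← mul_assoc b b a, hb, zero_mul, mul_assoc]
  abel

theorem move_a (f : ℤ[X]) (y : R) : a * (phi' a b f * y) = phi' a b f * (a * y) := by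
  rw [← mul_assoc, ← (comm_phi (omg_comm_left ha hb) f).eq, mul_assoc]

theorem move_b (f : ℤ[X]) (y : R) : b * (phi' a b f * y) = phi' a b f * (b * y) := by
  rw [← mul_assoc, ← (comm_phi (omg_comm_right ha hb) f).eq, mul_assoc]

theorem a_evalQ (q : Quad) : a * evalQ a b q = evalQ a b ⟨0, q.p1, 0, q.p3⟩ := by
  simp only [evalQ, mul_add, move_a ha hb, ha, ← mul_assoc a a b, mul_zero, zero_mul, add_zero,
    map_zero, zero_add, ← (comm_phi (omg_comm_left ha hb) q.p1).eq]

theorem b_evalQ (q : Quad) :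
    b * evalQ a b q = evalQ a b ⟨q.p2 * X, 0, q.p1 + q.p4 * X, -q.p2⟩ := by
  have h1 : b * a = omg a b - a * b := by rw [omg, add_sub_cancel_left]
  have h2 : b * (a * b) = omg a b * b := by rw [omg, add_mul, mul_assoc a b b, hb, mul_zero, zero_add, mul_assoc]
  simp only [evalQ, mul_add, move_b ha hb, ← (comm_phi (omg_comm_right ha hb) q.p1).eq, hb, h1, h2,
    mul_zero, add_zero, map_zero, zero_mul, map_mul, map_add, map_neg, phi'_X, mul_sub, neg_mul,
    add_mul, mul_assoc]
  abel

omit ha hb in
theorem phi_evalQ (f : ℤ[X]) (q : Quad) :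
    phi' a b f * evalQ a b q = evalQ a b ⟨f * q.p1, f * q.p2, f * q.p3, f * q.p4⟩ := by
  simp only [evalQ, mul_add, map_mul, mul_assoc]

omit ha hb in
theorem add_evalQ (p q : Quad) :
    evalQ a b p + evalQ a b q = evalQ a b ⟨p.p1 + q.p1, p.p2 + q.p2, p.p3 + q.p3, p.p4 + q.p4⟩ := by
  simp only [evalQ, map_add, add_mul]
  abel

theorem evalQ_mul (p q : Quad) : evalQ a b p * evalQ a b q = evalQ a b (mulP p q) := by
  conv_lhs => arg 1; rw [evalQ]
  rw [add_mul, add_mul, add_mul, mul_assoc (phi' a b p.p2), mul_assoc (phi' a b p.p3),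
    mul_assoc (phi' a b p.p4), mul_assoc a b, b_evalQ ha hb, a_evalQ ha hb, a_evalQ ha hb, phi_evalQ,
    phi_evalQ, phi_evalQ, phi_evalQ, add_evalQ, add_evalQ, add_evalQ]
  refine congrArg _ ?_
  ext1 <;> simp only [mulP] <;> ring

omit ha hb in
theorem evalQ_one : evalQ a b ⟨1, 0, 0, 0⟩ = 1 := by simp [evalQ]

omit ha hb in
theorem evalQ_a : evalQ a b ⟨0, 1, 0, 0⟩ = a := by simp [evalQ]

section Idem

variable {e w' : R} (hea : Commute e a) (heb : Commute e b) (he : e * e = e) (hw' : w' * omg a b = e)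
include hea heb he hw'

omit he hw' in
theorem e_comm_phi (f : ℤ[X]) : Commute (phi' a b f) e :=
  comm_phi ((hea.mul_right heb).add_right (heb.mul_right hea)).symm f

omit hea heb ha hb in
theorem cancel {x : R} (h : omg a b * x = 0) (hx : e * x = x) : x = 0 := by
  rw [← hx, ← hw', mul_assoc, h, mul_zero]

/-- A coefficient killing `a` on the idempotent kills the idempotent. -/
theorem vanish {f : ℤ[X]} (h : phi' a b f * (a * e) = 0) : phi' a b f * e = 0 := by
  refine cancel (a := a) (b := b) he hw' ?_ ?_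
  · rw [← mul_assoc, ← (comm_phi (Commute.refl _) f).eq, mul_assoc, omg, add_mul, mul_add,
      mul_assoc a b e, ← heb.eq, ← mul_assoc a e b, mul_assoc b a e, ← move_b ha hb, ← mul_assoc _ _ b,
      h, zero_mul, mul_zero, add_zero]
  · rw [← mul_assoc, ← (e_comm_phi ha hb hea heb f).eq, mul_assoc, he]

omit he hw' in
theorem e_fix (f : ℤ[X]) (heq : e * e = e) : e * (phi' a b f * (a * e)) = phi' a b f * (a * e) := by
  rw [← mul_assoc, ← (e_comm_phi ha hb hea heb f).eq, mul_assoc, ← mul_assoc e a e, hea.eq, mul_assoc,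
    heq]

/-- A combination squeezed to zero by `a` has no `b`-part. -/
theorem third_zero {p : Quad} (h : a * evalQ a b p * a = 0) : phi' a b p.p3 * e = 0 := by
  refine vanish ha hb hea heb he hw' (cancel (a := a) (b := b) he hw' ?_ (e_fix ha hb hea heb _ he))
  conv at h => lhs; rw [a_evalQ ha hb]; arg 2; rw [← evalQ_a (a := a) (b := b)]
  rw [evalQ_mul ha hb] at h
  have h2 : phi' a b p.p3 * omg a b * a = 0 := by simpa [evalQ, mulP, phi'_X] using h
  rw [← mul_assoc, ← (comm_phi (Commute.refl _) p.p3).eq, ← mul_assoc, h2, zero_mul]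

theorem mul_a {p : Quad} (h3 : phi' a b p.p3 * e = 0) :
    evalQ a b p * (a * e) = phi' a b (p.p1 + p.p4 * X) * (a * e) := by
  rw [← mul_assoc]
  conv_lhs => arg 1; arg 2; rw [← evalQ_a (a := a) (b := b)]
  rw [evalQ_mul ha hb, show mulP p ⟨0, 1, 0, 0⟩ = ⟨p.p3 * X, p.p1 + p.p4 * X, 0, -p.p3⟩ by
    ext1 <;> simp [mulP]]
  have h3' : ∀ y : R, Commute e y → phi' a b p.p3 * (y * e) = 0 := fun y hy => by
    rw [← hy.eq, ← mul_assoc, h3, zero_mul]
  rw [evalQ, add_mul, add_mul, add_mul, map_zero, zero_mul, zero_mul, add_zero, map_neg, neg_mul,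
    neg_mul, mul_assoc _ (a * b) e, h3' _ (hea.mul_right heb), neg_zero, add_zero, map_mul, phi'_X,
    mul_assoc _ (omg a b) e,
    h3' (omg a b) ((hea.mul_right heb).add_right (heb.mul_right hea)), zero_add, mul_assoc]

theorem a_mul {p : Quad} (h3 : phi' a b p.p3 * e = 0) :
    a * (evalQ a b p * e) = phi' a b p.p1 * (a * e) := by
  rw [← mul_assoc, a_evalQ ha hb]
  have h3' : phi' a b p.p3 * (a * b * e) = 0 := by
    rw [← (hea.mul_right heb).eq, ← mul_assoc, h3, zero_mul]
  simp only [evalQ, map_zero, zero_mul, add_zero, zero_add, add_mul, mul_assoc] at *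
  rw [h3', add_zero]

omit hea heb he hw' in
theorem adj_mul_self {h hi : R} {p : Quad} (hp : h = evalQ a b p) (hp' : hi = evalQ a b (adjP p))
    (hinv : hi * h = 1) (y : R) : evalQ a b (adjP p) * (evalQ a b p * y) = y := by
  rw [← hp, ← hp', ← mul_assoc, hinv, one_mul]

/-- A combination commuting with `a`: its square is unipotent, and it is scalar when this square
is trivial. -/
theorem of_commute {h hi : R} {p : Quad} (hp : h = evalQ a b p) (hp' : hi = evalQ a b (adjP p))
    (hinv : hi * h = 1) (hc : Commute h a) :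
    ∃ f : ℤ[X], h * (h * e) = e + (phi' a b f * (a * e) + phi' a b f * (a * e)) ∧
      (phi' a b f * (a * e) = 0 → Commute (h * e) b) := by
  subst hp hp'
  have h3 := third_zero ha hb hea heb he hw' (p := p) (by rw [← hc.eq, mul_assoc, ha, mul_zero])
  have h4 : phi' a b p.p4 * e = 0 := by
    refine vanish ha hb hea heb he hw' (cancel (a := a) (b := b) he hw' ?_ (e_fix ha hb hea heb _ he))
    have h := mul_a ha hb hea heb he hw' h3
    rw [← mul_assoc, hc.eq, mul_assoc, a_mul ha hb hea heb he hw' h3, map_add, add_mul, left_eq_add,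
      map_mul, phi'_X] at h
    rw [← mul_assoc, ← (comm_phi (Commute.refl _) p.p4).eq, h]
  have red : ∀ q : Quad, phi' a b q.p3 * e = 0 → phi' a b q.p4 * e = 0 →
      evalQ a b q * e = phi' a b q.p1 * e + phi' a b q.p2 * (a * e) := by
    intro q h1 h2
    rw [evalQ, add_mul, add_mul, add_mul, mul_assoc _ b e, ← heb.eq, ← mul_assoc _ e b, h1, zero_mul,
      mul_assoc _ (a * b) e, ← (hea.mul_right heb).eq, ← mul_assoc _ e (a * b), h2, zero_mul,
      add_zero, add_zero, mul_assoc]
  let K : Ideal ℤ[X] :=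
    { carrier := {f | phi' a b f * e = 0}
      zero_mem' := by simp
      add_mem' := fun {f g} hf hg => by
        show phi' a b (f + g) * e = 0
        rw [map_add, add_mul, show phi' a b f * e = 0 from hf, show phi' a b g * e = 0 from hg,
          add_zero]
      smul_mem' := fun g f hf => by
        show phi' a b (g * f) * e = 0
        rw [map_mul, mul_assoc, show phi' a b f * e = 0 from hf, mul_zero] }
  have congr1 : ∀ f g : ℤ[X], f - g ∈ K → phi' a b f * e = phi' a b g * e := fun f g hfg => by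
    rw [← sub_eq_zero, ← sub_mul, ← map_sub]
    exact hfg
  have congr2 : ∀ f g : ℤ[X], f - g ∈ K → phi' a b f * (a * e) = phi' a b g * (a * e) :=
    fun f g hfg => by rw [← hea.eq, ← mul_assoc, congr1 f g hfg, mul_assoc]
  have hp3 : p.p3 ∈ K := h3
  have hp4 : p.p4 ∈ K := h4
  have key : ∀ q : Quad, q.p3 ∈ K → q.p4 ∈ K →
      evalQ a b q * (evalQ a b p * e) =
        phi' a b (q.p1 * p.p1) * e + phi' a b (q.p1 * p.p2 + q.p2 * p.p1) * (a * e) := by
    intro q h1 h2
    rw [← mul_assoc, evalQ_mul ha hb, red]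
    · refine congrArg₂ (· + ·) (congr1 _ _ ?_) (congr2 _ _ ?_)
      · simpa [mulP, mul_assoc] using K.mul_mem_right (p.p2 * X) h1
      · simpa [mulP, mul_assoc] using K.mul_mem_right (p.p2 * X) h2
    · exact K.add_mem (K.add_mem (K.mul_mem_left _ hp3) (K.mul_mem_right _ h1))
        (K.mul_mem_right _ (K.mul_mem_right _ h1))
    · exact K.add_mem (K.add_mem (K.sub_mem (K.add_mem (K.mul_mem_left _ hp4) (K.mul_mem_left _ hp3))
        (K.mul_mem_right _ h1)) (K.mul_mem_right _ h2)) (K.mul_mem_right _ (K.mul_mem_right _ h2))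
  have hone : phi' a b (p.p1 * p.p1) * e = e := by
    have h := key (adjP p) (neg_mem hp3) (neg_mem hp4)
    rw [adj_mul_self ha hb rfl rfl hinv] at h
    conv_rhs => rw [h]
    rw [congr1 ((adjP p).p1 * p.p1) (p.p1 * p.p1) ?_, congr2 _ 0 ?_, map_zero, zero_mul, add_zero]
    · rw [show ((adjP p).p1 * p.p2 + (adjP p).p2 * p.p1 - 0) = p.p4 * (X * p.p2) by
        simp only [adjP]; ring]
      exact K.mul_mem_right _ hp4
    · rw [show ((adjP p).p1 * p.p1 - p.p1 * p.p1) = p.p4 * (X * p.p1) by simp only [adjP]; ring]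
      exact K.mul_mem_right _ hp4
  refine ⟨p.p1 * p.p2, ?_, fun hf => ?_⟩
  · rw [key p hp3 hp4, hone, mul_comm p.p2, map_add, add_mul]
  · have h2 : phi' a b p.p2 * e = 0 := by
      refine vanish ha hb hea heb he hw' ?_
      calc phi' a b p.p2 * (a * e) = phi' a b p.p2 * (a * (phi' a b (p.p1 * p.p1) * e)) := by
            rw [hone]
        _ = phi' a b p.p1 * (phi' a b (p.p1 * p.p2) * (a * e)) := by
            rw [move_a ha hb, ← mul_assoc (phi' a b p.p2), ← map_mul, ← mul_assoc (phi' a b p.p1),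
              ← map_mul]
            congr 2; ring
        _ = 0 := by rw [hf, mul_zero]
    rw [red p h3 h4, ← mul_assoc _ a e, (comm_phi (omg_comm_left ha hb) p.p2).eq, mul_assoc, h2,
      mul_zero, add_zero]
    exact (comm_phi (omg_comm_right ha hb) _).mul_left heb

/-- A combination raising `1 + a` to a power `k`: its square is the scalar `k` on the image of `a`. -/
theorem of_scaled {h hi : R} {p : Quad} (hp : h = evalQ a b p) (hp' : hi = evalQ a b (adjP p))
    (hinv : hi * h = 1) {k : ℕ} (hk : h * a = k • (a * h)) : h * (h * (a * e)) = k • (a * e) := by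
  subst hp hp'
  have h3 := third_zero ha hb hea heb he hw' (p := p) (by
    rw [mul_assoc, hk, mul_smul_comm, ← mul_assoc, ha, zero_mul, smul_zero])
  set u := phi' a b p.p1 with hu
  have hh : evalQ a b p * (a * e) = k • (u * (a * e)) := by
    rw [← mul_assoc, hk, smul_mul_assoc, mul_assoc, a_mul ha hb hea heb he hw' h3]
  have hhi : evalQ a b (adjP p) * (a * e) = u * (a * e) := by
    rw [mul_a ha hb hea heb he hw' (by simp [adjP, h3]), hu]
    congr 2
    simp [adjP]
  have hcomm : ∀ q : Quad, Commute u (evalQ a b q) := fun q => by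
    have ca := comm_phi (omg_comm_left ha hb) p.p1
    have cb := comm_phi (omg_comm_right ha hb) p.p1
    have cf : ∀ f : ℤ[X], Commute u (phi' a b f) := fun f =>
      (Commute.all p.p1 f).map (phi' a b)
    exact (((cf _).add_right ((cf _).mul_right ca)).add_right ((cf _).mul_right cb)).add_right
      ((cf _).mul_right (ca.mul_right cb))
  have h1 := adj_mul_self ha hb rfl rfl hinv (a * e)
  rw [hh, mul_smul_comm, ← mul_assoc, ← (hcomm _).eq, mul_assoc, hhi] at h1
  calc evalQ a b p * (evalQ a b p * (a * e)) = k • (evalQ a b p * (u * (a * e))) := by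
        rw [hh, mul_smul_comm]
    _ = k • (k • (u * (u * (a * e)))) := by
        rw [← mul_assoc, ← (hcomm p).eq, mul_assoc, hh, mul_smul_comm]
    _ = k • (a * e) := by rw [h1]

end Idem

end Cfsg.Agent.MaxClassLin.QuadPair
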