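import Cfsg.Agent.Lib.MaxClassLin.Weights

/-!
# The shifts of the layers of `lev 0`

`sh k` is the least amount by which an element of `lev k` moves some layer.  It increases strictly
with `k` and it is the exponent of the weight of the layer.
-/

set_option autoImplicit false
set_option linter.unusedSectionVars false
set_option linter.style.haveILetI false

namespace Cfsg.Agent.MaxClassLin

open scoped commutatorElement

variable {p : ℕ} [hp : Fact p.Prime] {X : Type*} [Group X] {V : Type*} [AddCommGroup V]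
  [DistribMulAction X V]

namespace Sys

variable (S : Sys p X V)

/-- The elements of `T` moving every layer by at least `s`. -/
def shiftGroup (S : Sys p X V) (s : ℕ) : Subgroup X where
  carrier := {g | g ∈ S.T ∧ ∀ l, ∀ v ∈ S.W l, g • v - v ∈ S.W (l + s)}
  one_mem' := ⟨one_mem _, fun l v _ => by simp⟩
  mul_mem' := fun {a b} ha hb => ⟨mul_mem ha.1 hb.1, fun l v hv => by
    have := add_mem (ha.2 l _ (S.smul_mem_W hb.1 hv)) (hb.2 l v hv)
    rwa [sub_add_sub_cancel, ← mul_smul] at this⟩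
  inv_mem' := fun {a} ha => ⟨inv_mem ha.1, fun l v hv => by
    have := neg_mem (ha.2 l _ (S.smul_mem_W (inv_mem ha.1) hv))
    rwa [smul_inv_smul, neg_sub] at this⟩

theorem shiftGroup_anti {s t : ℕ} (h : s ≤ t) : S.shiftGroup t ≤ S.shiftGroup s := fun _ hg =>
  ⟨hg.1, fun l v hv => S.W_anti (by omega) (hg.2 l v hv)⟩

open Classical in
/-- The least shift in the layer `k` of `lev 0` (and `d` for the trivial layers). -/
noncomputable def sh (S : Sys p X V) (k : ℕ) : ℕ :=
  Nat.findGreatest (fun s => S.lev k ≤ S.shiftGroup s) S.d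

theorem lev_le_shiftGroup (k : ℕ) : S.lev k ≤ S.shiftGroup (k + 2) := fun a ha =>
  ⟨S.lev_le_T k ha, fun l v hv => by rw [← Nat.add_assoc]; exact S.shift k a ha l v hv⟩

theorem sh_spec (k : ℕ) : S.lev k ≤ S.shiftGroup (S.sh k) := by
  classical
  exact Nat.findGreatest_spec (P := fun s => S.lev k ≤ S.shiftGroup s) (Nat.zero_le _)
    (fun a ha => ⟨S.lev_le_T k ha, fun l v hv => by
      rw [Nat.add_zero]; exact sub_mem (S.smul_mem_W (S.lev_le_T k ha) hv) hv⟩)

/-- Elements of `lev k` move every layer by at least `sh k`. -/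
theorem sh_shift {k : ℕ} {a : X} (ha : a ∈ S.lev k) {l : ℕ} {v : V} (hv : v ∈ S.W l) :
    a • v - v ∈ S.W (l + S.sh k) := (S.sh_spec k ha).2 l v hv

theorem le_sh {k s : ℕ} (hs : s ≤ S.d) (h : S.lev k ≤ S.shiftGroup s) : s ≤ S.sh k := by
  classical
  exact Nat.le_findGreatest hs h

theorem sh_lt_d {k : ℕ} (hk : k + 2 ≤ S.i) : S.sh k < S.d := by
  classical
  refine lt_of_le_of_ne (Nat.findGreatest_le _) fun h => ?_
  obtain ⟨a, ha, ha1⟩ := S.exists_lev_exact hk
  refine ha1 ?_
  have : a = 1 := S.faithful a fun v => by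
    have := S.sh_shift ha (l := 0) (v := v) (by rw [S.W_zero]; exact AddSubgroup.mem_top v)
    rw [h, S.W_bot _ (by omega), AddSubgroup.mem_bot] at this
    exact sub_eq_zero.1 this
  exact this ▸ one_mem _

theorem add_two_le_sh {k : ℕ} (hk : k + 2 ≤ S.i) : k + 2 ≤ S.sh k :=
  S.le_sh (by have := S.i_le_L; have := S.L_lt; omega) (S.lev_le_shiftGroup k)

/-- The shifts increase strictly. -/
theorem sh_succ {k : ℕ} (hk : k + 3 ≤ S.i) : S.sh k + 1 ≤ S.sh (k + 1) := by
  refine S.le_sh (S.sh_lt_d (by omega)) (S.lev_succ_le' fun a ha => ?_)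
  refine ⟨S.lev_le_T (k + 1) (S.x_comm k a ha), fun l v hv => ?_⟩
  set w := a⁻¹ • S.x⁻¹ • v with hw
  have hwl : w ∈ S.W l :=
    S.smul_mem_W (inv_mem (S.lev_le_T k ha)) (S.smul_mem_W (inv_mem S.x_mem) hv)
  have h1 := S.sh_shift ha (S.stab S.x S.x_mem l w hwl)
  have h2 := S.stab S.x S.x_mem _ _ (S.sh_shift ha hwl)
  have h3 := sub_mem (S.W_anti (show l + (S.sh k + 1) ≤ l + 1 + S.sh k by omega) h1)
    (S.W_anti (show l + (S.sh k + 1) ≤ l + S.sh k + 1 by omega) h2)
  rwa [show a • (S.x • w - w) - (S.x • w - w) - (S.x • (a • w - w) - (a • w - w)) =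
      ⁅a, S.x⁆ • v - v by
    rw [commutatorElement_def, mul_smul, mul_smul, mul_smul, ← hw, smul_sub, smul_sub,
      show S.x • (a • w) = v by rw [hw, smul_inv_smul, smul_inv_smul]]
    abel] at h3

theorem sh_add_le {k : ℕ} : ∀ n : ℕ, k + n + 2 ≤ S.i → S.sh k + n ≤ S.sh (k + n) := by
  intro n
  induction n with
  | zero => intro _; exact le_rfl
  | succ n ih =>
    intro h
    have := ih (by omega)
    have h2 := S.sh_succ (k := k + n) (by omega)
    rw [show k + n + 1 = k + (n + 1) by omega] at h2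
    omega

theorem sh_last : S.sh (S.i - 2) = S.L := by
  have hi := S.two_le
  refine le_antisymm ?_ (S.le_sh S.L_le fun a ha => ⟨S.lev_le_T _ ha, fun l v hv => S.last_shift ha l v hv⟩)
  refine S.le_of_W_le (S.sh_lt_d (by omega)).le ?_
  rw [← S.dsp_L]
  refine S.dsp_le fun g hg v => ?_
  simpa using S.sh_shift hg (l := 0) (v := v) (by rw [S.W_zero]; exact AddSubgroup.mem_top v)

theorem sh_add_le_L {k : ℕ} (hk : k + 2 ≤ S.i) : S.sh k + (S.i - 2 - k) ≤ S.L := by
  have := S.sh_add_le (k := k) (S.i - 2 - k) (by omega)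
  rwa [show k + (S.i - 2 - k) = S.i - 2 by omega, S.sh_last] at this

/-- The exponent of the weight of a layer of `lev 0` agrees with its shift. -/
theorem wt_sh (h : ↥(Subgroup.normalizer (S.T : Set X))) {k : ℕ} (hk : k + 2 ≤ S.i) :
    S.wt h ^ (S.L + k + 2 - S.i) = S.wt h ^ S.sh k := by
  classical
  set s := S.sh k with hs
  have hsd := S.sh_lt_d hk
  -- some element moves some layer exactly by `s`
  have hex : ¬ S.lev k ≤ S.shiftGroup (s + 1) := fun hle => by
    have := S.le_sh (s := s + 1) (by omega) hle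
    omega
  obtain ⟨a, ha, ha1⟩ := Set.not_subset.1 hex
  obtain ⟨l, v, hv, hv1⟩ : ∃ l, ∃ v ∈ S.W l, a • v - v ∉ S.W (l + (s + 1)) := by
    by_contra hc
    push Not at hc
    exact ha1 ⟨S.lev_le_T k ha, hc⟩
  have hls : l + s < S.d := by
    by_contra hc
    refine hv1 ?_
    have := S.sh_shift ha hv
    rw [S.W_bot _ (not_lt.1 hc), AddSubgroup.mem_bot] at this
    rw [this]
    exact zero_mem _
  set u := a • v - v with hu
  have hu0 : u ∈ S.W (l + s) := S.sh_shift ha hv
  set c : (ZMod p) := ((S.wt h ^ (S.L + k + 2 - S.i) : (ZMod p)ˣ) : ZMod p) with hc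
  set b := (h : X) * a * (h : X)⁻¹ * (a ^ c.val)⁻¹ with hb
  have hbk : b ∈ S.lev (k + 1) := S.wt_lev h ha
  have hb1 : ∀ w ∈ S.W l, b • w - w ∈ S.W (l + s + 1) := by
    intro w hw
    rcases lt_or_ge (k + 2) S.i with hk2 | hk2
    · exact S.W_anti (by have := S.sh_succ (k := k) (by omega); omega) (S.sh_shift hbk hw)
    · rw [S.lev_bot (k + 1) (by omega), Subgroup.mem_bot] at hbk
      rw [hbk, one_smul, sub_self]
      exact zero_mem _
  set lam : ZMod p := ((S.wt h ^ (S.L + 1 + l) : (ZMod p)ˣ) : ZMod p) with hlam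
  have hhv : (h : X) • v - lam.val • v ∈ S.W (l + 1) := S.wt_scal h l v hv
  have hhvl : (h : X) • v ∈ S.W l := S.smul_mem_W' h.2 hv
  have e1 : (h : X) • u = b • (a ^ c.val • ((h : X) • v)) - (h : X) • v := by
    rw [hu, smul_sub, ← mul_smul, ← mul_smul, ← mul_smul, hb, inv_mul_cancel_right, mul_smul]
    rw [inv_mul_cancel_right, mul_smul]
  have e2 := hb1 _ (S.smul_mem_W (pow_mem (S.lev_le_T k ha) c.val) hhvl)
  have e3 := S.pow_dif (S.lev_le_T k ha) (l := l) (s := s) (fun w hw => S.sh_shift ha hw) c.val _ hhvl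
  have e4 : a • ((h : X) • v) - (h : X) • v - lam.val • u ∈ S.W (l + s + 1) := by
    have := S.sh_shift ha hhv
    rw [smul_sub, smul_comm a lam.val v, sub_sub_sub_comm, ← nsmul_sub] at this
    rwa [show l + s + 1 = l + 1 + s by omega]
  have e5 : (h : X) • u - (c.val * lam.val) • u ∈ S.W (l + s + 1) := by
    have := add_mem (add_mem e2 e3) (nsmul_mem e4 c.val)
    rw [smul_sub c.val (a • ((h : X) • v) - (h : X) • v), ← mul_smul c.val lam.val u] at this
    rw [e1]
    refine cast ?_ this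
    congr 1
    abel
  have e6 := sub_mem e5 (S.wt_scal h (l + s) u hu0)
  rw [sub_sub_sub_cancel_left] at e6
  set mu : ZMod p := ((S.wt h ^ (S.L + 1 + (l + s)) : (ZMod p)ˣ) : ZMod p) with hmu
  have e7 : mu = c * lam := by
    have h2 : ((mu - c * lam).val) • u = mu.val • u - (c.val * lam.val) • u := by
      rw [eq_sub_iff_add_eq, ← add_smul]
      exact S.nsmul_eq (by simp) u
    have := S.cast_eq_zero hu0 (by rwa [Nat.add_assoc]) (h2 ▸ e6)
    rwa [ZMod.natCast_val, ZMod.cast_id, sub_eq_zero] at this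
  rw [hmu, hc, hlam, ← Units.val_mul, Units.val_inj] at e7
  rw [show S.L + 1 + (l + s) = s + (S.L + 1 + l) by omega, pow_add] at e7
  exact (mul_right_cancel e7).symm

/-- The chain from `lev (i - 1)` to `T`. -/
def levChain (S : Sys p X V) (m : ℕ) : Subgroup X := if m < S.i then S.lev (S.i - 1 - m) else S.T

theorem exists_levChain : ∃ t : ℕ → X, ∀ m < S.i,
    S.levChain m ≤ S.levChain (m + 1) ∧ t m ∈ S.levChain (m + 1) ∧
      (S.levChain m).relIndex (S.levChain (m + 1)) = p ∧
      (∀ j, 0 < j → j < p → t m ^ j ∉ S.levChain m) ∧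
      ∀ l, ∀ v ∈ S.W l,
        t m • v - v ∈ S.W (l + if m + 1 < S.i then S.sh (S.i - 2 - m) else 1) := by
  classical
  have hi := S.two_le
  have hpow : ∀ {H : Subgroup X} {t : X}, t ∈ S.T → t ∉ H → ∀ j, 0 < j → j < p → t ^ j ∉ H := by
    intro H t ht htH j hj hjp hmem
    have hj0 : (j : ZMod p) ≠ 0 := by
      rw [Ne, ZMod.natCast_eq_zero_iff]
      exact fun h => absurd (Nat.le_of_dvd hj h) (by omega)
    have := pow_mem hmem ((j : ZMod p)⁻¹).val
    rw [← pow_mul, S.pow_congr ht (b := 1) (by simp [hj0]), pow_one] at this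
    exact htH this
  have hex : ∀ m, ∃ t : X, m < S.i → t ∈ S.levChain (m + 1) ∧ t ∉ S.levChain m ∧
      (∀ l, ∀ v ∈ S.W l, t • v - v ∈ S.W (l + if m + 1 < S.i then S.sh (S.i - 2 - m) else 1)) := by
    intro m
    by_cases hm : m + 1 < S.i
    · obtain ⟨a, ha, ha1⟩ := S.exists_lev_exact (k := S.i - 2 - m) (by omega)
      refine ⟨a, fun _ => ⟨?_, ?_, fun l v hv => ?_⟩⟩
      · rw [levChain, if_pos hm, show S.i - 1 - (m + 1) = S.i - 2 - m by omega]; exact ha
      · rw [levChain, if_pos (by omega), show S.i - 1 - m = S.i - 2 - m + 1 by omega]; exact ha1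
      · rw [if_pos hm]; exact S.sh_shift ha hv
    · refine ⟨S.x, fun h => ⟨?_, ?_, fun l v hv => ?_⟩⟩
      · rw [levChain, if_neg hm]; exact S.x_mem
      · rw [levChain, if_pos h, show S.i - 1 - m = 0 by omega]; exact S.x_notMem
      · rw [if_neg hm]; exact S.stab S.x S.x_mem l v hv
  choose t ht using hex
  refine ⟨t, fun m hm => ?_⟩
  obtain ⟨h1, h2, h3⟩ := ht m hm
  refine ⟨?_, h1, ?_, hpow ?_ h2, h3⟩
  · by_cases hm1 : m + 1 < S.i
    · rw [levChain, levChain, if_pos hm, if_pos hm1]; exact S.lev_anti (by omega)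
    · rw [levChain, levChain, if_pos hm, if_neg hm1]; exact S.lev_le_T _
  · by_cases hm1 : m + 1 < S.i
    · rw [levChain, levChain, if_pos hm, if_pos hm1,
        show S.i - 1 - m = S.i - 1 - (m + 1) + 1 by omega]
      exact S.lev_index _ (by omega)
    · rw [levChain, levChain, if_pos hm, if_neg hm1, show S.i - 1 - m = 0 by omega]
      exact S.lev_index_zero
  · by_cases hm1 : m + 1 < S.i
    · rw [levChain, if_pos hm1] at h1; exact S.lev_le_T _ h1
    · rw [levChain, if_neg hm1] at h1; exact h1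

end Sys

end Cfsg.Agent.MaxClassLin
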