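import Cfsg.Agent.Lib.MaxClassLin.Descent
import Cfsg.Agent.Lib.MaxClassLin.LocRep

/-!
# The Sylow subgroup of order `p ^ 2`

For `i = 2` the Sylow subgroup is normal.  The last layer is weakly closed and its centralizer
normalizes `T`, so only trivial intersections remain in the descent.  Then either the `(p - 1)`-st
power of a functional fixes the flag, or the average of `φ ⊗ (x - 1) ^ (L + 1)` is fixed by the
whole group, so `W 1` is invariant and the kernel on `V / W 1` has weights of exponent `L + 1`.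
-/

set_option autoImplicit false
set_option linter.unusedSectionVars false
set_option linter.style.haveILetI false

namespace Cfsg.Agent.MaxClassLin

open Cfsg.Agent.SpeTrace

section HomFiltration

variable {X : Type*} [Group X] {U : Type*} [AddCommGroup U] [DistribMulAction X U]
  {W : Type*} [AddCommGroup W] [DistribMulAction X W]

/-- The homomorphisms moving every level `a` into the level `a + n - c`. -/
def homLevel (P : ℕ → AddSubgroup U) (Q : ℕ → AddSubgroup W) (c n : ℕ) :
    AddSubgroup (HomRep U W) where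
  carrier := {f | ∀ a, ∀ v ∈ P a, f v ∈ Q (a + n - c)}
  zero_mem' := fun _ _ _ => zero_mem _
  add_mem' := fun hf hg a v hv => add_mem (hf a v hv) (hg a v hv)
  neg_mem' := fun hf a v hv => neg_mem (hf a v hv)

theorem homLevel_anti {P : ℕ → AddSubgroup U} {Q : ℕ → AddSubgroup W} (hQ : Antitone Q) (c : ℕ) :
    Antitone (homLevel P Q c) :=
  fun _ _ h f hf a v hv => hQ (by omega) (hf a v hv)

theorem homLevel_zero {P : ℕ → AddSubgroup U} {Q : ℕ → AddSubgroup W} {c : ℕ}
    (hP : ∀ a, c < a → P a = ⊥) (hQ : Q 0 = ⊤) : homLevel P Q c 0 = ⊤ := by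
  refine eq_top_iff.2 fun f _ a v hv => ?_
  rcases le_or_gt a c with ha | ha
  · rw [show a + 0 - c = 0 by omega, hQ]
    exact AddSubgroup.mem_top _
  · rw [hP a ha, AddSubgroup.mem_bot] at hv
    rw [hv, map_zero]
    exact zero_mem _

theorem homLevel_bot {P : ℕ → AddSubgroup U} {Q : ℕ → AddSubgroup W} {c H : ℕ} (hP : P 0 = ⊤)
    (hQ : ∀ a, H < a → Q a = ⊥) {n : ℕ} (hn : c + H < n) : homLevel P Q c n = ⊥ := by
  refine eq_bot_iff.2 fun f hf => ?_
  rw [AddSubgroup.mem_bot]
  refine HomRep.ext fun v => ?_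
  have := hf 0 v (by rw [hP]; exact AddSubgroup.mem_top v)
  rwa [hQ _ (by omega), AddSubgroup.mem_bot] at this

theorem moves_homLevel [Finite X] {P : ℕ → AddSubgroup U} {Q : ℕ → AddSubgroup W} (hP : Antitone P)
    (hQ : Antitone Q) {t : X} {s : ℕ} (htP : Moves t P s) (htQ : Moves t Q s) (c : ℕ) :
    Moves t (homLevel P Q c) s := by
  intro n f hf a v hv
  have h0 : t⁻¹ • v - v ∈ P (a + s) := htP.inv hP a v hv
  have h1 := hf (a + s) _ h0
  have h2 : t • f (t⁻¹ • v - v) ∈ Q (a + s + n - c) := by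
    have := add_mem (hQ (Nat.le_add_right _ s) (htQ _ _ h1)) h1
    rwa [sub_add_cancel] at this
  have h3 := htQ _ _ (hf a v hv)
  have h4 := add_mem (hQ (show a + (n + s) - c ≤ a + s + n - c by omega) h2)
    (hQ (show a + (n + s) - c ≤ a + n - c + s by omega) h3)
  rw [map_sub, smul_sub, ← add_sub_assoc, sub_add_cancel] at h4
  exact h4

end HomFiltration

variable {p : ℕ} [hp : Fact p.Prime] {X : Type*} [Group X] [Finite X] {V : Type*} [AddCommGroup V]
  [DistribMulAction X V]

namespace Sys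

variable (S : Sys p X V)

/-- The powers of `x - 1`. -/
def jpow (S : Sys p X V) : ℕ → V →+ V
  | 0 => AddMonoidHom.id V
  | k + 1 => (DistribSMul.toAddMonoidHom V S.x - AddMonoidHom.id V).comp (jpow S k)

theorem jpow_succ (k : ℕ) (v : V) : S.jpow (k + 1) v = S.x • S.jpow k v - S.jpow k v := rfl

theorem jpow_mem {l : ℕ} {v : V} (hv : v ∈ S.W l) : ∀ k, S.jpow k v ∈ S.W (l + k)
  | 0 => hv
  | k + 1 => by rw [jpow_succ]; exact S.stab _ S.x_mem _ _ (jpow_mem hv k)

theorem jpow_notMem {v : V} (hv : v ∉ S.W 1) : ∀ k, k < S.d → S.jpow k v ∉ S.W (k + 1)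
  | 0, _ => hv
  | k + 1, hk => fun h => by
    refine jpow_notMem hv k (by omega) (S.x_exact k (by omega) _ ?_ h)
    simpa using S.jpow_mem (l := 0) (v := v) (by rw [S.W_zero]; exact AddSubgroup.mem_top v) k

theorem jpow_smul {t : X} (ht : Commute t S.x) (k : ℕ) : ∀ v : V, S.jpow k (t • v) = t • S.jpow k v := by
  induction k with
  | zero => intro v; rfl
  | succ k ih =>
    intro v
    rw [jpow_succ, jpow_succ, ih, smul_sub, ← mul_smul, ← mul_smul, ht.eq]

/-- An element of `T` outside `lev 0` fixes only elements of `W (d - 1)`. -/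
theorem fixed_mem_last {t : X} (ht : t ∈ S.T) (ht0 : t ∉ S.lev 0) {v : V} (hv : t • v = v) :
    ∀ l, l + 1 ≤ S.d → v ∈ S.W l := by
  intro l
  induction l with
  | zero => intro _; rw [S.W_zero]; exact AddSubgroup.mem_top v
  | succ l ih =>
    intro hl
    have hvl := ih (by omega)
    by_contra hv1
    refine ht0 (S.mem_lev_zero_of_shift ht (l := l) (by omega) fun w hw => ?_)
    obtain ⟨c, hc⟩ := S.exists_nsmul hvl hv1 hw
    have h1 := S.stab t ht (l + 1) _ hc
    rwa [smul_sub, smul_comm t c v, hv, sub_sub_sub_cancel_right] at h1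

/-- For `i = 2` the Sylow subgroup is normal. -/
theorem le_normalizer_T_of_two (hi : S.i = 2) :
    (⊤ : Subgroup X) ≤ Subgroup.normalizer (S.T : Set X) := by
  classical
  haveI : Fact (1 < p) := ⟨hp.out.one_lt⟩
  haveI := S.finite_V
  have hd3 := S.three_le_d
  have hd := S.d_lt
  have hL2 : 2 ≤ S.L := by have := S.i_le_L; omega
  have hLd := S.L_lt
  set N := Subgroup.normalizer (S.T : Set X) with hN
  obtain ⟨z, hz, hz1⟩ := S.exists_last
  have hz' : z ∈ S.lev 0 := by rwa [hi] at hz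
  have hgen : S.lev 0 ≤ Subgroup.zpowers z := by
    refine S.lev_le_of_mem hz' ?_ (Subgroup.mem_zpowers z) ?_
    · rw [S.lev_bot 1 (by omega), Subgroup.mem_bot]; exact hz1
    · rw [S.lev_bot 1 (by omega)]; exact bot_le
  -- (a) the normalizer of `lev 0`
  have hA : Subgroup.normalizer (S.lev 0 : Set X) ≤ N := by
    set C := Subgroup.centralizer ({z} : Set X) with hC
    have hCle : C ≤ Subgroup.normalizer (S.lev 0 : Set X) := by
      intro c hc
      refine Subgroup.mem_normalizer_fintype fun a ha => ?_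
      obtain ⟨j, rfl⟩ := Subgroup.mem_zpowers_iff.1 (hgen ha)
      have hcz : Commute c (z ^ j) := (Commute.zpow_right (Subgroup.mem_centralizer_singleton_iff.1 hc) j)
      rwa [hcz.eq, mul_inv_cancel_right]
    have hTC : S.T ≤ C := by
      refine S.T_le_of (fun a ha => ?_) ?_
      · obtain ⟨j, rfl⟩ := Subgroup.mem_zpowers_iff.1 (hgen ha)
        exact Subgroup.mem_centralizer_singleton_iff.2 (((Commute.refl z).zpow_left j).eq)
      · exact Subgroup.mem_centralizer_singleton_iff.2 (S.commute_x_last hz).symm.eq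
    refine S.le_normalizer_T_of_normal hTC (S.le_normalizer_T_of_central hCle hTC fun y hy w hw => ?_) ?_
    · rw [hi] at hw
      obtain ⟨j, rfl⟩ := Subgroup.mem_zpowers_iff.1 (hgen hw)
      have hcz : Commute y (z ^ j) := (Commute.zpow_right (Subgroup.mem_centralizer_singleton_iff.1 hy) j)
      rw [hcz.eq, mul_inv_cancel_right]
    · intro g hg c hc
      refine Subgroup.mem_centralizer_singleton_iff.2 ?_
      have hgz : g⁻¹ * z * g ∈ S.lev 0 := by
        have := (Subgroup.mem_normalizer_iff.1 (inv_mem hg) z).1 hz'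
        rwa [inv_inv] at this
      obtain ⟨j, hj⟩ := Subgroup.mem_zpowers_iff.1 (hgen hgz)
      have hcz : Commute c (g⁻¹ * z * g) := hj ▸ (Commute.zpow_right (Subgroup.mem_centralizer_singleton_iff.1 hc) j)
      calc g * c * g⁻¹ * z = g * (c * (g⁻¹ * z * g)) * g⁻¹ := by group
        _ = z * (g * c * g⁻¹) := by rw [hcz.eq]; group
  -- (b) the last layer is weakly closed
  have hB : ∀ g : X, ∀ a ∈ S.lev 0, a ≠ 1 → g⁻¹ * a * g ∈ S.T → g ∈ N := by
    intro g a ha ha1 hga
    have hmem : g⁻¹ * a * g ∈ S.lev 0 := by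
      by_contra hout
      have hinj : Function.Injective fun v : V => g • v := MulAction.injective g
      have hle : (S.W (S.d - S.L)).map (DistribSMul.toAddMonoidHom V g⁻¹) ≤ S.W (S.d - 1) := by
        rintro _ ⟨v, hv, rfl⟩
        refine S.fixed_mem_last hga hout ?_ (S.d - 1) (by omega)
        show (g⁻¹ * a * g) • g⁻¹ • v = g⁻¹ • v
        have hav : a • v = v := by
          have := S.last_shift (hi.symm ▸ ha : a ∈ S.lev (S.i - 2)) (S.d - S.L) v hv
          rwa [S.W_bot _ (by omega), AddSubgroup.mem_bot, sub_eq_zero] at this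
        rw [mul_smul, mul_smul, smul_inv_smul, hav]
      have hc := AddSubgroup.card_le_of_le hle
      rw [Nat.card_congr ((S.W (S.d - S.L)).equivMapOfInjective _ (MulAction.injective g⁻¹)).symm.toEquiv,
        S.card_W (by omega), S.card_W (by omega)] at hc
      have := (Nat.pow_le_pow_iff_right hp.out.one_lt).1 hc
      omega
    refine hA ?_
    have hgen' : S.lev 0 ≤ Subgroup.zpowers a := by
      refine S.lev_le_of_mem ha ?_ (Subgroup.mem_zpowers a) ?_
      · rw [S.lev_bot 1 (by omega), Subgroup.mem_bot]; exact ha1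
      · rw [S.lev_bot 1 (by omega)]; exact bot_le
    have hginv : g⁻¹ ∈ Subgroup.normalizer (S.lev 0 : Set X) := Subgroup.mem_normalizer_fintype fun b hb => by
      obtain ⟨j, rfl⟩ := Subgroup.mem_zpowers_iff.1 (hgen' hb)
      rw [← conj_zpow]
      refine zpow_mem ?_ j
      rwa [inv_inv]
    have := inv_mem hginv
    rwa [inv_inv] at this
  -- (c) descent
  refine S.le_normalizer_T_of_descent le_top fun D hD => ?_
  rw [top_inf_eq]
  obtain ⟨g₀, -, hg₀, hDmem⟩ := hD.witness
  by_cases hout : ∃ y ∈ D, y ∉ S.lev 0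
  · obtain ⟨y, hy, hy0⟩ := hout
    exact S.normalizer_le_of_notMem hD.le hy hy0
  push Not at hout
  have hD1 : ∀ y ∈ D, y = 1 := fun y hy => by
    by_contra hy1
    exact hg₀ (hB g₀ y (hout y hy) hy1 ((hDmem y).1 hy).2)
  have hDbot : D = ⊥ := eq_bot_iff.2 fun y hy => Subgroup.mem_bot.2 (hD1 y hy)
  have hTI : ∀ g : X, g ∉ N → ∀ t ∈ S.T, g⁻¹ * t * g ∈ N → t = 1 := fun g hg t ht htg => by
    have hgD : g ∈ Subgroup.normalizer (D : Set X) := by
      rw [hDbot]
      exact Subgroup.mem_normalizer_fintype fun a ha => by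
        rw [SetLike.mem_coe, Subgroup.mem_bot] at ha ⊢
        simp [ha]
    exact hD1 t (hD.ti g ⟨Subgroup.mem_top g, hgD⟩ hg t ht htg)
  suffices hX : (⊤ : Subgroup X) ≤ N from fun g _ => hX (Subgroup.mem_top g)
  clear hD hDmem hout hD1 hDbot hg₀
  -- the chain
  let Cc : ℕ → Subgroup X := fun k => if k = 0 then ⊥ else if k = 1 then S.lev 0 else S.T
  let tt : ℕ → X := fun k => if k = 0 then z else S.x
  let ss : ℕ → ℕ := fun k => if k = 0 then S.L else 1
  have hpz : z ^ p = 1 := S.pow_p (S.lev_le_T _ hz)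
  have hchain : ∀ k < 2, Cc k ≤ Cc (k + 1) ∧ tt k ∈ Cc (k + 1) ∧ (Cc k).relIndex (Cc (k + 1)) = p ∧
      (∀ j, 0 < j → j < p → tt k ^ j ∉ Cc k) ∧ ∀ m, ∀ v ∈ S.W m, tt k • v - v ∈ S.W (m + ss k) := by
    intro k hk
    rcases (show k = 0 ∨ k = 1 by omega) with rfl | rfl
    · refine ⟨bot_le, hz', ?_, ?_, fun m v hv => S.last_shift hz m v hv⟩
      · show (⊥ : Subgroup X).relIndex (S.lev 0) = p
        rw [Subgroup.relIndex_bot_left, S.card_lev (by omega), hi]
        simp
      · exact (relIndex_sup_zpowers (D := (⊥ : Subgroup X)) hpz (by rw [Subgroup.mem_bot]; exact hz1)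
          (Subgroup.mem_normalizer_fintype fun a ha => by
            rw [SetLike.mem_coe, Subgroup.mem_bot] at ha ⊢
            simp [ha])).2
    · refine ⟨S.lev_le, S.x_mem, S.lev_index_zero, ?_, fun m v hv => S.stab _ S.x_mem m v hv⟩
      exact (relIndex_sup_zpowers (S.pow_p S.x_mem) S.x_notMem (S.lev_normal 0 S.x_mem)).2
  have hCn : Cc 2 = S.T := rfl
  have hsum : ∑ k ∈ Finset.range 2, ss k = S.L + 1 := by
    simp [Finset.sum_range_succ, ss]
  -- the flag from exponents
  have flag : ∀ G : Subgroup X, S.T ≤ G → ∀ e, 0 < e →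
      (∀ l, l + 1 < S.d → ∀ m ∈ G, ∀ hm : m ∈ N, (S.wt ⟨m, hm⟩ ^ (S.L + 1 + l)) ^ e = 1) →
      e * (S.d - 1) < (p - 1) * (S.L + 1) → G ≤ N := by
    intro G hTG e he hw hlt
    suffices hinv : ∀ l, ∀ g ∈ G, ∀ v ∈ S.W l, g • v ∈ S.W l from fun g hg =>
      S.mem_normalizer_of_flag (fun l => hinv l g hg) fun l => hinv l g⁻¹ (inv_mem hg)
    intro l
    induction l with
    | zero => intro g _ v _; rw [S.W_zero]; exact AddSubgroup.mem_top _
    | succ l ih =>
      rcases le_or_gt S.d (l + 1) with hl | hl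
      · intro g _ v hv
        rw [S.W_bot _ hl, AddSubgroup.mem_bot] at hv
        rw [hv, smul_zero]
        exact zero_mem _
      refine S.layer_invariant (C := G) (M := N) (Q := ⊥) (P := S.T) (r := S.d) hl.le le_rfl he ih
        (fun g _ v hv => by
          rw [S.W_bot _ le_rfl, AddSubgroup.mem_bot] at hv ⊢
          rw [hv, smul_zero])
        (fun g _ q hq => by
          rw [Subgroup.mem_bot] at hq ⊢
          simp [hq])
        bot_le Subgroup.le_normalizer hTG
        (fun g _ hg t ht htg => Subgroup.mem_bot.2 (hTI g hg t ht htg)) ?_ 2 Cc tt ss rfl hCn hchain ?_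
      · intro m hm hmN
        refine ⟨_, S.wt_scal ⟨m, hmN⟩ l, ?_⟩
        rw [← Units.val_pow_eq_pow_val, hw l hl m hm hmN, Units.val_one]
      · rw [hsum]
        exact lt_of_le_of_lt (Nat.mul_le_mul_left e (by omega)) hlt
  rcases lt_or_ge (S.L + 1) S.d with hL | hL
  swap
  · -- (d)
    refine flag ⊤ le_top (p - 1) (by omega) (fun l _ m _ hm => ZMod.units_pow_card_sub_one_eq_one p _) ?_
    exact Nat.mul_lt_mul_of_pos_left (by omega) (by omega)
  -- (e) `W 1` is invariant
  obtain ⟨e, he, he1⟩ := S.exists_exact (l := 0) (by omega)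
  obtain ⟨φ₀, hφ₀⟩ := S.exists_layer_functional (l := 0) (by omega)
  have hmem0 : ∀ v : V, v ∈ S.W 0 := fun v => by rw [S.W_zero]; exact AddSubgroup.mem_top v
  let φ : V →+ ZMod p :=
    { toFun := fun v => φ₀ ⟨v, hmem0 v⟩
      map_zero' := map_zero φ₀
      map_add' := fun v w => map_add φ₀ ⟨v, hmem0 v⟩ ⟨w, hmem0 w⟩ }
  have hφ : ∀ v, φ v = 0 ↔ v ∈ S.W 1 := fun v => hφ₀ ⟨v, hmem0 v⟩
  set f₀ := S.jpow (S.L + 1) with hf₀
  let y₀ : HomRep V (HomRep V V) := HomRep.of
    { toFun := fun u => HomRep.of ((φ u).val • f₀)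
      map_zero' := by rw [map_zero, ZMod.val_zero, zero_smul]; rfl
      map_add' := fun u w => HomRep.ext fun v => by
        show (φ (u + w)).val • f₀ v = (φ u).val • f₀ v + (φ w).val • f₀ v
        rw [← add_smul]
        exact S.nsmul_eq (by simp) _ }
  have hy₀ : ∀ u w, y₀ u w = (φ u).val • f₀ w := fun u w => rfl
  have hcomm : ∀ t ∈ S.T, Commute t S.x := by
    intro t ht
    refine (S.T_le_of (H := Subgroup.centralizer ({S.x} : Set X)) (fun a ha => ?_) ?_ ht |>
      Subgroup.mem_centralizer_singleton_iff.1)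
    · exact Subgroup.mem_centralizer_singleton_iff.2 (S.commute_x_last (by rw [hi]; exact ha)).eq
    · exact Subgroup.mem_centralizer_singleton_iff.2 rfl
  have hφT : ∀ t ∈ S.T, ∀ v, φ (t • v) = φ v := fun t ht v => by
    have := (hφ _).2 (S.stab t ht 0 v (hmem0 v))
    rwa [map_sub, sub_eq_zero] at this
  have hyT : ∀ t ∈ S.T, t • y₀ = y₀ := fun t ht => HomRep.ext fun u => HomRep.ext fun w => by
    rw [HomRep.conj_apply, HomRep.conj_apply, hy₀, hy₀, hφT _ (inv_mem ht), hf₀,
      S.jpow_smul (hcomm _ (inv_mem ht)), smul_comm t, smul_inv_smul]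
  -- average over the normalizer of `T`
  haveI := Fintype.ofFinite (N ⧸ S.T.subgroupOf N)
  set y := relSum S.T N y₀ with hy
  have hyN : ∀ m ∈ N, m • y = y := by
    intro m hm
    let f : N ⧸ S.T.subgroupOf N → HomRep V (HomRep V V) := fun r => ((r.out : N) : X) • y₀
    have hequiv : ∀ r, f ((⟨m, hm⟩ : N) • r) = m • f r := by
      intro r
      obtain ⟨u, rfl⟩ := QuotientGroup.mk_surjective r
      rw [MulAction.Quotient.smul_coe]
      show (((QuotientGroup.mk _ : N ⧸ S.T.subgroupOf N).out : N) : X) • y₀ = m • _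
      rw [out_smul S.T N _ hyT]
      show _ = m • (((QuotientGroup.mk u : N ⧸ S.T.subgroupOf N).out : N) : X) • y₀
      rw [out_smul S.T N _ hyT, ← mul_smul]
      rfl
    rw [hy, relSum_eq, Finset.smul_sum]
    exact Fintype.sum_bijective _ (MulAction.bijective (⟨m, hm⟩ : N)) _ _ fun r => (hequiv r).symm
  have heval : ∀ u w, y u w =
      ∑ q : N ⧸ S.T.subgroupOf N, (((q.out : N) : X) • y₀) u w := by
    intro u w
    let ev : HomRep V (HomRep V V) →+ V :=
      { toFun := fun f => f u w, map_zero' := rfl, map_add' := fun _ _ => rfl }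
    rw [hy, relSum_eq]
    exact map_sum ev _ _
  have hyW : ∀ u ∈ S.W 1, y u = 0 := fun u hu => HomRep.ext fun w => by
    rw [heval, HomRep.zero_apply]
    refine Finset.sum_eq_zero fun q _ => ?_
    rw [HomRep.conj_apply, HomRep.conj_apply, hy₀,
      (hφ _).2 (S.smul_mem_W' (inv_mem (q.out : N).2) hu), ZMod.val_zero, zero_smul, smul_zero]
  have hterm : ∀ h ∈ N, (h • y₀) e e - (φ e).val • f₀ e ∈ S.W (S.L + 2) := by
    intro h hh
    rw [HomRep.conj_apply, HomRep.conj_apply, hy₀]
    set w := S.wt ⟨h, hh⟩ with hw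
    have hinv := S.wt_scal (⟨h, hh⟩⁻¹) 0 e he
    rw [map_inv, ← hw, Nat.add_zero] at hinv
    set c : ZMod p := ((w⁻¹ ^ (S.L + 1) : (ZMod p)ˣ) : ZMod p) with hc
    change h⁻¹ • e - c.val • e ∈ S.W 1 at hinv
    have h1 : f₀ (h⁻¹ • e) - c.val • f₀ e ∈ S.W (S.L + 2) := by
      have := S.jpow_mem hinv (S.L + 1)
      rwa [show 1 + (S.L + 1) = S.L + 2 by omega, map_sub, map_nsmul, ← hf₀] at this
    have hφe : φ (h⁻¹ • e) = c * φ e := by
      have := (hφ _).2 hinv
      rw [map_sub, map_nsmul, sub_eq_zero, nsmul_eq_mul, ZMod.natCast_zmod_val] at this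
      exact this
    have hf0e : f₀ e ∈ S.W (S.L + 1) := by
      have := S.jpow_mem he (S.L + 1)
      rwa [Nat.zero_add] at this
    have h2 := S.wt_scal ⟨h, hh⟩ (S.L + 1) _ hf0e
    rw [← hw] at h2
    set μ : ZMod p := ((w ^ (S.L + 1 + (S.L + 1)) : (ZMod p)ˣ) : ZMod p) with hμ
    have h3 := S.smul_mem_W' hh h1
    rw [smul_sub, smul_comm h c.val] at h3
    have h4 := add_mem h3 (nsmul_mem h2 c.val)
    rw [smul_sub c.val, sub_add_sub_cancel, ← mul_smul] at h4
    have h5 := nsmul_mem h4 (φ (h⁻¹ • e)).val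
    rw [smul_sub, ← mul_smul, ← smul_comm h] at h5
    have key : ((φ (h⁻¹ • e)).val * (c.val * μ.val)) • f₀ e = (φ e).val • f₀ e := by
      refine S.nsmul_eq ?_ _
      rw [Nat.cast_mul, Nat.cast_mul, ZMod.natCast_zmod_val, ZMod.natCast_zmod_val,
        ZMod.natCast_zmod_val, ZMod.natCast_zmod_val, hφe, hc, hμ]
      have hone : ((w⁻¹ ^ (S.L + 1) : (ZMod p)ˣ) : ZMod p) *
          ((((w⁻¹ ^ (S.L + 1) : (ZMod p)ˣ) : ZMod p)) * ((w ^ (S.L + 1 + (S.L + 1)) : (ZMod p)ˣ) : ZMod p)) = 1 := by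
        rw [← Units.val_mul, ← Units.val_mul, pow_add w, inv_pow, inv_mul_cancel_left, inv_mul_cancel,
          Units.val_one]
      linear_combination φ e * hone
    rw [key] at h5
    exact h5
  have hidx : ¬ p ∣ S.T.relIndex N := S.not_dvd_relIndex fun t ht =>
    Subgroup.le_normalizer (Subgroup.le_normalizer (H := S.T) ht)
  have hye : y e e ∉ S.W (S.L + 2) := by
    intro hmem
    have h1 : y e e - S.T.relIndex N • ((φ e).val • f₀ e) ∈ S.W (S.L + 2) := by
      rw [heval, Subgroup.relIndex, Subgroup.index_eq_card, Nat.card_eq_fintype_card, ← Finset.card_univ,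
        ← Finset.sum_const, ← Finset.sum_sub_distrib]
      exact AddSubgroup.sum_mem _ fun q _ => hterm _ (q.out : N).2
    have h2 : (S.T.relIndex N * (φ e).val) • f₀ e ∈ S.W (S.L + 2) := by
      have := sub_mem hmem h1
      rwa [sub_sub_cancel, ← mul_smul] at this
    have h3 := S.cast_eq_zero (l := S.L + 1) (by simpa using S.jpow_mem he (S.L + 1))
      (S.jpow_notMem he1 (S.L + 1) hL) h2
    rw [Nat.cast_mul, ZMod.natCast_zmod_val, mul_eq_zero, ZMod.natCast_eq_zero_iff, hφ] at h3
    exact h3.elim hidx he1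
  have hfix : ∀ g : X, g • y = y := by
    let F : ℕ → AddSubgroup (HomRep V (HomRep V V)) :=
      homLevel S.W (homLevel S.W S.W (S.d - 1)) (S.d - 1)
    have hWb : ∀ a, S.d - 1 < a → S.W a = ⊥ := fun a ha => S.W_bot a (by omega)
    have hF0 : F 0 = ⊤ := homLevel_zero hWb (homLevel_zero hWb S.W_zero)
    have hmv : ∀ k < 2, ∀ i w, w ∈ F i → tt k • w - w ∈ F (i + ss k) := fun k hk =>
      moves_homLevel S.W_anti (homLevel_anti S.W_anti _) (hchain k hk).2.2.2.2
        (moves_homLevel S.W_anti S.W_anti (hchain k hk).2.2.2.2 (hchain k hk).2.2.2.2 _) _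
    have hp' : ∀ w : HomRep V (HomRep V V), p • w = 0 := fun w => HomRep.ext fun a => HomRep.ext fun b => by
      let ev : HomRep V (HomRep V V) →+ V :=
        { toFun := fun f => f a b, map_zero' := rfl, map_add' := fun _ _ => rfl }
      show ev (p • w) = 0
      rw [map_nsmul, S.tors]
    have hsh := (relShifts_chain hp' (F := F) Cc tt ss 2 fun k hk => by
      obtain ⟨c1, c2, c3, c4, -⟩ := hchain k hk
      exact ⟨c1, c2, c3, c4, hmv k hk⟩).2
    refine fun g => rel_fixed ⊤ N S.T ⊥ (fun a _ q hq => by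
        rw [Subgroup.mem_bot] at hq ⊢
        simp [hq]) bot_le Subgroup.le_normalizer le_top
      (fun a _ ha t ht hat => Subgroup.mem_bot.2 (hTI a ha t ht hat)) y hyN (fun w hw => ?_) g
      (Subgroup.mem_top g)
    refine SpeTrace.relSum_eq_zero hsh hF0 ?_ w hw
    refine homLevel_bot S.W_zero (H := S.d - 1 + (S.d - 1))
      (fun a ha => homLevel_bot S.W_zero hWb ha) ?_
    rw [hsum]
    have : 3 * (S.d - 1) < (p - 1) * 3 := by omega
    exact lt_of_lt_of_le (by omega) (Nat.mul_le_mul_left (p - 1) (show 3 ≤ S.L + 1 by omega))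
  have hW1 : ∀ g : X, ∀ v ∈ S.W 1, g • v ∈ S.W 1 := by
    let K : AddSubgroup V := (y : V →+ HomRep V V).ker
    have hKinv : ∀ g : X, ∀ v ∈ K, g • v ∈ K := fun g v hv => by
      have h1 := congrArg (fun f : HomRep V (HomRep V V) => f (g • v)) (hfix g)
      simp only [HomRep.conj_apply, inv_smul_smul] at h1
      show y (g • v) = 0
      rw [← h1, show y v = 0 from hv, smul_zero]
    obtain ⟨l, hld, hKl⟩ := S.eq_W (U := K) fun v hv => hKinv _ v hv
    have hl1 : l ≤ 1 := S.le_of_W_le hld (hKl ▸ fun u hu => hyW u hu)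
    have hl0 : l ≠ 0 := by
      intro h0
      refine hye ?_
      have : e ∈ K := by rw [hKl, h0]; exact he
      rw [show y e = 0 from this, HomRep.zero_apply]
      exact zero_mem _
    obtain rfl : l = 1 := by omega
    intro g v hv
    rw [← hKl] at hv ⊢
    exact hKinv g v hv
  -- (f) the kernel on `V / W 1`
  let X₁ : Subgroup X :=
    { carrier := {g | ∀ v : V, g • v - v ∈ S.W 1}
      one_mem' := fun v => by simp
      mul_mem' := fun {a b} ha hb v => by
        have := add_mem (ha (b • v)) (hb v)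
        rwa [sub_add_sub_cancel, ← mul_smul] at this
      inv_mem' := fun {a} ha v => by
        have := neg_mem (ha (a⁻¹ • v))
        rwa [smul_inv_smul, neg_sub] at this }
  have hTX₁ : S.T ≤ X₁ := fun t ht v => S.stab t ht 0 v (hmem0 v)
  have hX₁ : X₁ ≤ N := by
    refine flag X₁ hTX₁ (S.L + 1) (by omega) (fun l _ m hm hmN => ?_) ?_
    · have e0 := S.scal_unique (l := 0) (by omega) (S.wt_scal ⟨m, hmN⟩ 0) (b := 1)
        fun v _ => by rw [ZMod.val_one, one_smul]; exact hm v
      rw [Units.val_eq_one, Nat.add_zero] at e0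
      rw [← pow_mul, mul_comm, pow_mul, e0, one_pow]
    · rw [mul_comm (p - 1)]
      exact Nat.mul_lt_mul_of_pos_left (by omega) (by omega)
  refine S.le_normalizer_T_of_normal hTX₁ hX₁ fun g _ c hc v => ?_
  have := hW1 g _ (hc (g⁻¹ • v))
  rwa [smul_sub, smul_inv_smul, ← mul_smul, ← mul_smul] at this

end Sys

end Cfsg.Agent.MaxClassLin
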