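import Cfsg.Agent.Lib.MaxClassLin.Flag

/-!
# The weight of the normalizer of the Sylow subgroup

One character `wt` of the normalizer of `T` describes its action on all factors: `x` has weight
`wt`, the layer `l` of the module `wt ^ (L + 1 + l)` and the layer `k` of `lev 0` the weight
`wt ^ (L + k + 2 - i)`.
-/

set_option autoImplicit false
set_option linter.unusedSectionVars false
set_option linter.style.haveILetI false

namespace Cfsg.Agent.MaxClassLin

open scoped commutatorElement

variable {p : ℕ} [hp : Fact p.Prime] {X : Type*} [Group X] {V : Type*} [AddCommGroup V]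
  [DistribMulAction X V]

namespace Sys

variable (S : Sys p X V)

/-- `g` acts on the layer `l` by the scalar `c`. -/
def Scal (g : X) (l : ℕ) (c : ZMod p) : Prop := ∀ v ∈ S.W l, g • v - c.val • v ∈ S.W (l + 1)

include S in
theorem nsmul_eq {a b : ℕ} (h : (a : ZMod p) = b) (v : V) : a • v = b • v := by
  have h' := (ZMod.natCast_eq_natCast_iff' a b p).1 h
  rw [← Nat.mod_add_div a p, ← Nat.mod_add_div b p, h', add_smul, add_smul, mul_comm p, mul_comm p,
    mul_smul, mul_smul, S.tors, smul_zero, smul_zero]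

include S in
theorem val_smul (n : ℕ) (v : V) : ((n : ZMod p)).val • v = n • v :=
  S.nsmul_eq (by rw [ZMod.natCast_val, ZMod.cast_id]) v

theorem scal_of_nat {g : X} {l n : ℕ} (h : ∀ v ∈ S.W l, g • v - n • v ∈ S.W (l + 1)) :
    S.Scal g l (n : ZMod p) := fun v hv => by rw [S.val_smul]; exact h v hv

/-- A multiple of an exact element lies deeper only for a multiple of `p`. -/
theorem cast_eq_zero {l n : ℕ} {e : V} (he : e ∈ S.W l) (he1 : e ∉ S.W (l + 1))
    (h : n • e ∈ S.W (l + 1)) : (n : ZMod p) = 0 := by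
  by_contra hn
  refine he1 ?_
  have := nsmul_mem h ((n : ZMod p)⁻¹).val
  rwa [← mul_smul, S.nsmul_eq (b := 1) (by simp [hn]), one_smul] at this

theorem scal_unique {g : X} {l : ℕ} (hl : l < S.d) {a b : ZMod p} (ha : S.Scal g l a)
    (hb : S.Scal g l b) : a = b := by
  obtain ⟨e, he, he1⟩ := S.exists_exact hl
  have h1 : a.val • e - b.val • e ∈ S.W (l + 1) := by
    have := sub_mem (hb e he) (ha e he)
    rwa [sub_sub_sub_cancel_left] at this
  have h2 : ((a - b).val) • e = a.val • e - b.val • e := by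
    rw [eq_sub_iff_add_eq, ← add_smul]
    exact S.nsmul_eq (by simp) e
  have := S.cast_eq_zero he he1 (h2 ▸ h1)
  rwa [ZMod.natCast_val, ZMod.cast_id, sub_eq_zero] at this

theorem scal_mul {g g' : X} {l : ℕ} {a b : ZMod p} (ha : S.Scal g l a) (hb : S.Scal g' l b)
    (hg : ∀ v ∈ S.W (l + 1), g • v ∈ S.W (l + 1)) : S.Scal (g * g') l (a * b) := by
  intro v hv
  have h1 := add_mem (hg _ (hb v hv)) (nsmul_mem (ha v hv) b.val)
  rw [smul_sub, smul_comm g b.val v, nsmul_sub, sub_add_sub_cancel, ← mul_smul, ← mul_smul] at h1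
  rwa [S.nsmul_eq (a := b.val * a.val) (b := (a * b).val) (by simp [mul_comm])] at h1

theorem scal_of_mem_T {t : X} (ht : t ∈ S.T) (l : ℕ) : S.Scal t l 1 := fun v hv => by
  haveI : Fact (1 < p) := ⟨hp.out.one_lt⟩
  rw [ZMod.val_one, one_smul]
  exact S.stab t ht l v hv

theorem pow_congr {t : X} (ht : t ∈ S.T) {a b : ℕ} (h : (a : ZMod p) = b) : t ^ a = t ^ b := by
  have hp1 : t ^ p = 1 := S.pow_p_eq_one (S.unip_eq.symm ▸ ht)
  have h' := (ZMod.natCast_eq_natCast_iff' a b p).1 h
  rw [← Nat.mod_add_div a p, ← Nat.mod_add_div b p, h', pow_add, pow_add, pow_mul, pow_mul, hp1,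
    one_pow, one_pow]

/-- Powers of an element shifting by `s ≥ 1` act linearly one step further. -/
theorem pow_dif {t : X} (ht : t ∈ S.T) {l s : ℕ}
    (h : ∀ u ∈ S.W l, t • u - u ∈ S.W (l + s)) : ∀ (n : ℕ), ∀ u ∈ S.W l,
    t ^ n • u - u - n • (t • u - u) ∈ S.W (l + s + 1) := by
  intro n
  induction n with
  | zero => intro u _; simp
  | succ n ih =>
    intro u hu
    have hD : t ^ n • u - u ∈ S.W (l + s) := by
      have := add_mem (S.W_succ_le _ (ih u hu)) (nsmul_mem (h u hu) n)
      rwa [sub_add_cancel] at this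
    have := add_mem (S.stab t ht _ _ hD) (ih u hu)
    rw [smul_sub, ← mul_smul, ← pow_succ'] at this
    rw [succ_nsmul]
    rwa [show t ^ (n + 1) • u - t • u - (t ^ n • u - u) + (t ^ n • u - u - n • (t • u - u)) =
      t ^ (n + 1) • u - u - (n • (t • u - u) + (t • u - u)) by abel] at this

theorem exists_wt {h : X} (hh : h ∈ Subgroup.normalizer (S.T : Set X)) :
    ∃ w : (ZMod p)ˣ, (∀ l, S.Scal h l ((w ^ (S.L + 1 + l) : (ZMod p)ˣ) : ZMod p)) ∧
      h * S.x * h⁻¹ * (S.x ^ (w : ZMod p).val)⁻¹ ∈ S.lev 0 ∧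
      ∀ k, ∀ a ∈ S.lev k,
        h * a * h⁻¹ * (a ^ ((w ^ (S.L + k + 2 - S.i) : (ZMod p)ˣ) : ZMod p).val)⁻¹ ∈ S.lev (k + 1) := by
  obtain ⟨α, β, hx, hlev, htop⟩ := S.weights h hh
  set μ := β * α ^ (S.i - 1) with hμ
  have hlayer : ∀ (l : ℕ), ∀ v ∈ S.W l, h • v - (μ * α ^ l) • v ∈ S.W (l + 1) := by
    intro l
    induction l with
    | zero => intro v _; rw [pow_zero, mul_one]; exact htop v
    | succ l ih =>
      intro v hv
      obtain ⟨w, hw, rfl⟩ := S.exists_dif' hv
      set c := μ * α ^ l with hc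
      set a := h * S.x * h⁻¹ * (S.x ^ α)⁻¹ with ha
      have hconj : h • (S.x • w - w) = a • (S.x ^ α • (h • w)) - h • w := by
        rw [smul_sub, ha, ← mul_smul, ← mul_smul, ← mul_smul]; group
      have hhw : h • w ∈ S.W l := S.smul_mem_W' hh hw
      have h1 : a • (S.x ^ α • (h • w)) - S.x ^ α • (h • w) ∈ S.W (l + 2) := by
        have := S.shift 0 a hx l _ (S.smul_mem_W (pow_mem S.x_mem α) hhw)
        simpa using this
      have h2 : S.x ^ α • (h • w) - h • w - α • (S.x • (h • w) - h • w) ∈ S.W (l + 2) :=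
        S.pow_dif S.x_mem (fun u hu => S.stab _ S.x_mem l u hu) α _ hhw
      have h3 : S.x • (h • w) - h • w - c • (S.x • w - w) ∈ S.W (l + 2) := by
        have := S.stab _ S.x_mem _ _ (ih w hw)
        rwa [smul_sub, smul_comm S.x c w, sub_sub_sub_comm, ← nsmul_sub] at this
      have := add_mem (add_mem h1 h2) (nsmul_mem h3 α)
      rw [show μ * α ^ (l + 1) = α * c by rw [hc, pow_succ]; ring, mul_smul, hconj]
      rw [smul_sub α (S.x • (h • w) - h • w)] at this
      refine cast ?_ this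
      congr 1
      abel
  have hd3 := S.three_le_d
  obtain ⟨v0, hv0, hv01⟩ := S.exists_exact (l := 0) (by omega)
  have hμ0 : (μ : ZMod p) ≠ 0 := by
    intro h0
    refine hv01 ?_
    have h4 := htop (h⁻¹ • v0)
    rwa [smul_inv_smul, S.nsmul_eq (b := 0) (by simpa using h0), zero_smul, sub_zero] at h4
  have hα0 : (α : ZMod p) ≠ 0 := fun h0 => hμ0 (by
    rw [hμ, Nat.cast_mul, Nat.cast_pow, h0, zero_pow (by have := S.two_le; omega), mul_zero])
  -- the last layer of `lev 0`
  obtain ⟨z, hz, hz1⟩ := S.exists_last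
  have hzL : (α : ZMod p) ^ S.L = β * α ^ (S.i - 2) := by
    set n := β * α ^ (S.i - 2) with hn
    have hzn : h * z * h⁻¹ = z ^ n := by
      have := hlev _ z hz
      rwa [S.lev_bot _ (by have := S.two_le; omega), Subgroup.mem_bot, mul_inv_eq_one] at this
    set u := z • v0 - v0 with hu
    have hu0 : u ∈ S.W S.L := by simpa using S.last_shift hz 0 v0 hv0
    have hu1 : u ∉ S.W (S.L + 1) := by
      simpa using S.last_exact hz hz1 0 (by simpa using S.L_lt) v0 hv0 hv01
    have e1 := hlayer S.L u hu0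
    have e2 : z ^ n • (h • v0) - h • v0 - n • (z • (h • v0) - h • v0) ∈ S.W (S.L + 1) := by
      simpa using S.pow_dif (S.lev_le_T _ hz) (l := 0) (s := S.L) (fun w hw => S.last_shift hz 0 w hw) n
        (h • v0) (by rw [S.W_zero]; exact AddSubgroup.mem_top _)
    have e3 : z • (h • v0) - h • v0 - μ • u ∈ S.W (S.L + 1) := by
      have := S.last_shift hz 1 _ (htop v0)
      rw [smul_sub, smul_comm z μ v0, sub_sub_sub_comm, ← nsmul_sub, Nat.add_comm 1] at this
      exact this
    have e4 : h • u = z ^ n • (h • v0) - h • v0 := by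
      rw [hu, smul_sub, ← hzn, ← mul_smul, ← mul_smul]; group
    have e5 := sub_mem (add_mem e2 (nsmul_mem e3 n)) e1
    rw [smul_sub n (z • (h • v0) - h • v0) (μ • u), ← mul_smul n μ u, e4] at e5
    have e6 : (μ * α ^ S.L) • u - (n * μ) • u ∈ S.W (S.L + 1) := by
      refine cast ?_ e5
      congr 1
      abel
    have key : ((μ * α ^ S.L : ℕ) : ZMod p) = ((n * μ : ℕ) : ZMod p) := by
      have hle : ∀ a b : ℕ, a • u - b • u ∈ S.W (S.L + 1) → (a : ZMod p) = b := by
        intro a b hab
        have h2 : (((a : ZMod p) - b).val) • u = a • u - b • u := by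
          rw [eq_sub_iff_add_eq, ← add_smul]
          exact S.nsmul_eq (by simp) u
        have := S.cast_eq_zero hu0 hu1 (h2 ▸ hab)
        rwa [ZMod.natCast_val, ZMod.cast_id, sub_eq_zero] at this
      exact hle _ _ e6
    rw [Nat.cast_mul μ, Nat.cast_pow, Nat.cast_mul n μ, mul_comm (n : ZMod p)] at key
    rw [mul_left_cancel₀ hμ0 key, hn, Nat.cast_mul, Nat.cast_pow]
  refine ⟨Units.mk0 (α : ZMod p) hα0, fun l => ?_, ?_, fun k a ha => ?_⟩
  · have : ((Units.mk0 (α : ZMod p) hα0 ^ (S.L + 1 + l) : (ZMod p)ˣ) : ZMod p) =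
        ((μ * α ^ l : ℕ) : ZMod p) := by
      rw [Units.val_pow_eq_pow_val, Units.val_mk0, pow_add, pow_add, hzL, hμ]
      push_cast
      rw [show S.i - 1 = S.i - 2 + 1 by have := S.two_le; omega, pow_succ (α : ZMod p) (S.i - 2), pow_one]
      ring
    rw [this]
    exact S.scal_of_nat (hlayer l)
  · rw [Units.val_mk0, S.pow_congr S.x_mem (b := α) (by simp)]
    exact hx
  · rcases le_or_gt (S.i - 1) k with hk | hk
    · have ha1 : a = 1 := by
        rw [S.lev_bot k (by omega), Subgroup.mem_bot] at ha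
        exact ha
      subst ha1
      simp
    · rw [S.pow_congr (S.lev_le_T k ha) (b := β * α ^ k) ?_]
      · exact hlev k a ha
      rw [ZMod.natCast_val, ZMod.cast_id, Units.val_pow_eq_pow_val, Units.val_mk0, Nat.cast_mul,
        Nat.cast_pow]
      refine mul_right_cancel₀ (pow_ne_zero (S.i - 2) hα0) ?_
      have hiL := S.i_le_L
      have hi := S.two_le
      rw [← pow_add, show S.L + k + 2 - S.i + (S.i - 2) = S.L + k by omega, pow_add, hzL]
      ring

/-- The weight character of the normalizer of the Sylow subgroup. -/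
noncomputable def wt : ↥(Subgroup.normalizer (S.T : Set X)) →* (ZMod p)ˣ where
  toFun h := (S.exists_wt h.2).choose
  map_one' := by
    have hd3 := S.three_le_d
    obtain ⟨h1, -, -⟩ := (S.exists_wt (one_mem (Subgroup.normalizer (S.T : Set X)))).choose_spec
    set w := (S.exists_wt (one_mem (Subgroup.normalizer (S.T : Set X)))).choose with hw
    have e0 := S.scal_unique (l := 0) (by omega) (h1 0) (S.scal_of_mem_T (one_mem S.T) 0)
    have e1 := S.scal_unique (l := 1) (by omega) (h1 1) (S.scal_of_mem_T (one_mem S.T) 1)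
    rw [Units.val_eq_one] at e0 e1
    rw [Nat.add_zero] at e0
    rw [pow_succ, e0, one_mul] at e1
    exact e1
  map_mul' := by
    intro a b
    have hd3 := S.three_le_d
    obtain ⟨ha, -, -⟩ := (S.exists_wt a.2).choose_spec
    obtain ⟨hb, -, -⟩ := (S.exists_wt b.2).choose_spec
    obtain ⟨hab, -, -⟩ := (S.exists_wt (a * b).2).choose_spec
    set u := (S.exists_wt a.2).choose with hu
    set v := (S.exists_wt b.2).choose with hv
    set w := (S.exists_wt (a * b).2).choose with hw
    have hmul : ∀ l, l < S.d → w ^ (S.L + 1 + l) = (u * v) ^ (S.L + 1 + l) := fun l hl => by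
      refine Units.ext ?_
      rw [mul_pow, Units.val_mul]
      exact S.scal_unique hl (hab l) (S.scal_mul (ha l) (hb l) fun x hx => S.smul_mem_W' a.2 hx)
    have e0 := hmul 0 (by omega)
    have e1 := hmul 1 (by omega)
    rw [Nat.add_zero] at e0
    rw [pow_succ w (S.L + 1), pow_succ (u * v) (S.L + 1), e0] at e1
    exact mul_left_cancel e1

/-- The weight on the layers of the module. -/
theorem wt_scal (h : ↥(Subgroup.normalizer (S.T : Set X))) (l : ℕ) :
    S.Scal (h : X) l ((S.wt h ^ (S.L + 1 + l) : (ZMod p)ˣ) : ZMod p) :=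
  (S.exists_wt h.2).choose_spec.1 l

/-- The weight on `x`. -/
theorem wt_x (h : ↥(Subgroup.normalizer (S.T : Set X))) :
    (h : X) * S.x * (h : X)⁻¹ * (S.x ^ (S.wt h : ZMod p).val)⁻¹ ∈ S.lev 0 :=
  (S.exists_wt h.2).choose_spec.2.1

/-- The weight on the layers of `lev 0`. -/
theorem wt_lev (h : ↥(Subgroup.normalizer (S.T : Set X))) {k : ℕ} {a : X} (ha : a ∈ S.lev k) :
    (h : X) * a * (h : X)⁻¹ *
      (a ^ ((S.wt h ^ (S.L + k + 2 - S.i) : (ZMod p)ˣ) : ZMod p).val)⁻¹ ∈ S.lev (k + 1) :=
  (S.exists_wt h.2).choose_spec.2.2 k a ha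

/-- The elements of trivial weight are those of `T`. -/
theorem wt_eq_one_iff (h : ↥(Subgroup.normalizer (S.T : Set X))) : S.wt h = 1 ↔ (h : X) ∈ S.T := by
  haveI : Fact (1 < p) := ⟨hp.out.one_lt⟩
  constructor
  · intro h1
    refine S.mem_T_of_triv fun l v hv => ?_
    have := S.wt_scal h l v hv
    rwa [h1, one_pow, Units.val_one, ZMod.val_one, one_smul] at this
  · intro ht
    have hd3 := S.three_le_d
    have e0 := S.scal_unique (l := 0) (by omega) (S.wt_scal h 0) (S.scal_of_mem_T ht 0)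
    have e1 := S.scal_unique (l := 1) (by omega) (S.wt_scal h 1) (S.scal_of_mem_T ht 1)
    rw [Units.val_eq_one] at e0 e1
    rw [Nat.add_zero] at e0
    rw [pow_succ, e0, one_mul] at e1
    exact e1

end Sys

end Cfsg.Agent.MaxClassLin
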